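import Mathlib
import Cfsg.Agent.S3799
import Cfsg.Agent.LThreeFi24.Twin
import Cfsg.Agent.H831.ConjAut
import Cfsg.Agent.SignalizersComponents.FStarPCore
import Cfsg.Agent.H841.Phi_m3
import Cfsg.Agent.H834.U5Main
import Cfsg.Agent.LThreeFi24.CaseB
import Cfsg.Agent.Lib.PermNetFast
import Cfsg.Agent.S0280
import Cfsg.Agent.S0283
import Cfsg.Agent.ClassicalGeometry.PSUAutMain
import Cfsg.Agent.ClassicalGeometry.PSUAutCount
import Cfsg.Agent.H841.Transport
import Cfsg.Agent.Lib.GenFitting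
import Cfsg.Agent.H162.GaussSL
import Mathlib.Algebra.Polynomial.SpecificDegree
import Mathlib.LinearAlgebra.Matrix.Charpoly.Coeff
import Cfsg.Prelude.Def_Classification2
import Cfsg.Agent.H134.Sq.Base_m3
import Cfsg.Agent.FastGrp
import Cfsg.Agent.Prune
set_option linter.all false

section
prune_inst 0x7ff0fefb8df8bfffffff7e7fffdfdffff9fcffffbfdffbcbffe8ebffcfdf4b06f9e56bad1fe8d8ff5ed660be30f87b53f9ffca3fef6bdc7ffffd5ff45ffb7f9ff7ffbdad71d7ac3e1ffe6ffffbf07f8e7f3fffffffffffffffffffffffffffbeffffffffffff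

-- part: H841/ExtA
section
set_option linter.all false
open scoped Cfsg.Agent.FastGrp

/-!
# Central products of groups of exponent three and class two (helper841)
-/

set_option autoImplicit false

namespace Cfsg.Agent.H841.Ext

open Subgroup
open scoped commutatorElement

variable {X : Type*} [Group X]

/-- `P` is of exponent three with `[P, P] ≤ Z = Z(P)` -/
structure ES (Z P : Subgroup X) : Prop where
  le : Z ≤ P
  cen : ∀ z ∈ Z, ∀ g ∈ P, Commute z g
  com : ∀ g ∈ P, ∀ h ∈ P, g * h * g⁻¹ * h⁻¹ ∈ Z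
  cub : ∀ g ∈ P, g ^ 3 = 1
  nd : ∀ g ∈ P, (∀ h ∈ P, Commute g h) → g ∈ Z

theorem mem_sup_of_comm {P R : Subgroup X} (h : ∀ g ∈ P, ∀ r ∈ R, Commute g r) {x : X} :
    x ∈ P ⊔ R ↔ ∃ g ∈ P, ∃ r ∈ R, x = g * r := by
  constructor
  · intro hx
    rw [Subgroup.sup_eq_closure_mul] at hx
    induction hx using Subgroup.closure_induction with
    | mem y hy =>
      obtain ⟨g, hg, r, hr, rfl⟩ := hy
      exact ⟨g, hg, r, hr, rfl⟩
    | one => exact ⟨1, one_mem _, 1, one_mem _, (mul_one 1).symm⟩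
    | mul a b _ _ iha ihb =>
      obtain ⟨g, hg, r, hr, rfl⟩ := iha
      obtain ⟨g', hg', r', hr', rfl⟩ := ihb
      refine ⟨g * g', mul_mem hg hg', r * r', mul_mem hr hr', ?_⟩
      calc g * r * (g' * r') = g * (r * g') * r' := by simp only [mul_assoc]
        _ = g * (g' * r) * r' := by rw [(h g' hg' r hr).eq]
        _ = g * g' * (r * r') := by simp only [mul_assoc]
    | inv a _ iha =>
      obtain ⟨g, hg, r, hr, rfl⟩ := iha
      refine ⟨g⁻¹, inv_mem hg, r⁻¹, inv_mem hr, ?_⟩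
      rw [mul_inv_rev]
      exact (h _ (inv_mem hg) _ (inv_mem hr)).symm.eq
  · rintro ⟨g, hg, r, hr, rfl⟩
    exact mul_mem (Subgroup.mem_sup_left hg) (Subgroup.mem_sup_right hr)

theorem ES.sup {Z P R : Subgroup X} (hP : ES Z P) (hR : ES Z R) (h : ∀ g ∈ P, ∀ r ∈ R, Commute g r) : ES Z (P ⊔ R) where
  le := hP.le.trans le_sup_left
  cen := by
    intro z hz x hx
    obtain ⟨g, hg, r, hr, rfl⟩ := (mem_sup_of_comm h).1 hx
    exact (hP.cen z hz g hg).mul_right (hR.cen z hz r hr)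
  com := by
    intro x hx y hy
    obtain ⟨g, hg, r, hr, rfl⟩ := (mem_sup_of_comm h).1 hx
    obtain ⟨g', hg', r', hr', rfl⟩ := (mem_sup_of_comm h).1 hy
    have h1 := hP.com g hg g' hg'
    have h2 := hR.com r hr r' hr'
    have e : g * r * (g' * r') * (g * r)⁻¹ * (g' * r')⁻¹ = (g * g' * g⁻¹ * g'⁻¹) * (r * r' * r⁻¹ * r'⁻¹) := by
      have c1 := (h g' hg' r hr).eq
      have c2 := (h _ (mul_mem (mul_mem hg hg') (inv_mem hg)) _ (mul_mem (mul_mem hr hr') (inv_mem hr))).eq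
      have c3 := (h _ (inv_mem hg) _ (mul_mem (mul_mem hr hr') (inv_mem hr))).eq
      have c4 := (h _ (inv_mem hg') _ (mul_mem (mul_mem (mul_mem hr hr') (inv_mem hr)) (inv_mem hr'))).eq
      calc g * r * (g' * r') * (g * r)⁻¹ * (g' * r')⁻¹
          = g * (r * g') * (r' * r⁻¹) * (g⁻¹ * r'⁻¹) * g'⁻¹ := by group
        _ = g * (g' * r) * (r' * r⁻¹) * (r'⁻¹ * g⁻¹) * g'⁻¹ := by rw [c1, (h _ (inv_mem hg) _ (inv_mem hr')).eq]
        _ = g * g' * ((r * r' * r⁻¹ * r'⁻¹) * g⁻¹) * g'⁻¹ := by group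
        _ = g * g' * (g⁻¹ * (r * r' * r⁻¹ * r'⁻¹)) * g'⁻¹ := by
            rw [(h _ (inv_mem hg) _ (mul_mem (mul_mem (mul_mem hr hr') (inv_mem hr)) (inv_mem hr'))).eq]
        _ = g * g' * g⁻¹ * ((r * r' * r⁻¹ * r'⁻¹) * g'⁻¹) := by group
        _ = g * g' * g⁻¹ * (g'⁻¹ * (r * r' * r⁻¹ * r'⁻¹)) := by rw [c4]
        _ = _ := by group
    rw [e]
    exact mul_mem h1 h2
  cub := by
    intro x hx
    obtain ⟨g, hg, r, hr, rfl⟩ := (mem_sup_of_comm h).1 hx
    rw [(h g hg r hr).mul_pow, hP.cub g hg, hR.cub r hr, one_mul]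
  nd := by
    intro x hx hc
    obtain ⟨g, hg, r, hr, rfl⟩ := (mem_sup_of_comm h).1 hx
    have h1 : g ∈ Z := by
      apply hP.nd g hg
      intro y hy
      have h2 := hc y (Subgroup.mem_sup_left hy)
      have h3 := h2.mul_left ((h y hy _ (inv_mem hr)).symm)
      rwa [mul_inv_cancel_right] at h3
    have h2 : r ∈ Z := by
      apply hR.nd r hr
      intro y hy
      have h2 := hc y (Subgroup.mem_sup_right hy)
      have h3 := (h _ (inv_mem hg) y hy).mul_left h2
      rwa [inv_mul_cancel_left] at h3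
    exact mul_mem h1 h2

theorem ES.inf {Z P R : Subgroup X} (hP : ES Z P) (hR : ES Z R) (h : ∀ g ∈ P, ∀ r ∈ R, Commute g r) : P ⊓ R = Z := by
  apply le_antisymm
  · rintro x ⟨h1, h2⟩
    exact hP.nd x h1 fun y hy => (h y hy x h2).symm
  · exact le_inf hP.le hR.le

theorem card_sup_of_comm {P R : Subgroup X} [Finite P] [Finite R] (h : ∀ g ∈ P, ∀ r ∈ R, Commute g r) :
    Nat.card ↥(P ⊔ R) * Nat.card ↥(P ⊓ R) = Nat.card P * Nat.card R := by
  let f : ↥P × ↥R →* X := MonoidHom.noncommCoprod P.subtype R.subtype fun a b => h a a.2 b b.2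
  have hf : ∀ a : ↥P × ↥R, f a = (a.1 : X) * (a.2 : X) := fun a => rfl
  have hr : f.range = P ⊔ R := by
    ext x
    rw [mem_sup_of_comm h]
    constructor
    · rintro ⟨⟨a, b⟩, rfl⟩
      exact ⟨a, a.2, b, b.2, rfl⟩
    · rintro ⟨g, hg, r, hr, rfl⟩
      exact ⟨(⟨g, hg⟩, ⟨r, hr⟩), rfl⟩
  have hk : Nat.card f.ker = Nat.card ↥(P ⊓ R) := by
    refine Nat.card_congr
      { toFun := fun a => ⟨(a : ↥P × ↥R).1, Subgroup.mem_inf.2 ⟨(a : ↥P × ↥R).1.2, ?_⟩⟩
        invFun := fun a => ⟨(⟨a, (Subgroup.mem_inf.1 a.2).1⟩, ⟨(a : X)⁻¹, R.inv_mem (Subgroup.mem_inf.1 a.2).2⟩), ?_⟩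
        left_inv := ?_
        right_inv := fun a => rfl }
    · have h1 : ((a : ↥P × ↥R).1 : X) * ((a : ↥P × ↥R).2 : X) = 1 := a.2
      rw [eq_inv_of_mul_eq_one_left h1]
      exact inv_mem (a : ↥P × ↥R).2.2
    · show (a : X) * (a : X)⁻¹ = 1
      exact mul_inv_cancel _
    · rintro ⟨⟨a, b⟩, hab⟩
      have h1 : (a : X) * (b : X) = 1 := hab
      apply Subtype.ext
      apply Prod.ext
      · rfl
      · apply Subtype.ext
        exact (eq_inv_of_mul_eq_one_right h1).symm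
  have h1 := Subgroup.card_eq_card_quotient_mul_card_subgroup f.ker
  rw [Nat.card_congr (QuotientGroup.quotientKerEquivRange f).toEquiv, Nat.card_prod, hk, hr] at h1
  exact h1.symm

theorem ES.card_sup {Z P R : Subgroup X} [Finite P] [Finite R] (hP : ES Z P) (hR : ES Z R)
    (h : ∀ g ∈ P, ∀ r ∈ R, Commute g r) : Nat.card ↥(P ⊔ R) * Nat.card Z = Nat.card P * Nat.card R := by
  rw [← card_sup_of_comm h, hP.inf hR h]

theorem ES.center {Z P : Subgroup X} (h : ES Z P) : Subgroup.center P = Z.subgroupOf P := by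
  ext x
  rw [Subgroup.mem_center_iff, Subgroup.mem_subgroupOf]
  constructor
  · intro hx
    exact h.nd x x.2 fun y hy => (congrArg Subtype.val (hx ⟨y, hy⟩)).symm
  · intro hx y
    exact Subtype.ext (h.cen x hx y y.2).symm.eq

theorem ES.isPGroup {Z P : Subgroup X} (h : ES Z P) : IsPGroup 3 P := fun g =>
  ⟨1, Subtype.ext (by rw [pow_one]; exact h.cub g g.2)⟩

theorem ES.isExtraspecial {Z P : Subgroup X} [Finite P] (h : ES Z P) (hZ : Nat.card Z = 3) (hne : P ≠ Z) :
    Cfsg.IsExtraspecial 3 P := by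
  have : Fact (Nat.Prime 3) := ⟨Nat.prime_three⟩
  have hc : Nat.card (Subgroup.center P) = 3 := by
    rw [h.center, ← hZ]
    exact Nat.card_congr (Subgroup.subgroupOfEquivOfLe h.le).toEquiv
  refine Cfsg.Agent.S3799.isExtraspecial_crit h.isPGroup hc ?_ ?_ ?_
  · intro x y
    rw [h.center, Subgroup.mem_subgroupOf]
    exact h.com x x.2 y y.2
  · intro x
    have h1 : x ^ 3 = 1 := Subtype.ext (h.cub x x.2)
    rw [h1]
    exact one_mem _
  · by_contra hcon
    push Not at hcon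
    apply hne
    apply le_antisymm _ h.le
    intro g hg
    exact h.nd g hg fun y hy => congrArg Subtype.val (hcon ⟨g, hg⟩ ⟨y, hy⟩)

end Cfsg.Agent.H841.Ext
end

-- part: H841/ExtD
section
prune_inst 0xc00002201000000000180002000000401000040000030001514003020206906129012e0170600a0219300870200a804001100009021000002000820048000080042020c28108100001000040f807180c00000000000000000000000000041000000000000
set_option linter.all false
open scoped Cfsg.Agent.FastGrp

-- part: H841/ExtB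
section
/-!
# Twins and extraspecial groups (helper841)

`X` a finite group, `D` a set of 3-transpositions closed under conjugation, `z` the product of five commuting members of `D`.
-/

set_option autoImplicit false

namespace Cfsg.Agent.H841.Ext

open Subgroup
open Cfsg.Agent.LThreeFi24.Comp Cfsg.Agent.LThreeFi24.Twin

variable {X : Type*} [Group X]

/-- the group of the twins of `t` -/
def Qc (D : Set X) (t : X) : Subgroup X := Subgroup.closure {g | ∃ e ∈ D, Tw D t e ∧ g = t * e}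

theorem mem_Qc {D : Set X} {t e : X} (he : e ∈ D) (h : Tw D t e) : t * e ∈ Qc D t :=
  Subgroup.subset_closure ⟨e, he, h, rfl⟩

theorem tw_conj_self {D : Set X} (h : TSet D) {a b : X} (ha : a ∈ D) (hb : b ∈ D) (ht : Tw D a b) (g : X)
    (hg : g ∈ D) : Tw D ((a * b) * g * (a * b)⁻¹) g := by
  have h1 := Tw.act h ha hb hg ht
  have h2 := h1.conj h a
  have e1 : a * (a * g * a⁻¹) * a⁻¹ = g := by
    rw [h.inv_eq ha]
    calc a * (a * g * a) * a = (a * a) * g * (a * a) := by simp only [mul_assoc]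
      _ = g := by rw [h.sq a ha, one_mul, mul_one]
  have e2 : a * (b * g * b⁻¹) * a⁻¹ = (a * b) * g * (a * b)⁻¹ := by group
  rw [e1, e2] at h2
  exact h2.symm

/-- the elements fixing all classes of twins -/
def Fx (D : Set X) (n : X) : Prop := ∀ e ∈ D, Tw D (n * e * n⁻¹) e

theorem Fx.mul {D : Set X} (h : TSet D) {m n : X} (hm : Fx D m) (hn : Fx D n) : Fx D (m * n) := by
  intro e he
  have h1 := (hn e he).conj h m
  have e1 : m * (n * e * n⁻¹) * m⁻¹ = (m * n) * e * (m * n)⁻¹ := by group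
  rw [e1] at h1
  exact h1.trans (hm e he)

theorem Fx.one {D : Set X} : Fx D (1 : X) := fun e _ => by
  have : (1 : X) * e * 1⁻¹ = e := by group
  rw [this]
  exact Tw.refl e

theorem Fx.inv {D : Set X} (h : TSet D) {m : X} (hm : Fx D m) : Fx D m⁻¹ := by
  intro e he
  have h1 := (hm e he).conj h m⁻¹
  have e1 : m⁻¹ * (m * e * m⁻¹) * m⁻¹⁻¹ = e := by group
  rw [e1] at h1
  exact h1.symm

theorem fx_of_mem {D : Set X} (h : TSet D) {u : X} (hu : u ∈ Subgroup.closure (Pr D)) : Fx D u := by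
  induction hu using Subgroup.closure_induction with
  | mem y hy =>
    obtain ⟨a, ha, b, hb, hab, -, rfl⟩ := hy
    exact fun e he => tw_conj_self h ha hb hab e he
  | one => exact Fx.one
  | mul a b _ _ iha ihb => exact iha.mul h ihb
  | inv a _ iha => exact iha.inv h

theorem inv_mem_Qc {D : Set X} (h : TSet D) {t e : X} (ht : t ∈ D) (he : e ∈ D) (hw : Tw D t e) : e * t ∈ Qc D t := by
  have h1 := inv_mem (mem_Qc he hw)
  rwa [mul_inv_rev, h.inv_eq ht, h.inv_eq he] at h1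

/-- the commutator with a member of `D` -/
theorem comm_mem_Qc {D : Set X} (h : TSet D) {n e : X} (he : e ∈ D) (hn : Tw D (n * e * n⁻¹) e) :
    n * e * n⁻¹ * e⁻¹ ∈ Qc D e := by
  rw [h.inv_eq he]
  exact inv_mem_Qc h he (h.cj e he n) hn.symm

theorem Qc_eq {D : Set X} (h : TSet D) {t e : X} (ht : t ∈ D) (he : e ∈ D) (hw : Tw D t e) : Qc D t = Qc D e := by
  have key : ∀ {t e : X}, t ∈ D → e ∈ D → Tw D t e → Qc D t ≤ Qc D e := by
    intro t e ht he hw
    unfold Qc
    rw [Subgroup.closure_le]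
    rintro _ ⟨f, hf, hw2, rfl⟩
    have e1 : t * f = (t * e) * (e * f) := by
      calc t * f = t * (e * e) * f := by rw [h.sq e he, mul_one]
        _ = _ := by simp only [mul_assoc]
    rw [e1]
    exact mul_mem (inv_mem_Qc h he ht hw.symm) (mem_Qc hf (hw.symm.trans hw2))
  exact le_antisymm (key ht he hw) (key he ht hw.symm)

theorem Qc_le {D : Set X} {t : X} (ht : t ∈ D) : Qc D t ≤ Subgroup.closure (Pr D) := by
  unfold Qc
  rw [Subgroup.closure_le]
  rintro _ ⟨e, he, hw, rfl⟩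
  exact Subgroup.subset_closure ⟨t, ht, e, he, hw, hw.nc ht he, rfl⟩

theorem comm_Qc {D : Set X} {t s : X} (hts : s ∈ Nb D t) {g : X} (hg : g ∈ Qc D t) : Commute s g := by
  induction hg using Subgroup.closure_induction with
  | mem y hy =>
    obtain ⟨e, _, hw, rfl⟩ := hy
    have h1 : s ∈ Nb D e := by rwa [← show Nb D t = Nb D e from hw]
    exact hts.2.2.symm.mul_right h1.2.2.symm
  | one => exact Commute.one_right _
  | mul a b _ _ iha ihb => exact iha.mul_right ihb
  | inv a _ iha => exact iha.inv_right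

theorem comm_Qc_Qc {D : Set X} {t s : X} (ht : t ∈ D) (hts : s ∈ Nb D t) {g r : X} (hg : g ∈ Qc D t)
    (hr : r ∈ Qc D s) : Commute g r := by
  induction hr using Subgroup.closure_induction with
  | mem y hy =>
    obtain ⟨e, he, hw, rfl⟩ := hy
    have h1 : t ∈ Nb D s := ⟨ht, fun h => hts.2.1 h.symm, hts.2.2.symm⟩
    have h2 : t ∈ Nb D e := by rwa [← show Nb D s = Nb D e from hw]
    have h3 : e ∈ Nb D t := ⟨he, fun h => h2.2.1 h.symm, h2.2.2.symm⟩
    exact ((comm_Qc hts hg).mul_left (comm_Qc h3 hg)).symm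
  | one => exact Commute.one_right _
  | mul a b _ _ iha ihb => exact iha.mul_right ihb
  | inv a _ iha => exact iha.inv_right

theorem Qc_conj {D : Set X} (h : TSet D) (t g : X) : (Qc D t).map (MulAut.conj g).toMonoidHom = Qc D (g * t * g⁻¹) := by
  unfold Qc
  rw [MonoidHom.map_closure]
  congr 1
  ext y
  constructor
  · rintro ⟨_, ⟨e, he, hw, rfl⟩, rfl⟩
    refine ⟨g * e * g⁻¹, h.cj e he g, hw.conj h g, ?_⟩
    show g * (t * e) * g⁻¹ = _
    group
  · rintro ⟨e, he, hw, rfl⟩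
    refine ⟨t * (g⁻¹ * e * g), ⟨g⁻¹ * e * g, ?_, ?_, rfl⟩, ?_⟩
    · have := h.cj e he g⁻¹
      rwa [inv_inv] at this
    · have h1 := hw.conj h g⁻¹
      have e1 : g⁻¹ * (g * t * g⁻¹) * g⁻¹⁻¹ = t := by group
      have e2 : g⁻¹ * e * g⁻¹⁻¹ = g⁻¹ * e * g := by group
      rwa [e1, e2] at h1
    · show g * (t * (g⁻¹ * e * g)) * g⁻¹ = _
      group

theorem conj_mem_Qc {D : Set X} (h : TSet D) {t g y : X} (hy : y ∈ Qc D t) : g * y * g⁻¹ ∈ Qc D (g * t * g⁻¹) := by
  rw [← Qc_conj h]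
  exact ⟨y, hy, rfl⟩

theorem ES.conj {Z P : Subgroup X} (h : ES Z P) (g : X) (hZ : ∀ z ∈ Z, g * z * g⁻¹ ∈ Z)
    (hZ' : ∀ z ∈ Z, g⁻¹ * z * g ∈ Z) : ES Z (P.map (MulAut.conj g).toMonoidHom) where
  le := by
    intro z hz
    refine ⟨g⁻¹ * z * g, h.le (hZ' z hz), ?_⟩
    show g * (g⁻¹ * z * g) * g⁻¹ = z
    group
  cen := by
    rintro z hz _ ⟨y, hy, rfl⟩
    have h1 := h.cen _ (hZ' z hz) y hy
    show z * (g * y * g⁻¹) = (g * y * g⁻¹) * z
    calc z * (g * y * g⁻¹) = g * ((g⁻¹ * z * g) * y) * g⁻¹ := by group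
      _ = g * (y * (g⁻¹ * z * g)) * g⁻¹ := by rw [h1.eq]
      _ = _ := by group
  com := by
    rintro _ ⟨y, hy, rfl⟩ _ ⟨w, hw, rfl⟩
    have h1 := hZ _ (h.com y hy w hw)
    have e : g * (y * w * y⁻¹ * w⁻¹) * g⁻¹ = (g * y * g⁻¹) * (g * w * g⁻¹) * (g * y * g⁻¹)⁻¹ * (g * w * g⁻¹)⁻¹ := by group
    rw [e] at h1
    exact h1
  cub := by
    rintro _ ⟨y, hy, rfl⟩
    rw [← map_pow, h.cub y hy, map_one]
  nd := by
    rintro _ ⟨y, hy, rfl⟩ hc
    apply hZ
    apply h.nd y hy
    intro w hw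
    have h1 := hc _ ⟨w, hw, rfl⟩
    exact (MulAut.conj g).injective (by
      have h2 : (MulAut.conj g) y * (MulAut.conj g) w = (MulAut.conj g) w * (MulAut.conj g) y := h1
      rw [map_mul, map_mul]
      exact h2)

/-! ### The five commuting members -/

/-- the data -/
structure Dat (D : Set X) (x z : X) (d : Fin 5 → X) : Prop where
  ts : TSet D
  nx : ∀ g : X, g * x * g⁻¹ = x ∨ g * x * g⁻¹ = x⁻¹
  cx : ∀ t ∈ D, Commute t x
  dD : ∀ i, d i ∈ D
  dz : z = d 0 * d 1 * d 2 * d 3 * d 4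
  dc : ∀ i j, i ≠ j → d j ∈ Nb D (d i)
  tr : ∀ t ∈ D, Commute t z → ∃ g, Commute g z ∧ g * t * g⁻¹ = d 0
  tw : ∀ e ∈ D, ∃ t ∈ D, Commute t z ∧ Tw D e t
  un : ∀ t ∈ D, Commute t z → Tw D (d 0) t → t = d 0
  es : ES (zpowers x) (Qc D (d 0))
  ne : ∃ e ∈ D, Tw D (d 0) e ∧ e ≠ d 0
  ce : ∀ c : X, (∀ t ∈ D, Commute t z → Commute c t) → c ∈ zpowers x ⊔ zpowers z

namespace Dat

variable {D : Set X} {x z : X} {d : Fin 5 → X} (H : Dat D x z d)

include H

theorem conj_Z (g : X) : ∀ y ∈ zpowers x, g * y * g⁻¹ ∈ zpowers x := by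
  rintro _ ⟨k, rfl⟩
  have e : g * x ^ k * g⁻¹ = (g * x * g⁻¹) ^ k := by rw [conj_zpow]
  show g * x ^ k * g⁻¹ ∈ _
  rw [e]
  rcases H.nx g with h | h
  · rw [h]; exact Subgroup.zpow_mem _ (mem_zpowers x) k
  · rw [h]; exact Subgroup.zpow_mem _ (inv_mem (mem_zpowers x)) k

theorem comm_d (i j : Fin 5) : Commute (d i) (d j) := by
  by_cases h : i = j
  · subst h; exact Commute.refl _
  · exact (H.dc i j h).2.2

theorem comm_dz (i : Fin 5) : Commute (d i) z := by
  rw [H.dz]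
  exact ((((H.comm_d i 0).mul_right (H.comm_d i 1)).mul_right (H.comm_d i 2)).mul_right (H.comm_d i 3)).mul_right
    (H.comm_d i 4)

theorem zz : z * z = 1 := by
  have h : ∀ i, d i * d i = 1 := fun i => H.ts.sq _ (H.dD i)
  have c := fun i j => (H.comm_d i j).eq
  have h2 : ∀ a b : X, a * a = 1 → b * b = 1 → a * b = b * a → a * b * (a * b) = 1 := by
    intro a b ha hb hab
    calc a * b * (a * b) = a * (b * a) * b := by simp only [mul_assoc]
      _ = a * (a * b) * b := by rw [hab]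
      _ = (a * a) * (b * b) := by simp only [mul_assoc]
      _ = 1 := by rw [ha, hb, one_mul]
  rw [H.dz]
  apply h2 _ _ _ (h 4)
  · exact ((((H.comm_d 0 4).mul_left (H.comm_d 1 4)).mul_left (H.comm_d 2 4)).mul_left (H.comm_d 3 4)).eq
  apply h2 _ _ _ (h 3)
  · exact (((H.comm_d 0 3).mul_left (H.comm_d 1 3)).mul_left (H.comm_d 2 3)).eq
  apply h2 _ _ _ (h 2)
  · exact ((H.comm_d 0 2).mul_left (H.comm_d 1 2)).eq
  exact h2 _ _ (h 0) (h 1) (c 0 1)

/-- `z` inverts the products of twins of `d 0` -/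
theorem z_inv0 {e : X} (he : e ∈ D) (hw : Tw D (d 0) e) : z * (d 0 * e) * z⁻¹ = (d 0 * e)⁻¹ := by
  have h1 : ∀ j : Fin 5, 0 ≠ j → Commute (d j) (d 0 * e) := fun j hj => comm_Qc (H.dc 0 j hj) (mem_Qc he hw)
  have h2 : Commute (d 1 * d 2 * d 3 * d 4) (d 0 * e) :=
    (((h1 1 (by decide)).mul_left (h1 2 (by decide))).mul_left (h1 3 (by decide))).mul_left (h1 4 (by decide))
  have e1 : z = d 0 * (d 1 * d 2 * d 3 * d 4) := by rw [H.dz]; simp only [mul_assoc]
  rw [e1]
  calc d 0 * (d 1 * d 2 * d 3 * d 4) * (d 0 * e) * (d 0 * (d 1 * d 2 * d 3 * d 4))⁻¹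
      = d 0 * ((d 1 * d 2 * d 3 * d 4) * (d 0 * e)) * (d 1 * d 2 * d 3 * d 4)⁻¹ * (d 0)⁻¹ := by group
    _ = d 0 * ((d 0 * e) * (d 1 * d 2 * d 3 * d 4)) * (d 1 * d 2 * d 3 * d 4)⁻¹ * (d 0)⁻¹ := by rw [h2.eq]
    _ = d 0 * d 0 * e * (d 0)⁻¹ := by group
    _ = e * d 0 := by rw [H.ts.sq _ (H.dD 0), one_mul, H.ts.inv_eq (H.dD 0)]
    _ = (d 0 * e)⁻¹ := by rw [mul_inv_rev, H.ts.inv_eq (H.dD 0), H.ts.inv_eq he]

/-- `z` inverts the products of twins of the members commuting with `z` -/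
theorem z_inv {t e : X} (ht : t ∈ D) (hz : Commute t z) (he : e ∈ D) (hw : Tw D t e) :
    z * (t * e) * z⁻¹ = (t * e)⁻¹ := by
  obtain ⟨g, hg, h1⟩ := H.tr t ht hz
  have h2 := H.z_inv0 (H.ts.cj e he g) (by rw [← h1]; exact hw.conj H.ts g)
  rw [← h1] at h2
  have h3 : g * t * g⁻¹ * (g * e * g⁻¹) = g * (t * e) * g⁻¹ := by group
  rw [h3] at h2
  have h4 : z * g = g * z := hg.symm.eq
  have h5 : z * (g * (t * e) * g⁻¹) * z⁻¹ = g * (z * (t * e) * z⁻¹) * g⁻¹ := by
    calc z * (g * (t * e) * g⁻¹) * z⁻¹ = (z * g) * (t * e) * (z * g)⁻¹ := by group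
      _ = (g * z) * (t * e) * (g * z)⁻¹ := by rw [h4]
      _ = _ := by group
  rw [h5] at h2
  calc z * (t * e) * z⁻¹ = g⁻¹ * (g * (z * (t * e) * z⁻¹) * g⁻¹) * g := by group
    _ = g⁻¹ * (g * (t * e) * g⁻¹)⁻¹ * g := by rw [h2]
    _ = _ := by group

omit H in
theorem le_i (i : Fin 5) : Qc D (d i) ≤ ⨆ i, Qc D (d i) := le_iSup (fun i => Qc D (d i)) i

/-- the central product of the five groups -/
theorem comm_prod_mem {n : X} (hn : ∀ i, Tw D (n * d i * n⁻¹) (d i)) : ∀ l : List (Fin 5),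
    n * (l.map d).prod * n⁻¹ * ((l.map d).prod)⁻¹ ∈ ⨆ i, Qc D (d i)
  | [] => by
    rw [List.map_nil, List.prod_nil, mul_one, mul_inv_cancel, inv_one, mul_one]
    exact one_mem _
  | i :: l => by
    have ih := comm_prod_mem hn l
    rw [List.map_cons, List.prod_cons]
    have e : n * (d i * (l.map d).prod) * n⁻¹ * (d i * (l.map d).prod)⁻¹ =
        (n * d i * n⁻¹ * (d i)⁻¹) * (d i * (n * (l.map d).prod * n⁻¹ * ((l.map d).prod)⁻¹) * (d i)⁻¹) := by group
    rw [e]
    refine mul_mem ?_ ?_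
    · exact le_i i (comm_mem_Qc H.ts (H.dD i) (hn i))
    · -- `d i` normalizes
      have h1 : ∀ y ∈ ⨆ i, Qc D (d i), d i * y * (d i)⁻¹ ∈ ⨆ i, Qc D (d i) := by
        intro y hy
        have h2 : (⨆ i, Qc D (d i)) ≤ (⨆ i, Qc D (d i)).comap (MulAut.conj (d i)).toMonoidHom := by
          apply iSup_le
          intro j w hw
          by_cases hij : i = j
          · subst hij
            have h3 := conj_mem_Qc H.ts (g := d i) hw
            rw [mul_inv_cancel_right] at h3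
            exact le_i i h3
          · have h3 := comm_Qc (H.dc j i (Ne.symm hij)) hw
            have h4 : d i * w * (d i)⁻¹ = w := by rw [h3.eq, mul_inv_cancel_right]
            show d i * w * (d i)⁻¹ ∈ ⨆ i, Qc D (d i)
            rw [h4]
            exact le_i j hw
        exact h2 hy
      exact h1 _ ih

theorem comm_z_mem {n : X} (hn : Fx D n) : n * z * n⁻¹ * z⁻¹ ∈ ⨆ i, Qc D (d i) := by
  have h := H.comm_prod_mem (fun i => hn _ (H.dD i)) [0, 1, 2, 3, 4]
  have e : ([0, 1, 2, 3, 4].map d).prod = z := by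
    rw [H.dz]
    simp only [List.map_cons, List.map_nil, List.prod_cons, List.prod_nil, mul_one, mul_assoc]
  rwa [e] at h

theorem cube {a b : X} (ha : a ∈ D) (hb : b ∈ D) (hw : Tw D a b) : (a * b) ^ 3 = 1 := by
  have h3 := TSet.swap H.ts ha hb (hw.nc ha hb)
  rw [H.ts.inv_eq ha, H.ts.inv_eq hb] at h3
  have h4 := H.ts.sq a ha
  have h5 := H.ts.sq b hb
  calc (a * b) ^ 3 = (a * b * a) * (b * a * b) := by simp only [pow_succ, pow_zero, one_mul, mul_assoc]
    _ = (a * b * a) * (a * b * a) := by rw [h3]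
    _ = a * b * (a * a) * b * a := by simp only [mul_assoc]
    _ = a * (b * b) * a := by rw [h4, mul_one]; simp only [mul_assoc]
    _ = 1 := by rw [h5, mul_one, h4]

theorem Qc_le_sup {t : X} (ht : t ∈ D) (hz : Commute t z) : Qc D t ≤ ⨆ i, Qc D (d i) := by
  unfold Qc
  rw [Subgroup.closure_le]
  rintro _ ⟨e, he, hw, rfl⟩
  have h1 := H.comm_z_mem (n := t * e) (fun f hf => tw_conj_self H.ts ht he hw f hf)
  have h2 := H.z_inv ht hz he hw
  have h3 : (t * e) * z * (t * e)⁻¹ * z⁻¹ = (t * e)⁻¹ := by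
    have h4 : z * (t * e)⁻¹ * z⁻¹ = t * e := by
      calc z * (t * e)⁻¹ * z⁻¹ = (z * (t * e) * z⁻¹)⁻¹ := by group
        _ = t * e := by rw [h2, inv_inv]
    calc (t * e) * z * (t * e)⁻¹ * z⁻¹ = (t * e) * (z * (t * e)⁻¹ * z⁻¹) := by group
      _ = (t * e) * (t * e) := by rw [h4]
      _ = (t * e)⁻¹ := by
        rw [eq_inv_iff_mul_eq_one, ← pow_two, ← pow_succ]
        exact H.cube ht he hw
  rw [h3] at h1
  have h5 := inv_mem h1
  rwa [inv_inv] at h5

/-- **the group generated by the products of twins** -/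
theorem closure_Pr : Subgroup.closure (Pr D) = ⨆ i, Qc D (d i) := by
  apply le_antisymm
  · rw [Subgroup.closure_le]
    rintro _ ⟨a, ha, b, hb, hab, -, rfl⟩
    obtain ⟨t, ht, htz, hat⟩ := H.tw a ha
    apply H.Qc_le_sup ht htz
    rw [← Qc_eq H.ts ha ht hat]
    exact mem_Qc hb hab
  · exact iSup_le fun i => Qc_le (H.dD i)

theorem es_d (i : Fin 5) : ES (zpowers x) (Qc D (d i)) := by
  obtain ⟨g, -, hg⟩ := H.tr (d i) (H.dD i) (H.comm_dz i)
  have h1 := H.es.conj g⁻¹ (H.conj_Z g⁻¹) (by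
    intro y hy
    have := H.conj_Z g y hy
    rwa [inv_inv])
  rw [Qc_conj H.ts, ← hg] at h1
  have e : g⁻¹ * (g * d i * g⁻¹) * g⁻¹⁻¹ = d i := by group
  rwa [e] at h1

theorem card_Qc [Finite X] (i : Fin 5) : Nat.card (Qc D (d i)) = Nat.card (Qc D (d 0)) := by
  obtain ⟨g, -, hg⟩ := H.tr (d i) (H.dD i) (H.comm_dz i)
  have h1 := Qc_conj H.ts (d i) g
  rw [hg] at h1
  rw [← h1]
  exact (Nat.card_congr ((Qc D (d i)).equivMapOfInjective _ (MulAut.conj g).injective).toEquiv)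

omit H in
theorem iSup_eq : (⨆ i, Qc D (d i)) = Qc D (d 0) ⊔ Qc D (d 1) ⊔ Qc D (d 2) ⊔ Qc D (d 3) ⊔ Qc D (d 4) := by
  apply le_antisymm
  · apply iSup_le
    intro i
    fin_cases i
    · exact le_sup_left.trans (le_sup_left.trans (le_sup_left.trans le_sup_left))
    · exact le_sup_right.trans (le_sup_left.trans (le_sup_left.trans le_sup_left))
    · exact le_sup_right.trans (le_sup_left.trans le_sup_left)
    · exact le_sup_right.trans le_sup_left
    · exact le_sup_right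
  · have h := fun i => le_iSup (fun i => Qc D (d i)) i
    exact sup_le (sup_le (sup_le (sup_le (h 0) (h 1)) (h 2)) (h 3)) (h 4)

/-- **`Q` is of exponent three with centre `⟨x⟩`, of order `3^11`.** -/
theorem es_card [Finite X] (hc : Nat.card (Qc D (d 0)) = 27) (hx : Nat.card (zpowers x) = 3) :
    ES (zpowers x) (Subgroup.closure (Pr D)) ∧ Nat.card (Subgroup.closure (Pr D)) = 3 ^ 11 := by
  have hcom : ∀ i j, i ≠ j → ∀ g ∈ Qc D (d i), ∀ r ∈ Qc D (d j), Commute g r := fun i j hij g hg r hr =>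
    comm_Qc_Qc (H.dD i) (H.dc i j hij) hg hr
  have csup : ∀ {A B C : Subgroup X}, (∀ g ∈ A, ∀ r ∈ C, Commute g r) → (∀ g ∈ B, ∀ r ∈ C, Commute g r) →
      (∀ g ∈ A ⊔ B, ∀ r ∈ C, Commute g r) := by
    intro A B C h1 h2 g hg r hr
    have h3 : A ⊔ B ≤ Subgroup.centralizer ({r} : Set X) := by
      apply sup_le
      · intro a ha
        rw [Subgroup.mem_centralizer_singleton_iff]
        exact (h1 a ha r hr).eq
      · intro a ha
        rw [Subgroup.mem_centralizer_singleton_iff]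
        exact (h2 a ha r hr).eq
    exact Subgroup.mem_centralizer_singleton_iff.1 (h3 hg)
  have k1 := hcom 0 1 (by decide)
  have k2 := csup (hcom 0 2 (by decide)) (hcom 1 2 (by decide))
  have k3 := csup (csup (hcom 0 3 (by decide)) (hcom 1 3 (by decide))) (hcom 2 3 (by decide))
  have k4 := csup (csup (csup (hcom 0 4 (by decide)) (hcom 1 4 (by decide))) (hcom 2 4 (by decide))) (hcom 3 4 (by decide))
  have e1 := (H.es_d 0).sup (H.es_d 1) k1
  have e2 := e1.sup (H.es_d 2) k2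
  have e3 := e2.sup (H.es_d 3) k3
  have e4 := e3.sup (H.es_d 4) k4
  have c1 := (H.es_d 0).card_sup (H.es_d 1) k1
  have c2 := e1.card_sup (H.es_d 2) k2
  have c3 := e2.card_sup (H.es_d 3) k3
  have c4 := e3.card_sup (H.es_d 4) k4
  rw [hx, H.card_Qc 0, H.card_Qc 1, hc] at c1
  rw [hx, H.card_Qc 2, hc] at c2
  rw [hx, H.card_Qc 3, hc] at c3
  rw [hx, H.card_Qc 4, hc] at c4
  rw [H.closure_Pr, iSup_eq]
  refine ⟨e4, ?_⟩
  omega

end Dat

end Cfsg.Agent.H841.Ext
end

-- part: H841/ExtC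
section
/-!
# The elements fixing all classes of twins (helper841)
-/

set_option autoImplicit false

namespace Cfsg.Agent.H841.Ext

open Subgroup
open Cfsg.Agent.LThreeFi24.Comp Cfsg.Agent.LThreeFi24.Twin

variable {X : Type*} [Group X]

/-- the products of twins generate `Q` -/
abbrev QQ (D : Set X) : Subgroup X := Subgroup.closure (Pr D)

namespace Dat

variable {D : Set X} {x z : X} {d : Fin 5 → X} (H : Dat D x z d)

include H

theorem normal_Q : (QQ D).Normal := normal_twins H.ts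

theorem fx_z : Fx D z := by
  intro e he
  obtain ⟨t, _, htz, het⟩ := H.tw e he
  have h1 := het.conj H.ts z
  have h2 : z * t * z⁻¹ = t := by rw [← htz.eq, mul_inv_cancel_right]
  rw [h2] at h1
  exact h1.trans het.symm

theorem fx_iff [Finite X] (hc : Nat.card (Qc D (d 0)) = 27) (hx : Nat.card (zpowers x) = 3) {n : X} :
    Fx D n ↔ n ∈ QQ D ⊔ zpowers z := by
  constructor
  · intro hn
    have h1 := H.comm_z_mem hn
    rw [← H.closure_Pr] at h1
    have hQn := H.normal_Q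
    -- `q = n z n⁻¹ z⁻¹`
    set q := n * z * n⁻¹ * z⁻¹ with hq
    have hq3 : q ^ 3 = 1 := (H.es_card hc hx).1.cub q h1
    have hz : n * z * n⁻¹ = q * z := by rw [hq, inv_mul_cancel_right]
    have hinv : (q * z) * (q * z) = 1 := by
      rw [← hz]
      calc n * z * n⁻¹ * (n * z * n⁻¹) = n * (z * z) * n⁻¹ := by group
        _ = 1 := by rw [H.zz, mul_one, mul_inv_cancel]
    have hzq : z * q⁻¹ * z⁻¹ = q := by
      have h2 : z * q = q⁻¹ * z⁻¹ := by
        rw [eq_mul_inv_iff_mul_eq]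
        apply eq_inv_of_mul_eq_one_right
        calc q * (z * q * z) = q * z * (q * z) := by simp only [mul_assoc]
          _ = 1 := hinv
      calc z * q⁻¹ * z⁻¹ = (z * q * z⁻¹)⁻¹ := by group
        _ = (q⁻¹ * z⁻¹ * z⁻¹)⁻¹ := by rw [h2]
        _ = (q⁻¹)⁻¹ := by rw [mul_assoc, ← mul_inv_rev, H.zz, inv_one, mul_one]
        _ = q := inv_inv q
    -- `r = q⁻¹`, `r z r⁻¹ = r² z = q z`
    have hr : q⁻¹ * z * (q⁻¹)⁻¹ = n * z * n⁻¹ := by
      have h3 : z * q = q⁻¹ * z := by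
        calc z * q = (z * q⁻¹ * z⁻¹)⁻¹ * z := by group
          _ = q⁻¹ * z := by rw [hzq]
      rw [hz, inv_inv, mul_assoc, h3, ← mul_assoc]
      congr 1
      rw [← mul_inv_rev, inv_eq_iff_mul_eq_one]
      rw [← pow_two, ← pow_succ]
      exact hq3
    have hc1 : Commute (q * n) z := by
      show q * n * z = z * (q * n)
      calc q * n * z = q * (n * z * n⁻¹) * n := by group
        _ = q * (q⁻¹ * z * (q⁻¹)⁻¹) * n := by rw [hr]
        _ = _ := by group
    have hc2 : Fx D (q * n) := (fx_of_mem H.ts h1).mul H.ts hn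
    have hc3 : ∀ t ∈ D, Commute t z → Commute (q * n) t := by
      intro t ht htz
      have h4 := hc2 t ht
      have h5 : Commute (q * n * t * (q * n)⁻¹) z := (hc1.mul_left htz).mul_left hc1.inv_left
      have h6 : q * n * t * (q * n)⁻¹ = t := by
        -- uniqueness
        obtain ⟨g, hg, h7⟩ := H.tr t ht htz
        have h8 := H.un (g * (q * n * t * (q * n)⁻¹) * g⁻¹) (H.ts.cj _ (H.ts.cj t ht _) g)
          ((hg.mul_left h5).mul_left hg.inv_left) (by
            rw [← h7]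
            exact (h4.conj H.ts g).symm)
        rw [← h7] at h8
        have h9 : g * (q * n * t * (q * n)⁻¹) = g * t := mul_right_cancel h8
        exact mul_left_cancel h9
      exact mul_inv_eq_iff_eq_mul.1 h6
    have h7 := H.ce _ hc3
    have h8 : zpowers x ⊔ zpowers z ≤ QQ D ⊔ zpowers z := sup_le_sup_right (H.es_card hc hx).1.le _
    have h9 := mul_mem (inv_mem (Subgroup.mem_sup_left (T := zpowers z) h1)) (h8 h7)
    rwa [inv_mul_cancel_left] at h9
  · intro hn
    have h1 : QQ D ⊔ zpowers z ≤ ({ carrier := {n | Fx D n}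
                                    one_mem' := Fx.one
                                    mul_mem' := fun ha hb => ha.mul H.ts hb
                                    inv_mem' := fun ha => ha.inv H.ts } : Subgroup X) := by
      apply sup_le
      · intro u hu
        exact fx_of_mem H.ts hu
      · rw [zpowers_le]
        exact H.fx_z
    exact h1 hn

/-- every member has another twin -/
theorem exists_twin {e : X} (he : e ∈ D) : ∃ f ∈ D, Tw D e f ∧ f ≠ e := by
  obtain ⟨t, ht, htz, het⟩ := H.tw e he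
  by_cases h : t = e
  · subst h
    obtain ⟨g, -, hg⟩ := H.tr t ht htz
    obtain ⟨f, hf, hw, hne⟩ := H.ne
    refine ⟨g⁻¹ * f * g, ?_, ?_, ?_⟩
    · have := H.ts.cj f hf g⁻¹
      rwa [inv_inv] at this
    · have h1 := hw.conj H.ts g⁻¹
      rw [← hg] at h1
      have e1 : g⁻¹ * (g * t * g⁻¹) * g⁻¹⁻¹ = t := by group
      have e2 : g⁻¹ * f * g⁻¹⁻¹ = g⁻¹ * f * g := by group
      rwa [e1, e2] at h1
    · intro h2
      apply hne
      rw [← hg, ← h2]
      group
  · exact ⟨t, ht, het, h⟩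

/-- the elements centralizing `Q` fix the classes -/
theorem fx_of_cent {c : X} (hc : ∀ u ∈ QQ D, Commute c u) : Fx D c := by
  have key : ∀ {c : X}, (∀ u ∈ QQ D, Commute c u) → ∀ e ∈ D, Nb D e ⊆ Nb D (c * e * c⁻¹) := by
    intro c hc e he h hh
    obtain ⟨f, hf, hw, hne⟩ := H.exists_twin he
    have h1 : Commute h (e * f) := comm_Qc hh (mem_Qc hf hw)
    have h2 : (c * e * c⁻¹) * (c * f * c⁻¹) = e * f := by
      have h3 := hc (e * f) (Subgroup.subset_closure ⟨e, he, f, hf, hw, hw.nc he hf, rfl⟩)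
      calc (c * e * c⁻¹) * (c * f * c⁻¹) = c * (e * f) * c⁻¹ := by group
        _ = e * f := by rw [h3.eq, mul_inv_cancel_right]
    have he' : c * e * c⁻¹ ∈ D := H.ts.cj e he c
    have hf' : c * f * c⁻¹ ∈ D := H.ts.cj f hf c
    have hw' : Tw D (c * e * c⁻¹) (c * f * c⁻¹) := hw.conj H.ts c
    have hne' : c * f * c⁻¹ ≠ c * e * c⁻¹ := by
      intro h4
      exact hne (mul_left_cancel (mul_right_cancel h4))
    rw [← h2] at h1
    generalize c * e * c⁻¹ = e' at *
    generalize c * f * c⁻¹ = f' at *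
    have hnc : ¬ Commute e' f' := (hw'.nc he' hf').resolve_left (Ne.symm hne')
    have se := H.ts.sq e' he'
    have sf := H.ts.sq f' hf'
    have sh := H.ts.sq h hh.1
    by_contra hcon
    have h5 : Nc e' h := (nc_iff hh.1).2 hcon
    have h6 : Nc f' h := by
      rw [nc_iff hh.1, ← show Nb D e' = Nb D f' from hw']
      exact hcon
    rcases h5 with h5 | h5
    · subst h5
      apply hnc
      -- `e' e' f' = e' f' e'`
      have h7 : e' * (e' * f') = e' * f' * e' := h1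
      show e' * f' = f' * e'
      have h8 : e' * (e' * f') = e' * (f' * e') := by rw [h7]; simp only [mul_assoc]
      exact mul_left_cancel h8
    rcases h6 with h6 | h6
    · subst h6
      apply hnc
      have h7 : f' * (e' * f') = e' * f' * f' := h1
      show e' * f' = f' * e'
      have h8 : (f' * e') * f' = (e' * f') * f' := by rw [← h7]; simp only [mul_assoc]
      exact (mul_right_cancel h8).symm
    have t1 := (H.ts.tri e' he' h hh.1).resolve_left h5
    have t2 := (H.ts.tri f' hf' h hh.1).resolve_left h6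
    -- `h e' f' h = e' f'`
    have h7 : h * (e' * f') * h = e' * f' := by
      have h8 : h * (e' * f') = e' * f' * h := h1
      rw [h8, mul_assoc, sh, mul_one]
    have h8 : (h * e' * h) * (h * f' * h) = e' * f' := by
      rw [← h7]
      calc (h * e' * h) * (h * f' * h) = h * e' * (h * h) * f' * h := by simp only [mul_assoc]
        _ = h * (e' * f') * h := by rw [sh, mul_one]; simp only [mul_assoc]
    rw [← t1, ← t2] at h8
    have h9 : e' * (h * (e' * f') * h) * f' = e' * f' := by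
      calc e' * (h * (e' * f') * h) * f' = e' * h * e' * (f' * h * f') := by simp only [mul_assoc]
        _ = e' * f' := h8
    rw [h7] at h9
    -- `e' e' f' f' = e' f'`
    have h10 : e' * (e' * f') * f' = 1 := by
      calc e' * (e' * f') * f' = (e' * e') * (f' * f') := by simp only [mul_assoc]
        _ = 1 := by rw [se, sf, one_mul]
    rw [h10] at h9
    apply hne'
    have h11 : f' = e'⁻¹ := (eq_inv_of_mul_eq_one_right h9.symm)
    rw [h11, H.ts.inv_eq he']
  intro e he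
  apply Set.Subset.antisymm
  · have h1 := key (c := c⁻¹) (fun u hu => (hc u hu).inv_left) (c * e * c⁻¹) (H.ts.cj e he c)
    have e1 : c⁻¹ * (c * e * c⁻¹) * c⁻¹⁻¹ = e := by group
    rwa [e1] at h1
  · exact key hc e he

/-- **`C(Q) ≤ Q`** -/
theorem cent_le [Finite X] (hc : Nat.card (Qc D (d 0)) = 27) (hx : Nat.card (zpowers x) = 3) :
    Subgroup.centralizer (QQ D : Set X) ≤ QQ D := by
  intro c hcc
  rw [Subgroup.mem_centralizer_iff] at hcc
  have hcc' : ∀ u ∈ QQ D, Commute c u := fun u hu => (hcc u hu).symm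
  have h1 := (H.fx_iff hc hx).1 (H.fx_of_cent hcc')
  have hQn := H.normal_Q
  rw [Subgroup.mem_sup_of_normal_left] at h1
  obtain ⟨q, hq, y, hy, rfl⟩ := h1
  have hy2 : y = 1 ∨ y = z := by
    obtain ⟨k, rfl⟩ := hy
    rcases Int.even_or_odd' k with ⟨m, rfl | rfl⟩
    · left
      show z ^ (2 * m) = 1
      rw [zpow_mul]
      have : z ^ (2 : ℤ) = 1 := by rw [zpow_ofNat, pow_two, H.zz]
      rw [this, one_zpow]
    · right
      show z ^ (2 * m + 1) = z
      rw [zpow_add, zpow_mul]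
      have : z ^ (2 : ℤ) = 1 := by rw [zpow_ofNat, pow_two, H.zz]
      rw [this, one_zpow, one_mul, zpow_one]
  rcases hy2 with hy2 | hy2
  · rwa [hy2, mul_one]
  · exfalso
    rw [hy2] at hcc' 
    obtain ⟨f, hf, hw, hne⟩ := H.ne
    have hE := (H.es_card hc hx).1
    have hg : d 0 * f ∈ QQ D := Subgroup.subset_closure ⟨d 0, H.dD 0, f, hf, hw, hw.nc (H.dD 0) hf, rfl⟩
    have h2 := H.z_inv0 hf hw
    have h3 := hcc' _ hg
    have h4 := hE.com q hq _ (inv_mem hg)
    set g := d 0 * f with hgd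
    -- `q z g z⁻¹ q⁻¹ = g`
    have h5 : q * g⁻¹ * q⁻¹ = g := by
      rw [← h2]
      calc q * (z * g * z⁻¹) * q⁻¹ = (q * z) * g * (q * z)⁻¹ := by group
        _ = g := by rw [h3.eq, mul_inv_cancel_right]
    rw [h5, inv_inv] at h4
    have h6 : g ^ 3 = 1 := hE.cub g hg
    have h7 : g = (g * g) * (g * g) := by
      calc g = g ^ 3 * g := by rw [h6, one_mul]
        _ = _ := by simp only [pow_succ, pow_zero, one_mul, mul_assoc]
    have h8 : g ∈ zpowers x := by rw [h7]; exact mul_mem h4 h4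
    have h9 : Commute (d 0) g := by
      obtain ⟨k, hk⟩ := h8
      rw [← hk]
      exact (H.cx _ (H.dD 0)).zpow_right k
    have h10 : Commute (d 0) f := by
      have h11 := (Commute.refl (d 0)).inv_right.mul_right h9
      rwa [hgd, inv_mul_cancel_left] at h11
    rcases hw.nc (H.dD 0) hf with h12 | h12
    · exact hne h12.symm
    · exact h12 h10

end Dat

end Cfsg.Agent.H841.Ext
end

-- part: H841/ExtD
section
/-!
# The quotients (helper841)
-/

set_option autoImplicit false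

namespace Cfsg.Agent.H841.Ext

open Subgroup
open Cfsg.Agent.LThreeFi24.Comp Cfsg.Agent.LThreeFi24.Twin

variable {X : Type*} [Group X]

/-- extension of a homomorphism to a semidirect product -/
theorem exists_ext {P : Type*} [Group P] {N H : Subgroup X} (hN : N.Normal) (hNH : N ⊓ H = ⊥) (f : H →* P) :
    ∃ π : ↥(N ⊔ H) →* P, ∀ (q : X) (hq : q ∈ N) (s : H),
      π ⟨q * s, mul_mem (Subgroup.mem_sup_left hq) (Subgroup.mem_sup_right s.2)⟩ = f s := by
  have dec : ∀ x : ↥(N ⊔ H), ∃ s : H, ∃ q ∈ N, q * (s : X) = x := by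
    intro x
    have h1 := x.2
    rw [Subgroup.mem_sup_of_normal_left] at h1
    obtain ⟨q, hq, s, hs, h2⟩ := h1
    exact ⟨⟨s, hs⟩, q, hq, h2⟩
  have uniq : ∀ {q q' : X} {s s' : H}, q ∈ N → q' ∈ N → q * (s : X) = q' * (s' : X) → s = s' := by
    intro q q' s s' hq hq' h
    have h1 : q'⁻¹ * q = (s' : X) * (s : X)⁻¹ := by
      rw [eq_mul_inv_iff_mul_eq, mul_assoc, h, inv_mul_cancel_left]
    have h2 : (s' : X) * (s : X)⁻¹ ∈ N ⊓ H := by
      refine Subgroup.mem_inf.2 ⟨?_, mul_mem s'.2 (inv_mem s.2)⟩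
      rw [← h1]
      exact mul_mem (inv_mem hq') hq
    rw [hNH, Subgroup.mem_bot] at h2
    exact Subtype.ext (mul_inv_eq_one.1 h2).symm
  let g : ↥(N ⊔ H) → H := fun x => (dec x).choose
  have hg : ∀ x : ↥(N ⊔ H), ∃ q ∈ N, q * (g x : X) = x := fun x => (dec x).choose_spec
  refine ⟨MonoidHom.mk' (fun x => f (g x)) ?_, ?_⟩
  · intro x y
    rw [← map_mul]
    congr 1
    obtain ⟨q, hq, h1⟩ := hg x
    obtain ⟨q', hq', h2⟩ := hg y
    obtain ⟨q'', hq'', h3⟩ := hg (x * y)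
    have h4 : q * ((g x : X) * q' * (g x : X)⁻¹) * ((g x * g y : H) : X) = (x * y : ↥(N ⊔ H)) := by
      show q * ((g x : X) * q' * (g x : X)⁻¹) * ((g x : X) * (g y : X)) = (x : X) * (y : X)
      rw [← h1, ← h2]
      group
    exact uniq hq'' (mul_mem hq (hN.conj_mem q' hq' _)) (h3.trans h4.symm)
  · intro q hq s
    show f (g _) = f s
    congr 1
    obtain ⟨q', hq', h2⟩ := hg ⟨q * s, mul_mem (Subgroup.mem_sup_left hq) (Subgroup.mem_sup_right s.2)⟩
    exact uniq hq' hq h2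

/-- the members commuting with `z` -/
def T0 (D : Set X) (z : X) : Set X := {t | t ∈ D ∧ Commute t z}

/-- the group generated -/
abbrev S0 (D : Set X) (z : X) : Subgroup X := Subgroup.closure (T0 D z)

/-- the homomorphism on `S0` -/
structure FDat (D : Set X) (z : X) {P : Type*} [Group P] (f : ↥(S0 D z) →* P) : Prop where
  surj : Function.Surjective f
  ker : ∀ s : ↥(S0 D z), f s = 1 → (s : X) = 1 ∨ (s : X) = z
  fz : ∀ s : ↥(S0 D z), (s : X) = z → f s = 1
  inj : ∀ (t t' : X) (ht : t ∈ T0 D z) (ht' : t' ∈ T0 D z),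
    f ⟨t, Subgroup.subset_closure ht⟩ = f ⟨t', Subgroup.subset_closure ht'⟩ → t = t'

namespace Dat

variable {D : Set X} {x z : X} {d : Fin 5 → X} (H : Dat D x z d)

include H

theorem z_mem_S0 : z ∈ S0 D z := by
  have h : ∀ i, d i ∈ S0 D z := fun i => Subgroup.subset_closure ⟨H.dD i, H.comm_dz i⟩
  have h1 := mul_mem (mul_mem (mul_mem (mul_mem (h 0) (h 1)) (h 2)) (h 3)) (h 4)
  have e := H.dz
  rw [← e] at h1
  exact h1

theorem z_ne : z ≠ 1 := by
  intro h
  obtain ⟨f, hf, hw, hne⟩ := H.ne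
  have h1 := H.z_inv0 hf hw
  rw [h, one_mul, inv_one, mul_one] at h1
  have h2 : (d 0 * f) ^ 3 = 1 := H.cube (H.dD 0) hf hw
  have h3 : (d 0 * f) * (d 0 * f) = 1 := by
    rw [mul_eq_one_iff_eq_inv]
    exact h1
  have h4 : d 0 * f = 1 := by
    have h5 : (d 0 * f) ^ 3 = (d 0 * f) * (d 0 * f) * (d 0 * f) := by rw [pow_succ, pow_two]
    rw [h5, h3, one_mul] at h2
    exact h2
  have h5 := mul_eq_one_iff_eq_inv.1 h4
  rw [H.ts.inv_eq hf] at h5
  exact hne h5.symm

/-- a normal 3-subgroup meets `S0` trivially -/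
theorem inf_S0 [Finite X] {P : Type*} [Group P] {f : ↥(S0 D z) →* P} (F : FDat D z f) [IsSimpleGroup P]
    (h2 : 2 ∣ Nat.card P) {R : Subgroup X} (hR : R.Normal) (hp : IsPGroup 3 R) : R ⊓ S0 D z = ⊥ := by
  have : Fact (Nat.Prime 3) := ⟨Nat.prime_three⟩
  have hfin : Finite P := Finite.of_surjective f F.surj
  set M : Subgroup P := (R.subgroupOf (S0 D z)).map f with hM
  have hMn : M.Normal := (hR.subgroupOf (S0 D z)).map f F.surj
  have hMp : IsPGroup 3 M := by
    have h1 : IsPGroup 3 (R.subgroupOf (S0 D z)) := hp.comap_subtype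
    exact h1.map f
  have hMb : M = ⊥ := by
    rcases hMn.eq_bot_or_eq_top with h | h
    · exact h
    · exfalso
      rw [h] at hMp
      obtain ⟨n, hn⟩ := hMp.exists_card_eq
      rw [Subgroup.card_top] at hn
      rw [hn] at h2
      have := Nat.Prime.dvd_of_dvd_pow Nat.prime_two h2
      omega
  rw [eq_bot_iff]
  rintro r ⟨hr, hrs⟩
  rw [Subgroup.mem_bot]
  have h1 : f ⟨r, hrs⟩ ∈ M := ⟨⟨r, hrs⟩, Subgroup.mem_subgroupOf.2 hr, rfl⟩
  rw [hMb, Subgroup.mem_bot] at h1
  rcases F.ker _ h1 with h3 | h3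
  · exact h3
  · exfalso
    have h3' : r = z := h3
    -- `z` has order 2
    obtain ⟨k, hk⟩ := hp ⟨r, hr⟩
    have hk' : z ^ (3 ^ k) = 1 := by
      rw [← h3']
      exact congrArg Subtype.val hk
    have ho : orderOf z = 2 := orderOf_eq_prime (by rw [pow_two, H.zz]) H.z_ne
    have h5 := orderOf_dvd_of_pow_eq_one hk'
    rw [ho] at h5
    have := Nat.Prime.dvd_of_dvd_pow Nat.prime_two h5
    omega

/-- `S = Q S0` -/
theorem closure_D : Subgroup.closure D = QQ D ⊔ S0 D z := by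
  apply le_antisymm
  · rw [Subgroup.closure_le]
    intro e he
    obtain ⟨t, ht, htz, het⟩ := H.tw e he
    have h1 : e * t ∈ QQ D := Subgroup.subset_closure ⟨e, he, t, ht, het, het.nc he ht, rfl⟩
    have h2 := mul_mem (Subgroup.mem_sup_left (T := S0 D z) h1)
      (Subgroup.mem_sup_right (S := QQ D) (Subgroup.subset_closure (show t ∈ T0 D z from ⟨ht, htz⟩)))
    rwa [mul_assoc, H.ts.sq t ht, mul_one] at h2
  · apply sup_le
    · rw [Subgroup.closure_le]
      rintro _ ⟨a, ha, b, hb, -, -, rfl⟩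
      exact mul_mem (Subgroup.subset_closure ha) (Subgroup.subset_closure hb)
    · rw [Subgroup.closure_le]
      exact fun t ht => Subgroup.subset_closure ht.1

end Dat

end Cfsg.Agent.H841.Ext
end
end

-- part: H841/TwA
section
prune_inst 0x100000400000000000000200000000000004000003000151000302020e902109002e0070200a0009200c2020000060014c0000020000000000000008040080002000020100000000000000b806000000000000000000000000000000041000000000000
set_option linter.all false
open scoped Cfsg.Agent.FastGrp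

-- part: H841/TwK
section
/-!
# Kernel checks: twins in `C(x3)` (helper841)
-/

set_option autoImplicit false
set_option maxRecDepth 100000
set_option Elab.async false

namespace Cfsg.Agent.H841.TwK

open Cfsg Cfsg.Agent.Lib.PermNet Cfsg.Agent.Lib.PermNetPt Cfsg.Agent.Fischer.Fi24RepDef Cfsg.Agent.Fischer.Fi24Rep
open Cfsg.Agent.KFacts.FiTF.FixMask
open Cfsg.Agent.LThreeFi24.SNineK (gw T fixB)
open Cfsg.Agent.LThreeFi24.TwinK (M3 wx3 vl)
open Cfsg.Agent.LThreeFi24.FiveConj (eqB)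
open Cfsg.Agent.H834.U5 (g5 u917 u11793 u11888)
open Cfsg.Spor (Fi24)
open Cfsg.Spor.Fi24 (Gen)

/-- the word of the twin `l1 = tr vl k` of `l` -/
def w1 : List Gen := vl ++ Gen.k :: vl.reverse

/-- `l2 = tr v2 l`: another twin -/
def v2 : List Gen := [.c, .d, .h, .i, .e, .d, .h, .f, .g, .c, .d, .e, .f, .b, .c, .d, .e, .a, .b, .c, .d, .h, .i, .d, .e, .b, .c,
  .d, .h, .j, .g, .f, .e, .d, .c, .b, .a, .k]
def w2 : List Gen := v2 ++ Gen.l :: v2.reverse

/-- an element of `C(l) ∩ C(x3)` with `l1 ↦ l2` -/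
def wt : List Gen := ([.f, .e, .c, .d, .h, .i, .d, .e, .c, .d, .h, .g, .f, .e, .d, .c] : List Gen) ++ Gen.b ::
  [.f, .e, .c, .d, .h, .i, .d, .e, .c, .d, .h, .g, .f, .e, .d, .c].reverse
def wh : List Gen := ([.k, .l, .a] : List Gen) ++ (wt ++ (([.b, .a, .k, .a] : List Gen) ++ (wt ++ ([.l, .b, .a, .k] : List Gen))))

set_option maxRecDepth 100000 in
private theorem pn_all_0 :
    (chkPt (nw v2 false) 0 277670 = true) ∧
    (chkPt (nw wh false) 0 0 = true) ∧
    (chkPt (nw wh false) 306929 277670 = true) ∧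
    (chkPt (nw [.f, .e, .c, .d, .h, .i, .d, .e, .c, .d, .h, .g, .f, .e, .d, .c] false) 193 12819 = true) ∧
    (fixB (nw wx3 false) [12819, 277670, 0, 1, 193, 307872] = true) ∧
    (eqB ((Gen.l :: w1) ++ ((Gen.l :: w2) ++ ((w1 ++ [Gen.l]) ++ (w2 ++ [Gen.l])))) wx3.reverse = true) ∧
    (and (chkPt (nw (Gen.l :: w2) false) 0 277670) (and (chkPt (nw (Gen.l :: w2) false) 277670 277638)
    (and (chkPt (nw (Gen.l :: w1) false) 0 306929) (and (chkPt (nw (Gen.l :: w1) false) 277670 277583)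
    (and (chkPt (nw (Gen.l :: w1) false) 277638 276547) (and (chkPt (nw (Gen.l :: w1) false) 306929 306897)
    (and (chkPt (nw (Gen.l :: w1) false) 277583 276579) (chkPt (nw (Gen.l :: w1) false) 276547 277615))))))) = true) ∧
    (chkPt (nw [.h, .i, .d, .h, .e, .d, .c, .b] false) 1 2352 = true) ∧
    (chkPt (nw [.b] false) 1 192 = true) ∧
    (fixB (nw wx3 false) [2352, 192] = true) ∧
    (fixB (nw [.l] false) [1, 192, 2352, 917, 11793, 11888] = true) ∧
    (fixB (nw [.a] false) [917, 11793, 11888] = true) ∧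
    (fixB (nw (u917 ++ Gen.b :: u917.reverse) false) [11793, 11888] = true) ∧
    (fixB (nw (u11793 ++ Gen.a :: u11793.reverse) false) [11888] = true) ∧
    (fixB (nw wx3 false) [917, 11793, 11888] = true) ∧
    (((List.range 9).all fun i => (List.range 9).all fun j => (or (Nat.ble j i)
    ((chkPt (nw g5 false) ((Cfsg.Agent.LThreeFi24.SNineK.row.getD i []).getD j 0)
      ((Cfsg.Agent.LThreeFi24.SNineK.row.getD i []).getD j 0)) == (Nat.beq j (i + 3) && Nat.ble i 2)))) = true) ∧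
    (chkPt (nw (gw.getD 1 [] ++ (gw.getD 4 [] ++ gw.getD 7 [])) false) 22146 22146 = false) ∧
    (chkPt (nw (gw.getD 1 [] ++ (gw.getD 4 [] ++ gw.getD 6 [])) false) 22146 22146 = false) ∧
    (chkPt (nw (gw.getD 1 [] ++ (gw.getD 4 [] ++ (gw.getD 6 [] ++ (gw.getD 7 [] ++ gw.getD 6 [])))) false)
    22146 22146 = false) := by
  (rewrite [show @Cfsg.Agent.LThreeFi24.FiveConj.eqB = delta% @Cfsg.Agent.LThreeFi24.FiveConj.eqB from by delta Cfsg.Agent.LThreeFi24.FiveConj.eqB; rfl, show @Cfsg.Agent.LThreeFi24.FiveConj.eqL = delta% @Cfsg.Agent.LThreeFi24.FiveConj.eqL from by delta Cfsg.Agent.LThreeFi24.FiveConj.eqL; rfl, show @Cfsg.Agent.LThreeFi24.FiveConj.eqL._f = delta% @Cfsg.Agent.LThreeFi24.FiveConj.eqL._f from by delta Cfsg.Agent.LThreeFi24.FiveConj.eqL._f; rfl, show @Cfsg.Agent.LThreeFi24.SNineK.fixB = delta% @Cfsg.Agent.LThreeFi24.SNineK.fixB from by delta Cfsg.Agent.LThreeFi24.SNineK.fixB; rfl, show @Cfsg.Agent.LThreeFi24.SNineK.fixB._f =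 delta% @Cfsg.Agent.LThreeFi24.SNineK.fixB._f from by delta Cfsg.Agent.LThreeFi24.SNineK.fixB._f; rfl, show @Cfsg.Agent.Lib.PermNetPt.chkPt = delta% @Cfsg.Agent.Lib.PermNetPt.chkPt from by delta Cfsg.Agent.Lib.PermNetPt.chkPt; rfl, Cfsg.Agent.Lib.PermNetFast.winv_fast]; decide +kernel)

theorem pt_l2 : chkPt (nw v2 false) 0 277670 = true :=
  pn_all_0.1
theorem h_l : chkPt (nw wh false) 0 0 = true :=
  pn_all_0.2.1
theorem h_l1 : chkPt (nw wh false) 306929 277670 = true :=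
  pn_all_0.2.2.1
/-- `wt` commutes with `x3` -/
theorem pt_t : chkPt (nw [.f, .e, .c, .d, .h, .i, .d, .e, .c, .d, .h, .g, .f, .e, .d, .c] false) 193 12819 = true :=
  pn_all_0.2.2.2.1
theorem fx_t : fixB (nw wx3 false) [12819, 277670, 0, 1, 193, 307872] = true :=
  pn_all_0.2.2.2.2.1

/-- `[u, v] = x3⁻¹` -/
theorem eq_comm : eqB ((Gen.l :: w1) ++ ((Gen.l :: w2) ++ ((w1 ++ [Gen.l]) ++ (w2 ++ [Gen.l])))) wx3.reverse = true :=
  pn_all_0.2.2.2.2.2.1

/-- the points of the twins -/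
theorem nine : and (chkPt (nw (Gen.l :: w2) false) 0 277670) (and (chkPt (nw (Gen.l :: w2) false) 277670 277638)
    (and (chkPt (nw (Gen.l :: w1) false) 0 306929) (and (chkPt (nw (Gen.l :: w1) false) 277670 277583)
    (and (chkPt (nw (Gen.l :: w1) false) 277638 276547) (and (chkPt (nw (Gen.l :: w1) false) 306929 306897)
    (and (chkPt (nw (Gen.l :: w1) false) 277583 276579) (chkPt (nw (Gen.l :: w1) false) 276547 277615))))))) = true :=
  pn_all_0.2.2.2.2.2.2.1

/-- the third sieving element -/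
def w3 : List Gen := ([.h, .i, .d, .h, .e, .d, .c, .b] : List Gen) ++ Gen.a :: [.h, .i, .d, .h, .e, .d, .c, .b].reverse

/-- the points of the transpositions commuting with `x3` and `a` -/
def L1 : List ℕ := [
  0, 1, 68, 177, 431, 438, 917, 997, 1004, 3010, 3011, 3630, 3631, 3650, 3651, 3662, 3663, 11793, 11805, 11888, 11900,
  12048, 12060, 12177, 12218, 12252, 12253, 12278, 12285, 266067, 266099, 266138, 266170, 266194, 266226, 266241,
  266273, 266313, 266320, 266345, 266352, 266392, 266424, 266501, 266523, 266533, 266555, 266560, 266577, 266592,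
  266609, 266689, 266721, 266888, 266920, 267268, 267300, 269904, 269936, 270233, 270265, 270608, 270613, 270640,
  270645, 271000, 271032, 271125, 271132, 271157, 271164, 271504, 271536, 271892, 271924, 272144, 272156, 272176,
  272188, 272351, 272383, 273301, 273305, 273333, 273337, 273951, 273983, 274000, 274012, 274032, 274044, 274071,
  274103, 274187, 274219, 274590, 274622, 275167, 275199, 275930, 275962, 276547, 276579, 276672, 276704, 276947,
  276979, 277583, 277615, 277638, 277670, 277705, 277708, 277737, 277740, 277764, 277796, 277978, 278010, 278851,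
  278883, 278921, 278953, 279454, 279486, 279518, 279550, 279710, 279742, 279766, 279773, 279798, 279805, 279829,
  279861, 280151, 280183, 280211, 280243, 280471, 280503, 280542, 280574, 280650, 280682, 280786, 280818, 280914,
  280946, 280969, 281001, 281105, 281137, 281153, 281178, 281185, 281210, 281240, 281272, 281296, 281328, 281422,
  281454, 281559, 281591, 281748, 281780, 281811, 281843, 282126, 282139, 282158, 282171, 282183, 282215, 282251,
  282252, 282283, 282284, 282314, 282346, 282377, 282409, 282450, 282482, 282569, 282601, 282703, 282735, 282783,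
  282815, 282952, 282959, 282984, 282991, 283015, 283018, 283047, 283050, 283159, 283191, 283202, 283234, 283282,
  283285, 283314, 283317, 283350, 283359, 283382, 283391, 283393, 283425, 283466, 283498, 283537, 283569, 283654,
  283661, 283686, 283693, 283797, 283829, 283850, 283882, 283932, 283964, 284172, 284204, 284243, 284275, 284356,
  284388, 284691, 284723, 284766, 284798, 284830, 284862, 284870, 284902, 284958, 284990, 290959, 290966, 290991,
  290998, 291022, 291054, 291085, 291092, 291101, 291117, 291124, 291133, 292110, 292118, 292142, 292150, 292254,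
  292286, 296346, 296378, 296585, 296617, 300425, 300428, 300457, 300460, 300480, 300481, 300512, 300513, 300552,
  300553, 300584, 300585, 302147, 302154, 302179, 302186, 302219, 302251, 303326, 303358, 303382, 303414, 303436,
  303439, 303468, 303471, 303494, 303517, 303526, 303549, 303692, 303724, 305174, 305206, 306068, 306077, 306100,
  306109, 306116, 306148, 306768, 306800, 306845, 306877, 306897, 306929, 307160, 307192, 307341, 307373, 307968,
  307977, 308000, 308009, 308127, 308159, 308377, 308378, 308409, 308410]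

/-- the points of the transpositions commuting with `x3`, `a`, `b a b` -/
def L2 : List ℕ := [
  0, 266320, 266352, 266392, 266424, 266577, 266609, 266689, 266721, 266888, 266920, 267268, 267300, 276547, 276579,
  277583, 277615, 277638, 277670, 279454, 279486, 279710, 279742, 279766, 279798, 280786, 280818, 281178, 281210,
  281559, 281591, 281811, 281843, 282251, 282283, 282314, 282346, 282703, 282735, 282783, 282815, 283202, 283234,
  283350, 283359, 283382, 283391, 283850, 283882, 284243, 284275, 284691, 284723, 284766, 284798, 284830, 284862,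
  284870, 284902, 284958, 284990, 291085, 291092, 291101, 291117, 291124, 291133, 303439, 303471, 303494, 303517,
  303526, 303549, 306768, 306800, 306897, 306929, 307977, 308009, 308377, 308409]

theorem sieve_1 : Nat.beq (sv (nw [.a] false) bl M3) (msk L1) = true := by decide +kernel

theorem sieve_2 : Nat.beq (sv (nw [.b, .a, .b] false) bl (msk L1)) (msk L2) = true := by decide +kernel

theorem sieve_3a : Nat.beq (sv (nw w3 false) [0, 1, 2, 3, 4, 5, 6, 7, 8] (msk L2))
    (msk [0, 276547, 276579, 277583, 277615, 277638, 277670, 291101, 291133, 306897, 306929]) = true := by decide +kernel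

theorem sieve_3b : Nat.beq (sv (nw w3 false) [9, 10, 11, 12, 13, 14, 15, 16, 17, 18]
    (msk [0, 276547, 276579, 277583, 277615, 277638, 277670, 291101, 291133, 306897, 306929]))
    (msk [0, 276547, 276579, 277583, 277615, 277638, 277670, 306897, 306929]) = true := by decide +kernel

theorem sv_append (w : List Net) (bs cs : List ℕ) (A : ℕ) : sv w (bs ++ cs) A = sv w cs (sv w bs A) := by
  induction bs generalizing A with
  | nil => rfl
  | cons b bs ih => rw [List.cons_append, sv_cons, sv_cons, ih]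

theorem sieve_3 : Nat.beq (sv (nw w3 false) bl (msk L2))
    (msk [0, 276547, 276579, 277583, 277615, 277638, 277670, 306897, 306929]) = true := by
  rw [show bl = [0, 1, 2, 3, 4, 5, 6, 7, 8] ++ [9, 10, 11, 12, 13, 14, 15, 16, 17, 18] from rfl, sv_append,
    Nat.eq_of_beq_eq_true sieve_3a]
  exact sieve_3b

theorem sieve_tw : seqB (sv (nw [.a] false) bl M3) (fun A => seqB (sv (nw [.b, .a, .b] false) bl A)
    (fun A => Nat.beq (sv (nw w3 false) bl A)
      (msk [0, 276547, 276579, 277583, 277615, 277638, 277670, 306897, 306929]))) = true := by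
  rw [seqB_eq, seqB_eq, Nat.eq_of_beq_eq_true sieve_1, Nat.eq_of_beq_eq_true sieve_2]
  exact sieve_3

theorem pt_w3 : chkPt (nw [.h, .i, .d, .h, .e, .d, .c, .b] false) 1 2352 = true :=
  pn_all_0.2.2.2.2.2.2.2.1
theorem pt_bab : chkPt (nw [.b] false) 1 192 = true :=
  pn_all_0.2.2.2.2.2.2.2.2.1
theorem fx_w3 : fixB (nw wx3 false) [2352, 192] = true :=
  pn_all_0.2.2.2.2.2.2.2.2.2.1
theorem l_fix : fixB (nw [.l] false) [1, 192, 2352, 917, 11793, 11888] = true :=
  pn_all_0.2.2.2.2.2.2.2.2.2.2.1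

/-- the five commuting transpositions -/
theorem c1 : fixB (nw [.a] false) [917, 11793, 11888] = true :=
  pn_all_0.2.2.2.2.2.2.2.2.2.2.2.1
theorem c2 : fixB (nw (u917 ++ Gen.b :: u917.reverse) false) [11793, 11888] = true :=
  pn_all_0.2.2.2.2.2.2.2.2.2.2.2.2.1
theorem c3 : fixB (nw (u11793 ++ Gen.a :: u11793.reverse) false) [11888] = true :=
  pn_all_0.2.2.2.2.2.2.2.2.2.2.2.2.2.1
theorem fx_d : fixB (nw wx3 false) [917, 11793, 11888] = true :=
  pn_all_0.2.2.2.2.2.2.2.2.2.2.2.2.2.2.1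

/-- the transpositions of `S₉` commuting with the fifth generator -/
theorem g5_S9 : ((List.range 9).all fun i => (List.range 9).all fun j => (or (Nat.ble j i)
    ((chkPt (nw g5 false) ((Cfsg.Agent.LThreeFi24.SNineK.row.getD i []).getD j 0)
      ((Cfsg.Agent.LThreeFi24.SNineK.row.getD i []).getD j 0)) == (Nat.beq j (i + 3) && Nat.ble i 2)))) = true :=
  pn_all_0.2.2.2.2.2.2.2.2.2.2.2.2.2.2.2.1

theorem nfix_0 : chkPt (nw (gw.getD 1 [] ++ (gw.getD 4 [] ++ gw.getD 7 [])) false) 22146 22146 = false :=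
  pn_all_0.2.2.2.2.2.2.2.2.2.2.2.2.2.2.2.2.1
theorem nfix_1 : chkPt (nw (gw.getD 1 [] ++ (gw.getD 4 [] ++ gw.getD 6 [])) false) 22146 22146 = false :=
  pn_all_0.2.2.2.2.2.2.2.2.2.2.2.2.2.2.2.2.2.1
theorem nfix_2 : chkPt (nw (gw.getD 1 [] ++ (gw.getD 4 [] ++ (gw.getD 6 [] ++ (gw.getD 7 [] ++ gw.getD 6 [])))) false)
    22146 22146 = false :=
  pn_all_0.2.2.2.2.2.2.2.2.2.2.2.2.2.2.2.2.2.2

/-- the points of the transpositions commuting with `x3` -/
def EL : List ℕ := [
  0, 1, 68, 177, 192, 193, 216, 217, 342, 343, 431, 438, 818, 819, 820, 821, 917, 997, 1004, 1246, 1247, 1766, 1767,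
  1788, 1789, 1814, 1815, 2352, 2353, 2460, 2461, 2480, 2481, 2720, 2721, 3010, 3011, 3205, 3219, 3630, 3631, 3650,
  3651, 3662, 3663, 4318, 4319, 4326, 4327, 4380, 4381, 4398, 4399, 4420, 4421, 4444, 4445, 5430, 5431, 5454, 5455,
  5598, 5599, 5970, 5971, 6216, 6217, 7852, 7853, 7880, 7881, 7904, 7905, 7908, 7909, 7976, 7977, 8040, 8041, 9106,
  9107, 9176, 9177, 9200, 9201, 10268, 10269, 10288, 10289, 10366, 10367, 10388, 10389, 10414, 10415, 10476, 10477,
  10604, 10605, 11793, 11805, 11888, 11900, 12048, 12060, 12177, 12218, 12252, 12253, 12278, 12285, 12818, 12819,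
  12858, 12859, 12912, 12913, 12946, 12947, 13016, 13017, 13088, 13089, 13136, 13137, 13160, 13161, 13248, 13249,
  13444, 13445, 13466, 13467, 13480, 13481, 13568, 13569, 13956, 13957, 16432, 16433, 16888, 16889, 17200, 17201,
  17236, 17237, 17330, 17331, 17784, 17785, 17916, 17917, 17940, 17941, 18740, 18741, 18992, 18993, 19004, 19005,
  19166, 19167, 19440, 19441, 19452, 19453, 19634, 19635, 20638, 20639, 20656, 20657, 20668, 20669, 20790, 20791,
  21918, 21919, 22146, 22147, 22682, 22683, 23298, 23299, 23890, 23891, 24398, 24399, 24422, 24423, 24634, 24635,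
  25344, 25345, 25758, 25759, 25846, 25847, 26016, 26017, 26124, 26125, 26152, 26153, 26212, 26213, 26494, 26495,
  26632, 26633, 26738, 26739, 26778, 26779, 26848, 26849, 26922, 26923, 27158, 27159, 27172, 27173, 27218, 27219,
  27432, 27433, 27722, 27723, 27806, 27807, 27932, 27933, 27962, 27963, 28020, 28021, 28046, 28047, 28138, 28139,
  28310, 28311, 28338, 28339, 28590, 28591, 28630, 28631, 28670, 28671, 28690, 28691, 28710, 28711, 28914, 28915,
  28962, 28963, 29168, 29169, 29208, 29209, 29232, 29233, 29262, 29263, 29286, 29287, 29418, 29419, 29492, 29493,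
  29514, 29515, 29678, 29679, 29754, 29755, 29798, 29799, 29896, 29897, 30024, 30025, 30192, 30193, 30222, 30223,
  30282, 30283, 30310, 30311, 30386, 30387, 30420, 30421, 30432, 30433, 30474, 30475, 30512, 30513, 30604, 30605,
  30708, 30709, 30748, 30749, 30988, 30989, 31026, 31027, 31076, 31077, 31410, 31411, 31454, 31455, 31518, 31519,
  31558, 31559, 31646, 31647, 33296, 33297, 33328, 33329, 33432, 33433, 33464, 33465, 33680, 33681, 33712, 33713,
  33872, 33873, 33904, 33905, 34240, 34241, 34272, 34273, 34392, 34393, 34424, 34425, 34696, 34697, 34728, 34729,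
  34752, 34753, 34784, 34785, 35212, 35213, 35244, 35245, 36164, 36165, 36196, 36197, 36608, 36609, 36640, 36641,
  37848, 37849, 37880, 37881, 47504, 47505, 47536, 47537, 49816, 49817, 49848, 49849, 51728, 51729, 51760, 51761,
  51796, 51797, 51828, 51829, 52124, 52125, 52156, 52157, 53074, 53075, 53106, 53107, 54552, 54553, 54584, 54585,
  54992, 54993, 55004, 55005, 55024, 55025, 55036, 55037, 55068, 55069, 55100, 55101, 55380, 55381, 55412, 55413,
  58004, 58005, 58036, 58037, 58268, 58269, 58300, 58301, 58384, 58385, 58416, 58417, 59102, 59103, 59134, 59135,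
  60892, 60893, 60924, 60925, 61076, 61077, 61108, 61109, 61904, 61905, 61916, 61917, 61936, 61937, 61948, 61949,
  62096, 62097, 62128, 62129, 62488, 62489, 62520, 62521, 62872, 62873, 62904, 62905, 63390, 63391, 63422, 63423,
  65680, 65681, 65712, 65713, 65876, 65877, 65908, 65909, 65940, 65941, 65972, 65973, 66000, 66001, 66032, 66033,
  66140, 66141, 66172, 66173, 66902, 66903, 66934, 66935, 67600, 67601, 67612, 67613, 67632, 67633, 67644, 67645,
  68562, 68563, 68594, 68595, 71310, 71311, 71342, 71343, 72156, 72157, 72188, 72189, 72472, 72473, 72504, 72505,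
  72660, 72661, 72692, 72693, 73502, 73503, 73534, 73535, 73616, 73617, 73628, 73629, 73648, 73649, 73660, 73661,
  75536, 75537, 75568, 75569, 75732, 75733, 75764, 75765, 75984, 75985, 76016, 76017, 76950, 76951, 76982, 76983,
  77514, 77515, 77546, 77547, 78736, 78737, 78748, 78749, 78768, 78769, 78780, 78781, 80016, 80017, 80028, 80029,
  80048, 80049, 80060, 80061, 80662, 80663, 80694, 80695, 81688, 81689, 81720, 81721, 82638, 82639, 82670, 82671,
  82822, 82823, 82854, 82855, 83678, 83679, 83710, 83711, 83740, 83741, 83772, 83773, 83792, 83793, 83824, 83825,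
  83988, 83989, 84020, 84021, 84952, 84953, 84984, 84985, 86018, 86019, 86050, 86051, 86274, 86275, 86306, 86307,
  86366, 86367, 86398, 86399, 86658, 86659, 86690, 86691, 87050, 87051, 87082, 87083, 87952, 87953, 87984, 87985,
  88782, 88783, 88814, 88815, 88976, 88977, 88988, 88989, 89008, 89009, 89020, 89021, 91406, 91407, 91438, 91439,
  92174, 92175, 92206, 92207, 93466, 93467, 93498, 93499, 93582, 93583, 93614, 93615, 93782, 93783, 93814, 93815,
  94228, 94229, 94260, 94261, 95234, 95235, 95266, 95267, 98190, 98191, 98222, 98223, 99330, 99331, 99362, 99363,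
  100546, 100547, 100578, 100579, 103186, 103187, 103218, 103219, 105232, 105233, 105264, 105265, 107602, 107603,
  107634, 107635, 107650, 107651, 107682, 107683, 108126, 108127, 108158, 108159, 109968, 109969, 110000, 110001,
  115214, 115215, 115246, 115247, 115274, 115275, 115306, 115307, 115334, 115335, 115366, 115367, 115650, 115651,
  115682, 115683, 116826, 116827, 116858, 116859, 116878, 116879, 116910, 116911, 116942, 116943, 116974, 116975,
  119448, 119449, 119480, 119481, 130502, 130503, 130534, 130535, 130570, 130571, 130602, 130603, 139928, 139929,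
  139960, 139961, 142302, 142303, 142334, 142335, 142486, 142487, 142518, 142519, 151440, 151441, 151472, 151473,
  154462, 154463, 154494, 154495, 155992, 155993, 156024, 156025, 156688, 156689, 156720, 156721, 156936, 156937,
  156968, 156969, 157906, 157907, 157938, 157939, 158672, 158673, 158704, 158705, 159066, 159067, 159098, 159099,
  159126, 159127, 159158, 159159, 159254, 159255, 159286, 159287, 159326, 159327, 159358, 159359, 159442, 159443,
  159474, 159475, 159488, 159489, 159520, 159521, 162582, 162583, 162614, 162615, 163730, 163731, 163762, 163763,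
  168520, 168521, 168552, 168553, 168576, 168577, 168608, 168609, 169614, 169615, 169646, 169647, 170058, 170059,
  170090, 170091, 170258, 170259, 170290, 170291, 171722, 171723, 171754, 171755, 172608, 172609, 172640, 172641,
  173786, 173787, 173818, 173819, 173898, 173899, 173930, 173931, 174990, 174991, 175022, 175023, 176968, 176969,
  177000, 177001, 177432, 177433, 177464, 177465, 179854, 179855, 179886, 179887, 180166, 180167, 180198, 180199,
  181062, 181063, 181094, 181095, 181186, 181187, 181218, 181219, 181714, 181715, 181746, 181747, 181842, 181843,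
  181874, 181875, 183498, 183499, 183530, 183531, 183574, 183575, 183606, 183607, 184206, 184207, 184238, 184239,
  184266, 184267, 184298, 184299, 185998, 185999, 186030, 186031, 186570, 186571, 186602, 186603, 189772, 189773,
  189780, 189781, 189804, 189805, 189812, 189813, 189844, 189845, 189876, 189877, 189900, 189901, 189932, 189933,
  189980, 189981, 190012, 190013, 190020, 190021, 190052, 190053, 195846, 195847, 195870, 195871, 195878, 195879,
  195902, 195903, 196574, 196575, 196606, 196607, 196614, 196615, 196646, 196647, 197326, 197327, 197358, 197359,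
  197782, 197783, 197814, 197815, 200596, 200597, 200628, 200629, 202004, 202005, 202036, 202037, 202060, 202061,
  202092, 202093, 202396, 202397, 202428, 202429, 202772, 202773, 202804, 202805, 204700, 204701, 204732, 204733,
  208850, 208851, 208882, 208883, 208906, 208907, 208938, 208939, 209090, 209091, 209122, 209123, 209420, 209421,
  209434, 209435, 209452, 209453, 209466, 209467, 209608, 209609, 209640, 209641, 209804, 209805, 209836, 209837,
  228238, 228239, 228270, 228271, 228354, 228355, 228386, 228387, 228686, 228687, 228718, 228719, 228808, 228809,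
  228812, 228813, 228840, 228841, 228844, 228845, 228864, 228865, 228896, 228897, 228992, 228993, 229024, 229025,
  229120, 229121, 229152, 229153, 229320, 229321, 229324, 229325, 229352, 229353, 229356, 229357, 229452, 229453,
  229484, 229485, 229640, 229641, 229672, 229673, 230016, 230017, 230020, 230021, 230048, 230049, 230052, 230053,
  230924, 230925, 230956, 230957, 251742, 251743, 251774, 251775, 251920, 251921, 251952, 251953, 252292, 252293,
  252324, 252325, 252622, 252623, 252654, 252655, 252672, 252673, 252702, 252703, 252704, 252705, 252734, 252735,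
  259656, 259657, 259688, 259689, 261512, 261513, 261544, 261545, 261652, 261653, 261684, 261685, 261960, 261961,
  261992, 261993, 262080, 262081, 262112, 262113, 262210, 262211, 262242, 262243, 262412, 262413, 262444, 262445,
  262932, 262933, 262964, 262965, 263198, 263199, 263230, 263231, 263756, 263757, 263788, 263789, 264070, 264071,
  264102, 264103, 264458, 264459, 264490, 264491, 266067, 266099, 266138, 266170, 266194, 266226, 266241, 266273,
  266313, 266320, 266345, 266352, 266392, 266424, 266501, 266523, 266533, 266555, 266560, 266577, 266592, 266609,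
  266689, 266721, 266888, 266920, 267268, 267300, 269904, 269936, 270233, 270265, 270608, 270613, 270640, 270645,
  271000, 271032, 271125, 271132, 271157, 271164, 271504, 271536, 271892, 271924, 272144, 272156, 272176, 272188,
  272351, 272383, 273301, 273305, 273333, 273337, 273951, 273983, 274000, 274012, 274032, 274044, 274071, 274103,
  274187, 274219, 274590, 274622, 275167, 275199, 275930, 275962, 276547, 276579, 276672, 276704, 276947, 276979,
  277583, 277615, 277638, 277670, 277705, 277708, 277737, 277740, 277764, 277796, 277978, 278010, 278851, 278883,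
  278921, 278953, 279454, 279486, 279518, 279550, 279710, 279742, 279766, 279773, 279798, 279805, 279829, 279861,
  280151, 280183, 280211, 280243, 280471, 280503, 280542, 280574, 280650, 280682, 280786, 280818, 280914, 280946,
  280969, 281001, 281105, 281137, 281153, 281178, 281185, 281210, 281240, 281272, 281296, 281328, 281422, 281454,
  281559, 281591, 281748, 281780, 281811, 281843, 282126, 282139, 282158, 282171, 282183, 282215, 282251, 282252,
  282283, 282284, 282314, 282346, 282377, 282409, 282450, 282482, 282569, 282601, 282703, 282735, 282783, 282815,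
  282952, 282959, 282984, 282991, 283015, 283018, 283047, 283050, 283159, 283191, 283202, 283234, 283282, 283285,
  283314, 283317, 283350, 283359, 283382, 283391, 283393, 283425, 283466, 283498, 283537, 283569, 283654, 283661,
  283686, 283693, 283797, 283829, 283850, 283882, 283932, 283964, 284172, 284204, 284243, 284275, 284356, 284388,
  284691, 284723, 284766, 284798, 284830, 284862, 284870, 284902, 284958, 284990, 285584, 285596, 285616, 285628,
  286086, 286087, 286110, 286111, 286118, 286119, 286142, 286143, 286150, 286151, 286182, 286183, 290959, 290966,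
  290991, 290998, 291022, 291054, 291085, 291092, 291101, 291117, 291124, 291133, 292110, 292118, 292142, 292150,
  292254, 292286, 293140, 293141, 293172, 293173, 293204, 293205, 293236, 293237, 294594, 294595, 294604, 294605,
  294626, 294627, 294636, 294637, 294680, 294681, 294712, 294713, 296346, 296378, 296585, 296617, 300425, 300428,
  300457, 300460, 300480, 300481, 300512, 300513, 300552, 300553, 300584, 300585, 302147, 302154, 302179, 302186,
  302219, 302251, 303326, 303358, 303382, 303414, 303436, 303439, 303468, 303471, 303494, 303517, 303526, 303549,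
  303692, 303724, 304844, 304845, 304846, 304847, 304876, 304877, 304878, 304879, 305174, 305206, 306068, 306077,
  306100, 306109, 306116, 306148, 306768, 306800, 306845, 306877, 306897, 306929, 307160, 307192, 307341, 307373,
  307840, 307841, 307872, 307873, 307968, 307977, 308000, 308009, 308127, 308159, 308377, 308378, 308409, 308410]

theorem mEL : Nat.beq (msk EL) M3 = true := by decide +kernel

theorem EL_len : EL.length = 1485 := by decide +kernel

end Cfsg.Agent.H841.TwK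
end

-- part: H841/ExtE
section
/-!
# The extraspecial group of order 27 and exponent three (helper841)
-/

set_option autoImplicit false

namespace Cfsg.Agent.H841.Ext

open Subgroup

variable {X : Type*} [Group X]

section

variable {u v x : X} (hu : u ^ 3 = 1) (hv : v ^ 3 = 1) (hx : x ^ 3 = 1) (ux : Commute u x) (vx : Commute v x)
  (huv : u * v = x * (v * u))

include ux huv in
theorem hs_u (i : ℕ) : u ^ i * v = x ^ i * (v * u ^ i) := by
  induction i with
  | zero => simp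
  | succ i ih =>
    calc u ^ (i + 1) * v = u ^ i * (u * v) := by rw [pow_succ]; simp only [mul_assoc]
      _ = (u ^ i * x) * (v * u) := by rw [huv]; simp only [mul_assoc]
      _ = x * (u ^ i * v) * u := by rw [(ux.pow_left i).eq]; simp only [mul_assoc]
      _ = x * (x ^ i * (v * u ^ i)) * u := by rw [ih]
      _ = x ^ (i + 1) * (v * u ^ (i + 1)) := by rw [pow_succ' x, pow_succ u]; simp only [mul_assoc]

include vx huv in
theorem hs_v (j : ℕ) : u * v ^ j = x ^ j * (v ^ j * u) := by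
  induction j with
  | zero => simp
  | succ j ih =>
    calc u * v ^ (j + 1) = (u * v ^ j) * v := by rw [pow_succ]; simp only [mul_assoc]
      _ = x ^ j * (v ^ j * (u * v)) := by rw [ih]; simp only [mul_assoc]
      _ = x ^ j * ((v ^ j * x) * (v * u)) := by rw [huv]; simp only [mul_assoc]
      _ = x ^ j * ((x * v ^ j) * (v * u)) := by rw [(vx.pow_left j).eq]
      _ = x ^ (j + 1) * (v ^ (j + 1) * u) := by rw [pow_succ x, pow_succ v]; simp only [mul_assoc]

include hu hv hx ux vx huv in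
/-- the normal form -/
theorem hs_form {g : X} (hg : g ∈ Subgroup.closure {u, v}) : ∃ i j k : ℕ, i < 3 ∧ j < 3 ∧ k < 3 ∧ g = u ^ i * v ^ j * x ^ k := by
  have key : ∃ i j k : ℕ, g = u ^ i * v ^ j * x ^ k := by
    have mulu : ∀ g : X, (∃ i j k : ℕ, g = u ^ i * v ^ j * x ^ k) → ∃ i j k : ℕ, g * u = u ^ i * v ^ j * x ^ k := by
      rintro g ⟨i, j, k, rfl⟩
      refine ⟨i + 1, j, 2 * j + k, ?_⟩
      have h1 := hs_v vx huv j
      have h2 : x ^ (2 * j) * x ^ j = 1 := by
        rw [← pow_add, show 2 * j + j = 3 * j by ring, pow_mul, hx, one_pow]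
      have h3 : v ^ j * u = x ^ (2 * j) * (u * v ^ j) := by
        rw [h1, ← mul_assoc, h2, one_mul]
      calc u ^ i * v ^ j * x ^ k * u = u ^ i * v ^ j * (x ^ k * u) := by simp only [mul_assoc]
        _ = u ^ i * v ^ j * (u * x ^ k) := by rw [(ux.pow_right k).eq]
        _ = u ^ i * (v ^ j * u) * x ^ k := by simp only [mul_assoc]
        _ = u ^ i * (x ^ (2 * j) * (u * v ^ j)) * x ^ k := by rw [h3]
        _ = u ^ i * (u * v ^ j * x ^ (2 * j)) * x ^ k := by
          rw [((ux.pow_right (2 * j)).mul_left ((vx.pow_left j).pow_right (2 * j))).eq]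
        _ = _ := by rw [pow_succ, pow_add]; simp only [mul_assoc]
    have mulv : ∀ g : X, (∃ i j k : ℕ, g = u ^ i * v ^ j * x ^ k) → ∃ i j k : ℕ, g * v = u ^ i * v ^ j * x ^ k := by
      rintro g ⟨i, j, k, rfl⟩
      refine ⟨i, j + 1, k, ?_⟩
      rw [mul_assoc _ (x ^ k) v, ← (vx.pow_right k).eq, pow_succ]
      simp only [mul_assoc]
    induction hg using Subgroup.closure_induction_right with
    | one => exact ⟨0, 0, 0, by simp⟩
    | mul_right a ha b hb ih =>
      rcases hb with rfl | rfl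
      · exact mulu a ih
      · exact mulv a ih
    | mul_inv_cancel a ha b hb ih =>
      rcases hb with rfl | rfl
      · have h1 : a * b⁻¹ = a * b * b := by
          rw [mul_assoc]
          congr 1
          rw [inv_eq_iff_mul_eq_one, ← pow_two, ← pow_succ']
          exact hu
        rw [h1]
        exact mulu _ (mulu _ ih)
      · have h1 : a * b⁻¹ = a * b * b := by
          rw [mul_assoc]
          congr 1
          rw [inv_eq_iff_mul_eq_one, ← pow_two, ← pow_succ']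
          exact hv
        rw [h1]
        exact mulv _ (mulv _ ih)
  obtain ⟨i, j, k, rfl⟩ := key
  have hm : ∀ {y : X} (n : ℕ), y ^ 3 = 1 → y ^ n = y ^ (n % 3) := by
    intro y n hy
    conv_lhs => rw [← Nat.div_add_mod n 3]
    rw [pow_add, pow_mul, hy, one_pow, one_mul]
  refine ⟨i % 3, j % 3, k % 3, Nat.mod_lt _ (by norm_num), Nat.mod_lt _ (by norm_num), Nat.mod_lt _ (by norm_num), ?_⟩
  rw [← hm i hu, ← hm j hv, ← hm k hx]

include ux vx huv in
theorem hs_comm_v (i j k : ℕ) : (u ^ i * v ^ j * x ^ k) * v = x ^ i * (v * (u ^ i * v ^ j * x ^ k)) := by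
  have h1 := hs_u ux huv i
  calc (u ^ i * v ^ j * x ^ k) * v = u ^ i * v ^ j * (x ^ k * v) := by simp only [mul_assoc]
    _ = u ^ i * (v ^ j * v) * x ^ k := by rw [← (vx.pow_right k).eq]; simp only [mul_assoc]
    _ = (u ^ i * v) * v ^ j * x ^ k := by rw [← pow_succ, pow_succ' v j]; simp only [mul_assoc]
    _ = (x ^ i * (v * u ^ i)) * v ^ j * x ^ k := by rw [h1]
    _ = _ := by simp only [mul_assoc]

include ux vx huv in
theorem hs_comm_u (i j k : ℕ) : u * (u ^ i * v ^ j * x ^ k) = x ^ j * ((u ^ i * v ^ j * x ^ k) * u) := by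
  have h1 := hs_v vx huv j
  calc u * (u ^ i * v ^ j * x ^ k) = u ^ i * (u * v ^ j) * x ^ k := by
        rw [← mul_assoc, ← mul_assoc, ← pow_succ', pow_succ]; simp only [mul_assoc]
    _ = u ^ i * (x ^ j * (v ^ j * u)) * x ^ k := by rw [h1]
    _ = (u ^ i * x ^ j) * v ^ j * (u * x ^ k) := by simp only [mul_assoc]
    _ = (x ^ j * u ^ i) * v ^ j * (x ^ k * u) := by rw [((ux.pow_left i).pow_right j).eq, (ux.pow_right k).eq]
    _ = _ := by simp only [mul_assoc]

include ux vx huv in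
theorem hs_cube (hu : u ^ 3 = 1) (hv : v ^ 3 = 1) (hx : x ^ 3 = 1) (i j k : ℕ) : (u ^ i * v ^ j * x ^ k) ^ 3 = 1 := by
  -- `a = u^i`, `b = v^j`, `a b = c b a`
  have hc : ∀ {a b c : X}, a * b = c * (b * a) → Commute a c → Commute b c → a ^ 3 = 1 → b ^ 3 = 1 → c ^ 3 = 1 →
      (a * b) ^ 3 = 1 := by
    intro a b c h ca cb ha hb hc3
    have h1 : b * a = c⁻¹ * (a * b) := by rw [h, inv_mul_cancel_left]
    have ca' := ca.inv_right
    have cb' := cb.inv_right
    calc (a * b) ^ 3 = a * (b * a) * (b * a) * b := by simp only [pow_succ, pow_zero, one_mul, mul_assoc]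
      _ = a * (c⁻¹ * (a * b)) * (c⁻¹ * (a * b)) * b := by rw [h1]
      _ = (a * c⁻¹) * a * (b * c⁻¹) * a * b * b := by simp only [mul_assoc]
      _ = (c⁻¹ * a) * a * (c⁻¹ * b) * a * b * b := by rw [ca'.eq, cb'.eq]
      _ = c⁻¹ * a * (a * c⁻¹) * (b * a) * b * b := by simp only [mul_assoc]
      _ = c⁻¹ * a * (c⁻¹ * a) * (c⁻¹ * (a * b)) * b * b := by rw [ca'.eq, h1]
      _ = c⁻¹ * (a * c⁻¹) * (a * c⁻¹) * a * b * b * b := by simp only [mul_assoc]
      _ = c⁻¹ * (c⁻¹ * a) * (c⁻¹ * a) * a * b * b * b := by rw [ca'.eq]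
      _ = c⁻¹ * c⁻¹ * (a * c⁻¹) * a * a * b * b * b := by simp only [mul_assoc]
      _ = c⁻¹ * c⁻¹ * (c⁻¹ * a) * a * a * b * b * b := by rw [ca'.eq]
      _ = (c ^ 3)⁻¹ * a ^ 3 * b ^ 3 := by
        rw [← inv_pow]
        simp only [pow_succ, pow_zero, one_mul, mul_assoc]
      _ = 1 := by rw [hc3, ha, hb, inv_one, one_mul, one_mul]
  have p3 : ∀ {y : X} (n : ℕ), y ^ 3 = 1 → (y ^ n) ^ 3 = 1 := by
    intro y n hy
    rw [← pow_mul, mul_comm, pow_mul, hy, one_pow]
  have h1 : (u ^ i * v ^ j) ^ 3 = 1 := by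
    apply hc (c := x ^ (i * j)) _ ((ux.pow_left i).pow_right _) ((vx.pow_left j).pow_right _) (p3 i hu) (p3 j hv) (p3 _ hx)
    -- `u^i v^j = x^{ij} v^j u^i`
    have h2 : ∀ j : ℕ, u ^ i * v ^ j = x ^ (i * j) * (v ^ j * u ^ i) := by
      intro j
      induction j with
      | zero => simp
      | succ j ih =>
        calc u ^ i * v ^ (j + 1) = (u ^ i * v ^ j) * v := by rw [pow_succ]; simp only [mul_assoc]
          _ = x ^ (i * j) * (v ^ j * (u ^ i * v)) := by rw [ih]; simp only [mul_assoc]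
          _ = x ^ (i * j) * ((v ^ j * x ^ i) * (v * u ^ i)) := by rw [hs_u ux huv i]; simp only [mul_assoc]
          _ = x ^ (i * j) * ((x ^ i * v ^ j) * (v * u ^ i)) := by rw [((vx.pow_left j).pow_right i).eq]
          _ = x ^ (i * (j + 1)) * (v ^ (j + 1) * u ^ i) := by
            rw [Nat.mul_succ, pow_add, pow_succ v]; simp only [mul_assoc]
    exact h2 j
  have h3 : Commute (u ^ i * v ^ j) (x ^ k) := ((ux.pow_left i).mul_left (vx.pow_left j)).pow_right k
  rw [h3.mul_pow, h1, p3 k hx, one_mul]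

include hu hv hx ux vx huv in
theorem hs_es (hx1 : x ≠ 1) : ES (zpowers x) (Subgroup.closure {u, v}) ∧ Nat.card (Subgroup.closure {u, v}) = 27 := by
  have hxm : x ∈ Subgroup.closure {u, v} := by
    have h1 : x = u * v * u⁻¹ * v⁻¹ := by
      rw [huv]
      group
    have hu' : u ∈ Subgroup.closure {u, v} := Subgroup.subset_closure (Or.inl rfl)
    have hv' : v ∈ Subgroup.closure {u, v} := Subgroup.subset_closure (Or.inr rfl)
    rw [h1]
    exact mul_mem (mul_mem (mul_mem hu' hv') (inv_mem hu')) (inv_mem hv')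
  have hle : zpowers x ≤ Subgroup.closure {u, v} := by rwa [zpowers_le]
  have hum : u ∈ Subgroup.closure {u, v} := Subgroup.subset_closure (Or.inl rfl)
  have hvm : v ∈ Subgroup.closure {u, v} := Subgroup.subset_closure (Or.inr rfl)
  have ho : orderOf x = 3 := orderOf_eq_prime hx hx1
  have hpow : ∀ {i : ℕ}, i < 3 → x ^ i = 1 → i = 0 := by
    intro i hi h
    have h1 := orderOf_dvd_of_pow_eq_one h
    rw [ho] at h1
    omega
  have hcx : ∀ g ∈ Subgroup.closure {u, v}, Commute x g := by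
    intro g hg
    obtain ⟨i, j, k, -, -, -, rfl⟩ := hs_form hu hv hx ux vx huv hg
    exact ((ux.symm.pow_right i).mul_right (vx.symm.pow_right j)).mul_right ((Commute.refl x).pow_right k)
  refine ⟨⟨hle, ?_, ?_, ?_, ?_⟩, ?_⟩
  · rintro z ⟨k, rfl⟩ g hg
    exact (hcx g hg).zpow_left k
  · -- commutators
    have key : ∀ g ∈ Subgroup.closure {u, v}, ∀ h ∈ Subgroup.closure {u, v}, g * h * g⁻¹ * h⁻¹ ∈ zpowers x := by
      intro g hg h hh
      obtain ⟨i, j, k, -, -, -, rfl⟩ := hs_form hu hv hx ux vx huv hg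
      set g := u ^ i * v ^ j * x ^ k with hgd
      have hgu : g * u * g⁻¹ * u⁻¹ ∈ zpowers x := by
        have h1 := hs_comm_u ux vx huv i j k
        rw [← hgd] at h1
        have h2 : g * u * g⁻¹ * u⁻¹ = (x ^ j)⁻¹ := by
          have h3 : g * u = (x ^ j)⁻¹ * (u * g) := by rw [h1, inv_mul_cancel_left]
          rw [h3]; group
        rw [h2]
        exact inv_mem (pow_mem (mem_zpowers x) j)
      have hgv : g * v * g⁻¹ * v⁻¹ ∈ zpowers x := by
        have h1 := hs_comm_v ux vx huv i j k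
        rw [← hgd] at h1
        have h2 : g * v * g⁻¹ * v⁻¹ = x ^ i := by
          rw [h1]; group
        rw [h2]
        exact pow_mem (mem_zpowers x) i
      have hgm := hg
      clear_value g
      induction hh using Subgroup.closure_induction with
      | mem y hy =>
        rcases hy with rfl | rfl
        · exact hgu
        · exact hgv
      | one =>
        have : g * 1 * g⁻¹ * 1⁻¹ = 1 := by group
        rw [this]
        exact one_mem _
      | mul a b ha hb iha ihb =>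
        have h1 : g * (a * b) * g⁻¹ * (a * b)⁻¹ = (g * a * g⁻¹ * a⁻¹) * (a * (g * b * g⁻¹ * b⁻¹) * a⁻¹) := by group
        rw [h1]
        refine mul_mem iha ?_
        obtain ⟨n, hn⟩ := ihb
        have h2 : Commute (x ^ n) a := (hcx a ha).zpow_left n
        have h3 : a * (g * b * g⁻¹ * b⁻¹) * a⁻¹ = x ^ n := by
          rw [← hn]
          show a * x ^ n * a⁻¹ = x ^ n
          rw [← h2.eq, mul_inv_cancel_right]
        rw [h3]
        exact zpow_mem (mem_zpowers x) n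
      | inv a ha iha =>
        obtain ⟨n, hn⟩ := iha
        have hn' : x ^ n = g * a * g⁻¹ * a⁻¹ := hn
        have h2 : Commute (x ^ n) a := (hcx a ha).zpow_left n
        have h1 : g * a⁻¹ * g⁻¹ * a⁻¹⁻¹ = (a⁻¹ * (x ^ n) * a)⁻¹ := by rw [hn']; group
        rw [h1, mul_assoc, h2.eq, inv_mul_cancel_left]
        exact inv_mem (zpow_mem (mem_zpowers x) n)
    exact key
  · intro g hg
    obtain ⟨i, j, k, -, -, -, rfl⟩ := hs_form hu hv hx ux vx huv hg
    exact hs_cube ux vx huv hu hv hx i j k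
  · intro g hg hc
    obtain ⟨i, j, k, hi, hj, hk, rfl⟩ := hs_form hu hv hx ux vx huv hg
    have h1 := hs_comm_v ux vx huv i j k
    have h2 := hs_comm_u ux vx huv i j k
    rw [(hc v hvm).eq] at h1
    rw [← (hc u hum).eq] at h2
    have h3 := hpow hi (right_eq_mul.1 h1)
    have h4 := hpow hj (right_eq_mul.1 h2)
    rw [h3, h4, pow_zero, pow_zero, one_mul, one_mul]
    exact pow_mem (mem_zpowers x) k
  · -- the order
    let f : Fin 3 × Fin 3 × Fin 3 → Subgroup.closure {u, v} := fun t =>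
      ⟨u ^ (t.1 : ℕ) * v ^ (t.2.1 : ℕ) * x ^ (t.2.2 : ℕ), mul_mem (mul_mem (pow_mem hum _) (pow_mem hvm _)) (pow_mem hxm _)⟩
    have hsurj : Function.Surjective f := by
      rintro ⟨g, hg⟩
      obtain ⟨i, j, k, hi, hj, hk, rfl⟩ := hs_form hu hv hx ux vx huv hg
      exact ⟨(⟨i, hi⟩, ⟨j, hj⟩, ⟨k, hk⟩), rfl⟩
    have hxinj : ∀ {a b : ℕ}, a < 3 → b < 3 → x ^ a = x ^ b → a = b := by
      intro a b ha hb h
      have h1 := (pow_inj_mod (x := x) (n := a) (m := b)).1 h
      rw [ho, Nat.mod_eq_of_lt ha, Nat.mod_eq_of_lt hb] at h1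
      exact h1
    have hinj : Function.Injective f := by
      rintro ⟨i, j, k⟩ ⟨i', j', k'⟩ h
      have h0 : u ^ (i : ℕ) * v ^ (j : ℕ) * x ^ (k : ℕ) = u ^ (i' : ℕ) * v ^ (j' : ℕ) * x ^ (k' : ℕ) :=
        congrArg Subtype.val h
      have a1 := hs_comm_v ux vx huv i j k
      have a2 := hs_comm_v ux vx huv i' j' k'
      rw [h0, a2] at a1
      have e1 := hxinj i'.2 i.2 (mul_right_cancel a1)
      have b1 := hs_comm_u ux vx huv i j k
      have b2 := hs_comm_u ux vx huv i' j' k'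
      rw [h0, b2] at b1
      have e2 := hxinj j'.2 j.2 (mul_right_cancel b1)
      rw [e1, e2] at h0
      have e3 := hxinj k.2 k'.2 (mul_left_cancel h0)
      exact Prod.ext (Fin.ext e1.symm) (Prod.ext (Fin.ext e2.symm) (Fin.ext e3))
    rw [← Nat.card_eq_of_bijective f ⟨hinj, hsurj⟩]
    simp

end

end Cfsg.Agent.H841.Ext
end

-- part: H841/ExtF
section
/-!
# The quotients `S/Q` and `N/Q` (helper841)
-/

set_option autoImplicit false
set_option linter.unusedSectionVars false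

namespace Cfsg.Agent.H841.Ext

open Subgroup
open Cfsg.Agent.LThreeFi24.Comp Cfsg.Agent.LThreeFi24.Twin

variable {X : Type*} [Group X]

/-- the group of order 2 -/
abbrev M2 := Multiplicative (ZMod 2)

theorem m2_or (a b : M2) : a = b ∨ a = b * Multiplicative.ofAdd 1 := by
  revert a b
  decide

namespace Dat

variable {D : Set X} {x z : X} {d : Fin 5 → X} (H : Dat D x z d)

include H

theorem mem_R {n : X} : n ∈ QQ D ⊔ zpowers z ↔ ∃ q ∈ QQ D, n = q ∨ n = q * z := by
  have hQn := H.normal_Q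
  rw [Subgroup.mem_sup_of_normal_left]
  constructor
  · rintro ⟨q, hq, y, ⟨k, rfl⟩, rfl⟩
    refine ⟨q, hq, ?_⟩
    have h2 : z ^ (2 : ℤ) = 1 := by rw [zpow_ofNat, pow_two, H.zz]
    rcases Int.even_or_odd' k with ⟨m, rfl | rfl⟩
    · left
      show q * z ^ (2 * m) = q
      rw [zpow_mul, h2, one_zpow, mul_one]
    · right
      show q * z ^ (2 * m + 1) = q * z
      rw [zpow_add, zpow_mul, h2, one_zpow, one_mul, zpow_one]
  · rintro ⟨q, hq, rfl | rfl⟩
    · exact ⟨n, hq, 1, one_mem _, mul_one n⟩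
    · exact ⟨q, hq, z, mem_zpowers z, rfl⟩

theorem fx_conj {n : X} (hn : Fx D n) (c : X) : Fx D (c * n * c⁻¹) := by
  intro e he
  have he' : c⁻¹ * e * c ∈ D := by
    have := H.ts.cj e he c⁻¹
    rwa [inv_inv] at this
  have h1 := (hn _ he').conj H.ts c
  have e1 : c * (n * (c⁻¹ * e * c) * n⁻¹) * c⁻¹ = (c * n * c⁻¹) * e * (c * n * c⁻¹)⁻¹ := by group
  have e2 : c * (c⁻¹ * e * c) * c⁻¹ = e := by group
  rwa [e1, e2] at h1

section

variable [Finite X] (hc : Nat.card (Qc D (d 0)) = 27) (hx : Nat.card (zpowers x) = 3)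
  {P : Type*} [Group P] {f : ↥(S0 D z) →* P} (F : FDat D z f) [IsSimpleGroup P] (h2 : 2 ∣ Nat.card P)

include F h2 in
theorem Q_inf : QQ D ⊓ S0 D z = ⊥ := H.inf_S0 F h2 H.normal_Q (isPGroup_twins H.ts)

include F h2 in
/-- the homomorphism of `S` -/
theorem exists_pi : ∃ π : ↥(QQ D ⊔ S0 D z) →* P, Function.Surjective π ∧
    (∀ s : ↥(QQ D ⊔ S0 D z), π s = 1 ↔ (s : X) ∈ QQ D ⊔ zpowers z) ∧
    (∀ (q : X) (hq : q ∈ QQ D) (s : S0 D z),
      π ⟨q * s, mul_mem (Subgroup.mem_sup_left hq) (Subgroup.mem_sup_right s.2)⟩ = f s) := by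
  obtain ⟨π, hπ⟩ := exists_ext H.normal_Q (H.Q_inf F h2) f
  have hS0 : ∀ s : S0 D z, π ⟨s, Subgroup.mem_sup_right s.2⟩ = f s := by
    intro s
    rw [← hπ 1 (one_mem _) s]
    congr 1
    exact Subtype.ext (one_mul (s : X)).symm
  refine ⟨π, ?_, ?_, hπ⟩
  · intro p
    obtain ⟨s, rfl⟩ := F.surj p
    exact ⟨_, hS0 s⟩
  · intro s
    have hQn := H.normal_Q
    obtain ⟨q, hq, s0, hs0, h1⟩ := Subgroup.mem_sup_of_normal_left.1 s.2
    have h3 : s = ⟨q * (⟨s0, hs0⟩ : S0 D z), mul_mem (Subgroup.mem_sup_left hq) (Subgroup.mem_sup_right hs0)⟩ :=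
      Subtype.ext h1.symm
    constructor
    · intro h
      rw [h3, hπ q hq ⟨s0, hs0⟩] at h
      rw [H.mem_R]
      refine ⟨q, hq, ?_⟩
      rcases F.ker _ h with h4 | h4
      · left
        rw [← h1, show s0 = 1 from h4, mul_one]
      · right
        rw [← h1, show s0 = z from h4]
    · intro h
      rw [H.mem_R] at h
      obtain ⟨q', hq', h4⟩ := h
      rcases h4 with h4 | h4
      · have h5 : s = ⟨q' * (1 : S0 D z), mul_mem (Subgroup.mem_sup_left hq') (Subgroup.mem_sup_right (1 : S0 D z).2)⟩ :=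
          Subtype.ext (by rw [h4]; exact (mul_one q').symm)
        rw [h5, hπ q' hq' 1, map_one]
      · have h5 : s = ⟨q' * (⟨z, H.z_mem_S0⟩ : S0 D z), mul_mem (Subgroup.mem_sup_left hq')
            (Subgroup.mem_sup_right H.z_mem_S0)⟩ := Subtype.ext h4
        rw [h5, hπ q' hq' ⟨z, H.z_mem_S0⟩]
        exact F.fz _ rfl

theorem closure_normal : (QQ D ⊔ S0 D z).Normal := by
  rw [← H.closure_D]
  refine ⟨fun n hn g => ?_⟩
  induction hn using Subgroup.closure_induction with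
  | mem y hy => exact Subgroup.subset_closure (H.ts.cj y hy g)
  | one => rw [mul_one, mul_inv_cancel]; exact one_mem _
  | mul a b _ _ iha ihb =>
    have e1 : g * (a * b) * g⁻¹ = (g * a * g⁻¹) * (g * b * g⁻¹) := by group
    rw [e1]; exact mul_mem iha ihb
  | inv a _ iha =>
    have e1 : g * a⁻¹ * g⁻¹ = (g * a * g⁻¹)⁻¹ := by group
    rw [e1]; exact inv_mem iha

include hc hx F h2 in
/-- the homomorphisms of `S` and of `X` -/
theorem exists_Phi : ∃ (π : ↥(QQ D ⊔ S0 D z) →* P) (Φ : X →* MulAut P), Function.Surjective π ∧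
    (∀ s : ↥(QQ D ⊔ S0 D z), π s = 1 ↔ (s : X) ∈ QQ D ⊔ zpowers z) ∧
    (∀ c, Φ c = 1 ↔ c ∈ QQ D ⊔ zpowers z) := by
  obtain ⟨π, hs, hk, hπ⟩ := H.exists_pi F h2
  obtain ⟨Φ, hΦ⟩ := Cfsg.Agent.H831.ConjAut.exists_conj H.closure_normal π hs (by
    intro c k h
    rw [hk] at h ⊢
    rw [← H.fx_iff hc hx] at h ⊢
    exact H.fx_conj h c)
  refine ⟨π, Φ, hs, hk, ?_⟩
  intro c
  constructor
  · intro h
    rw [← H.fx_iff hc hx]
    have key : ∀ t ∈ D, Commute t z → Tw D (c * t * c⁻¹) t := by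
      intro t ht htz
      obtain ⟨t', ht', htz', hw⟩ := H.tw _ (H.ts.cj t ht c)
      have h3 : c * t * c⁻¹ * t' ∈ QQ D := Subgroup.subset_closure ⟨_, H.ts.cj t ht c, t', ht', hw, hw.nc (H.ts.cj t ht c) ht', rfl⟩
      have mt : t ∈ QQ D ⊔ S0 D z := Subgroup.mem_sup_right (Subgroup.subset_closure ⟨ht, htz⟩)
      have h4 := hΦ c ⟨t, mt⟩
      rw [h] at h4
      -- `π (c t c⁻¹) = f t'`
      have h5 := hπ _ h3 ⟨t', Subgroup.subset_closure ⟨ht', htz'⟩⟩
      have h6 := hπ 1 (one_mem _) ⟨t, Subgroup.subset_closure ⟨ht, htz⟩⟩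
      have e1 : (⟨c * (⟨t, mt⟩ : ↥(QQ D ⊔ S0 D z)) * c⁻¹, H.closure_normal.conj_mem _ mt c⟩ : ↥(QQ D ⊔ S0 D z)) =
          ⟨c * t * c⁻¹ * t' * (⟨t', Subgroup.subset_closure ⟨ht', htz'⟩⟩ : S0 D z),
            mul_mem (Subgroup.mem_sup_left h3) (Subgroup.mem_sup_right (Subgroup.subset_closure ⟨ht', htz'⟩))⟩ := by
        apply Subtype.ext
        show c * t * c⁻¹ = c * t * c⁻¹ * t' * t'
        rw [mul_assoc _ t' t', H.ts.sq t' ht', mul_one]
      have e2 : (⟨t, mt⟩ : ↥(QQ D ⊔ S0 D z)) = ⟨1 * (⟨t, Subgroup.subset_closure ⟨ht, htz⟩⟩ : S0 D z),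
          mul_mem (Subgroup.mem_sup_left (one_mem _)) (Subgroup.mem_sup_right (Subgroup.subset_closure ⟨ht, htz⟩))⟩ :=
        Subtype.ext (one_mul t).symm
      have h7 : π ⟨t, mt⟩ = π ⟨c * t * c⁻¹, H.closure_normal.conj_mem _ mt c⟩ := h4
      rw [e1, h5, e2, h6] at h7
      have h8 := F.inj t t' ⟨ht, htz⟩ ⟨ht', htz'⟩ h7
      rw [← h8] at hw
      exact hw
    intro e he
    obtain ⟨t, ht, htz, hw⟩ := H.tw e he
    exact ((hw.conj H.ts c).trans (key t ht htz)).trans hw.symm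
  · intro h
    have hcS : c ∈ QQ D ⊔ S0 D z := by
      have : QQ D ⊔ zpowers z ≤ QQ D ⊔ S0 D z := sup_le_sup_left (zpowers_le.2 H.z_mem_S0) _
      exact this h
    ext p
    obtain ⟨k, rfl⟩ := hs p
    rw [hΦ]
    have e1 : (⟨c * k * c⁻¹, H.closure_normal.conj_mem k k.2 c⟩ : ↥(QQ D ⊔ S0 D z)) = ⟨c, hcS⟩ * k * ⟨c, hcS⟩⁻¹ := rfl
    have e2 : π ⟨c, hcS⟩ = 1 := (hk ⟨c, hcS⟩).2 h
    rw [e1, map_mul, map_mul, map_inv, e2, one_mul, inv_one, mul_one]
    rfl

include hc hx F h2 in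
/-- **the largest normal 3-subgroup** -/
theorem pCore_eq : Cfsg.pCore 3 X = QQ D := by
  have : Fact (Nat.Prime 3) := ⟨Nat.prime_three⟩
  have hle : QQ D ≤ Cfsg.pCore 3 X := Cfsg.Agent.Lib.Cores.le_pCore H.normal_Q (isPGroup_twins H.ts)
  apply le_antisymm _ hle
  have hi := H.inf_S0 F h2 (Cfsg.Agent.Lib.Cores.pCore_normal (G := X) 3) (Cfsg.Agent.Lib.Cores.pCore_isPGroup (G := X) 3)
  have hRn := Cfsg.Agent.Lib.Cores.pCore_normal (G := X) 3
  intro r hr
  have hfx : Fx D r := by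
    have key : ∀ t ∈ D, Commute t z → Tw D (r * t * r⁻¹) t := by
      intro t ht htz
      obtain ⟨t', ht', htz', hw⟩ := H.tw _ (H.ts.cj t ht r)
      have h3 : r * t * r⁻¹ * t' ∈ QQ D := Subgroup.subset_closure ⟨_, H.ts.cj t ht r, t', ht', hw, hw.nc (H.ts.cj t ht r) ht', rfl⟩
      have h4 : r * t * r⁻¹ * t⁻¹ ∈ Cfsg.pCore 3 X := by
        have h5 : r * t * r⁻¹ * t⁻¹ = r * (t * r⁻¹ * t⁻¹) := by group
        rw [h5]
        exact mul_mem hr (hRn.conj_mem _ (inv_mem hr) t)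
      have h5 : t' * t⁻¹ ∈ Cfsg.pCore 3 X ⊓ S0 D z := by
        refine Subgroup.mem_inf.2 ⟨?_, mul_mem (Subgroup.subset_closure ⟨ht', htz'⟩)
          (inv_mem (Subgroup.subset_closure ⟨ht, htz⟩))⟩
        have h6 : t' * t⁻¹ = (r * t * r⁻¹ * t')⁻¹ * (r * t * r⁻¹ * t⁻¹) := by
          rw [mul_inv_rev, H.ts.inv_eq ht']
          group
        rw [h6]
        exact mul_mem (inv_mem (hle h3)) h4
      rw [hi, Subgroup.mem_bot] at h5
      rw [mul_inv_eq_one.1 h5] at hw
      exact hw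
    intro e he
    obtain ⟨t, ht, htz, hw⟩ := H.tw e he
    exact ((hw.conj H.ts r).trans (key t ht htz)).trans hw.symm
  rw [H.fx_iff hc hx, H.mem_R] at hfx
  obtain ⟨q, hq, h3 | h3⟩ := hfx
  · rw [h3]; exact hq
  · exfalso
    apply H.z_ne
    have h4 : z ∈ Cfsg.pCore 3 X ⊓ S0 D z := by
      refine Subgroup.mem_inf.2 ⟨?_, H.z_mem_S0⟩
      have h5 : z = q⁻¹ * r := by rw [h3, inv_mul_cancel_left]
      rw [h5]
      exact mul_mem (inv_mem (hle hq)) hr
    rwa [hi, Subgroup.mem_bot] at h4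

include hc hx F h2 in
theorem fstar_eq : Cfsg.generalizedFittingSubgroup X = QQ D := by
  have : Fact (Nat.Prime 3) := ⟨Nat.prime_three⟩
  rw [Cfsg.Agent.SignalizersComponents.FStarPCore.generalizedFitting_eq_pCore_of_centralizer_le H.normal_Q
    (isPGroup_twins H.ts) (H.cent_le hc hx)]
  exact H.pCore_eq hc hx F h2

variable {ε : X →* M2} (hε : ∀ t ∈ D, ε t = Multiplicative.ofAdd 1)

include hε in
theorem eps_z : ε z = Multiplicative.ofAdd 1 := by
  rw [H.dz, map_mul, map_mul, map_mul, map_mul, hε _ (H.dD 0), hε _ (H.dD 1), hε _ (H.dD 2), hε _ (H.dD 3), hε _ (H.dD 4)]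
  decide

omit H in
include hε in
theorem eps_Q {q : X} (hq : q ∈ QQ D) : ε q = 1 := by
  induction hq using Subgroup.closure_induction with
  | mem y hy =>
    obtain ⟨a, ha, b, hb, -, -, rfl⟩ := hy
    rw [map_mul, hε a ha, hε b hb]
    decide
  | one => exact map_one _
  | mul a b _ _ iha ihb => rw [map_mul, iha, ihb, one_mul]
  | inv a _ iha => rw [map_inv, iha, inv_one]

include hε in
theorem mem_Q_iff {n : X} : n ∈ QQ D ↔ n ∈ QQ D ⊔ zpowers z ∧ ε n = 1 := by
  constructor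
  · intro h
    exact ⟨Subgroup.mem_sup_left h, eps_Q hε h⟩
  · rintro ⟨h, h1⟩
    rw [H.mem_R] at h
    obtain ⟨q, hq, h3 | h3⟩ := h
    · rw [h3]; exact hq
    · exfalso
      rw [h3, map_mul, eps_Q hε hq, H.eps_z hε, one_mul] at h1
      revert h1
      decide

include hc hx F h2 hε in
/-- **`S/Q ≅ 2 × P`** -/
theorem quot_S : ∃ _ : ((QQ D).subgroupOf (Subgroup.closure D)).Normal,
    Nonempty (↥(Subgroup.closure D) ⧸ (QQ D).subgroupOf (Subgroup.closure D) ≃* M2 × P) := by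
  rw [H.closure_D]
  obtain ⟨π, Φ, hs, hk, hΦ⟩ := H.exists_Phi hc hx F h2
  let Ψ : ↥(QQ D ⊔ S0 D z) →* M2 × P := (ε.comp (QQ D ⊔ S0 D z).subtype).prod π
  have hΨ : ∀ s, Ψ s = (ε (s : X), π s) := fun _ => rfl
  have hker : Ψ.ker = (QQ D).subgroupOf (QQ D ⊔ S0 D z) := by
    ext s
    rw [MonoidHom.mem_ker, hΨ, Prod.mk_eq_one, Subgroup.mem_subgroupOf, H.mem_Q_iff hε, hk]
    exact and_comm
  have hsurj : Function.Surjective Ψ := by
    rintro ⟨a, p⟩
    obtain ⟨s, rfl⟩ := hs p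
    rcases m2_or a (ε (s : X)) with h | h
    · exact ⟨s, by rw [hΨ, h]⟩
    · refine ⟨s * ⟨z, Subgroup.mem_sup_right H.z_mem_S0⟩, ?_⟩
      rw [hΨ, map_mul, (hk ⟨z, Subgroup.mem_sup_right H.z_mem_S0⟩).2 (Subgroup.mem_sup_right (mem_zpowers z)), mul_one, h]
      congr 1
      rw [← H.eps_z hε, ← map_mul]
      rfl
  have hn : ((QQ D).subgroupOf (QQ D ⊔ S0 D z)).Normal := by
    rw [← hker]
    infer_instance
  exact ⟨hn, ⟨(QuotientGroup.quotientMulEquivOfEq hker.symm).trans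
    (QuotientGroup.quotientKerEquivOfSurjective Ψ hsurj)⟩⟩

include hc hx F h2 hε in
/-- **`N/Q ≅ 2 × Aut P`** -/
theorem quot_X (hA : Nat.card (MulAut P) = 2 * Nat.card P) (hi : ∃ n : X, n * x * n⁻¹ ≠ x) :
    ∃ _ : (QQ D).Normal, Nonempty (X ⧸ QQ D ≃* M2 × MulAut P) := by
  obtain ⟨π, Φ, hs, hk, hΦ⟩ := H.exists_Phi hc hx F h2
  have hfinP : Finite P := Finite.of_surjective π hs
  have hfinA : Finite (MulAut P) := Cfsg.Agent.H831.ConjAut.finite_mulAut P
  -- `|X| ≥ 2 |S|`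
  have hSx : ∀ s ∈ QQ D ⊔ S0 D z, Commute s x := by
    intro s hs
    rw [← H.closure_D] at hs
    induction hs using Subgroup.closure_induction with
    | mem y hy => exact H.cx y hy
    | one => exact Commute.one_left _
    | mul a b _ _ iha ihb => exact iha.mul_left ihb
    | inv a _ iha => exact iha.inv_left
  have hSne : QQ D ⊔ S0 D z ≠ ⊤ := by
    intro h
    obtain ⟨n, hn⟩ := hi
    apply hn
    have h3 := hSx n (by rw [h]; exact Subgroup.mem_top n)
    rw [h3.eq, mul_inv_cancel_right]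
  have h5 : 2 ≤ (QQ D ⊔ S0 D z).index := by
    have h6 := (QQ D ⊔ S0 D z).index_ne_zero_of_finite
    have h7 : (QQ D ⊔ S0 D z).index ≠ 1 := fun h => hSne (Subgroup.index_eq_one.1 h)
    omega
  have hR : Nat.card π.ker = Nat.card ↥(QQ D ⊔ zpowers z) := by
    have hle : QQ D ⊔ zpowers z ≤ QQ D ⊔ S0 D z := sup_le_sup_left (zpowers_le.2 H.z_mem_S0) _
    exact Nat.card_congr
      { toFun := fun s => ⟨((s : ↥(QQ D ⊔ S0 D z)) : X), (hk _).1 s.2⟩
        invFun := fun s => ⟨⟨s, hle s.2⟩, (hk _).2 s.2⟩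
        left_inv := fun _ => rfl
        right_inv := fun _ => rfl }
  have h6 : Nat.card ↥(QQ D ⊔ S0 D z) = Nat.card P * Nat.card ↥(QQ D ⊔ zpowers z) := by
    have h7 := Subgroup.card_eq_card_quotient_mul_card_subgroup π.ker
    rwa [Nat.card_congr (QuotientGroup.quotientKerEquivOfSurjective π hs).toEquiv, hR] at h7
  have hkerΦ : Φ.ker = QQ D ⊔ zpowers z := by
    ext c
    rw [MonoidHom.mem_ker, hΦ]
  have h7 : Nat.card X = Nat.card Φ.range * Nat.card ↥(QQ D ⊔ zpowers z) := by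
    have h8 := Subgroup.card_eq_card_quotient_mul_card_subgroup Φ.ker
    rwa [Nat.card_congr (QuotientGroup.quotientKerEquivRange Φ).toEquiv, hkerΦ] at h8
  have h8 : 2 * Nat.card P * Nat.card ↥(QQ D ⊔ zpowers z) ≤ Nat.card Φ.range * Nat.card ↥(QQ D ⊔ zpowers z) := by
    rw [← h7, ← (QQ D ⊔ S0 D z).card_mul_index, h6]
    calc 2 * Nat.card P * Nat.card ↥(QQ D ⊔ zpowers z) = Nat.card P * Nat.card ↥(QQ D ⊔ zpowers z) * 2 := by ring
      _ ≤ _ := Nat.mul_le_mul_left _ h5
  have h9 : Nat.card (MulAut P) ≤ Nat.card Φ.range := by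
    rw [hA]
    exact Nat.le_of_mul_le_mul_right h8 Nat.card_pos
  have h10 : Φ.range = ⊤ :=
    Subgroup.eq_top_of_card_eq _ (le_antisymm (Subgroup.card_le_card_group _) h9)
  have hsΦ : Function.Surjective Φ := MonoidHom.range_eq_top.1 h10
  let Ψ : X →* M2 × MulAut P := ε.prod Φ
  have hΨ : ∀ s, Ψ s = (ε s, Φ s) := fun _ => rfl
  have hker : Ψ.ker = QQ D := by
    ext s
    rw [MonoidHom.mem_ker, hΨ, Prod.mk_eq_one, H.mem_Q_iff hε, hΦ]
    exact and_comm
  have hsurj : Function.Surjective Ψ := by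
    rintro ⟨a, p⟩
    obtain ⟨s, rfl⟩ := hsΦ p
    rcases m2_or a (ε s) with h | h
    · exact ⟨s, by rw [hΨ, h]⟩
    · refine ⟨s * z, ?_⟩
      rw [hΨ, map_mul, map_mul, (hΦ z).2 (Subgroup.mem_sup_right (mem_zpowers z)), mul_one, h, H.eps_z hε]
  have hn := H.normal_Q
  exact ⟨hn, ⟨(QuotientGroup.quotientMulEquivOfEq hker.symm).trans
    (QuotientGroup.quotientKerEquivOfSurjective Ψ hsurj)⟩⟩

end

/-- the width -/
theorem width_le {n : ℕ} (hw : ∀ A : Set X, A ⊆ T0 D z → (∀ a ∈ A, ∀ b ∈ A, Commute a b) → A.Finite → A.ncard ≤ n)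
    {A : Set X} (hA : A ⊆ D) (hf : A.Finite) (hcom : ∀ a ∈ A, ∀ b ∈ A, Commute a b) : A.ncard ≤ n := by
  classical
  choose! t ht htz htw using H.tw
  have hinj : Set.InjOn t A := by
    intro a ha b hb hab
    have h1 : Tw D a b := (htw a (hA ha)).trans (by rw [hab]; exact (htw b (hA hb)).symm)
    rcases h1.nc (hA ha) (hA hb) with h | h
    · exact h
    · exact absurd (hcom a ha b hb) h
  rw [← hinj.ncard_image]
  apply hw
  · rintro _ ⟨a, ha, rfl⟩
    exact ⟨ht a (hA ha), htz a (hA ha)⟩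
  · rintro _ ⟨a, ha, rfl⟩ _ ⟨b, hb, rfl⟩
    by_cases hab : a = b
    · subst hab; exact Commute.refl _
    · have h1 : b ∈ Nb D a := ⟨hA hb, Ne.symm hab, hcom a ha b hb⟩
      have h2 : b ∈ Nb D (t a) := by rwa [← show Nb D a = Nb D (t a) from htw a (hA ha)]
      have h3 : t a ∈ Nb D b := ⟨ht a (hA ha), fun h => h2.2.1 h.symm, h2.2.2.symm⟩
      have h4 : t a ∈ Nb D (t b) := by rwa [← show Nb D b = Nb D (t b) from htw b (hA hb)]
      exact h4.2.2.symm
  · exact hf.image _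

end Dat

end Cfsg.Agent.H841.Ext
end

-- part: H841/TwA
section
/-!
# `Fi24`: the twins of `l` in `C(x3)` (helper841)
-/

set_option autoImplicit false
set_option maxRecDepth 100000

namespace Cfsg.Agent.H841.Tri

open Cfsg Cfsg.Agent.Lib.PermNet Cfsg.Agent.Lib.PermNetPt Cfsg.Agent.Fischer.Fi24RepDef Cfsg.Agent.Fischer.Fi24Rep
open Cfsg.Agent.Fischer.Fi24RepOrb (UG orbG)
open Cfsg.Agent.Fischer.Fi24Spider (word_append word_cons word_nil gword gen_conj)
open Cfsg.Agent.R08.FiTwentyFour (L)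
open Cfsg.Agent.KFacts.FiTF.Pts Cfsg.Agent.KFacts.FiTF.FixMask
open Cfsg.Agent.KFacts.FiTF.Defs (tr)
open Cfsg.Agent.LThreeFi24.SNineK Cfsg.Agent.LThreeFi24.SNine
open Cfsg.Agent.LThreeFi24.Comp Cfsg.Agent.LThreeFi24.Twin
open Cfsg.Agent.LThreeFi24.TwinK (M3 wx3 vl tw3l pt_l)
open Cfsg.Agent.LThreeFi24.CaseB (word_x3 mask3 tw_of tr_nil)
open Cfsg.Agent.H841.Five Cfsg.Agent.H841.TwK Cfsg.Agent.H841.Ext
open Cfsg.Agent.H834.U5 (z0 x3_eq ge x3_ge ge_mem_T0 z0_Phi z0_sq z0_ne u917 u11793 u11888 word_z0)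
open Cfsg.Spor (Fi24)
open Cfsg.Spor.Fi24 (Gen)
open Equiv

/-! ### Normalizers of groups of order 3 -/

theorem mem_zp3 {G : Type*} [Group G] {x a : G} (h3 : x ^ 3 = 1) : a ∈ Subgroup.zpowers x ↔ a = 1 ∨ a = x ∨ a = x⁻¹ := by
  constructor
  · rintro ⟨k, rfl⟩
    have h : x ^ k = x ^ (k % 3) := by
      conv_lhs => rw [← Int.mul_ediv_add_emod k 3]
      rw [zpow_add, zpow_mul, show x ^ (3 : ℤ) = 1 from by exact_mod_cast h3, one_zpow, one_mul]
    have h1 : k % 3 = 0 ∨ k % 3 = 1 ∨ k % 3 = 2 := by omega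
    show x ^ k = 1 ∨ x ^ k = x ∨ x ^ k = x⁻¹
    rw [h]
    rcases h1 with h1 | h1 | h1 <;> rw [h1]
    · left; exact zpow_zero x
    · right; left; exact zpow_one x
    · right; right
      rw [eq_inv_iff_mul_eq_one, ← zpow_add_one]
      exact_mod_cast h3
  · rintro (rfl | rfl | rfl)
    · exact one_mem _
    · exact Subgroup.mem_zpowers _
    · exact inv_mem (Subgroup.mem_zpowers _)

theorem mem_norm_zp {G : Type*} [Group G] {x g : G} (h3 : x ^ 3 = 1) (h1 : x ≠ 1) :
    g ∈ Subgroup.normalizer ((Subgroup.zpowers x : Subgroup G) : Set G) ↔ g * x * g⁻¹ = x ∨ g * x * g⁻¹ = x⁻¹ := by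
  constructor
  · intro h
    have h1' := (Subgroup.mem_normalizer_iff.1 h x).1 (Subgroup.mem_zpowers _)
    rcases (mem_zp3 h3).1 h1' with h2 | h2 | h2
    · exfalso
      apply h1
      rw [mul_inv_eq_one, mul_eq_left] at h2
      exact h2
    · exact Or.inl h2
    · exact Or.inr h2
  · intro h
    rw [Subgroup.mem_normalizer_iff]
    have hz : ∀ k : ℤ, g * x ^ k * g⁻¹ = (g * x * g⁻¹) ^ k := fun k => by rw [conj_zpow]
    intro a
    constructor
    · rintro ⟨k, rfl⟩
      show g * x ^ k * g⁻¹ ∈ _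
      rw [hz]
      rcases h with h | h
      · rw [h]; exact zpow_mem (Subgroup.mem_zpowers x) k
      · rw [h]; exact zpow_mem (inv_mem (Subgroup.mem_zpowers x)) k
    · rintro ⟨k, hk⟩
      have hk' : x ^ k = g * a * g⁻¹ := hk
      rcases h with h | h
      · have h4 : a = x ^ k := by
          have h5 := hz k
          rw [h, hk'] at h5
          exact (mul_left_cancel (mul_right_cancel h5)).symm.trans hk'.symm ▸ rfl
        rw [h4]; exact zpow_mem (Subgroup.mem_zpowers x) k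
      · have h4 : a = x ^ (-k) := by
          have h5 := hz (-k)
          rw [h, inv_zpow', neg_neg, hk'] at h5
          exact (mul_left_cancel (mul_right_cancel h5)).symm
        rw [h4]; exact zpow_mem (Subgroup.mem_zpowers x) (-k)

theorem x3_cube : x3 ^ 3 = 1 := by
  rw [x3_eq, ← map_pow]
  have : p3 ^ 3 = 1 := by decide +kernel
  rw [this, map_one]

theorem x3_ne : x3 ≠ 1 := by
  rw [x3_eq]
  intro h
  have h1 := Phi_injective (h.trans (map_one Phi).symm)
  exact absurd h1 (by decide +kernel)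

/-- `N(⟨x3⟩)` -/
def NX : Subgroup Fi24 := Subgroup.normalizer ((Subgroup.zpowers x3 : Subgroup Fi24) : Set Fi24)

theorem mem_NX {g : Fi24} : g ∈ NX ↔ g * x3 * g⁻¹ = x3 ∨ g * x3 * g⁻¹ = x3⁻¹ := mem_norm_zp x3_cube x3_ne

theorem mem_NX_of_comm {g : Fi24} (h : Commute g x3) : g ∈ NX :=
  mem_NX.2 (Or.inl (mul_inv_eq_iff_eq_mul.2 h.eq))

/-- the transpositions commuting with `x3` -/
def E3 : Set Fi24 := {t | t ∈ L ∧ Commute t x3}

/-- the same as a set of elements of `N(⟨x3⟩)` -/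
def DN : Set NX := {t | (t : Fi24) ∈ E3}

theorem E3_conj {t g : Fi24} (ht : t ∈ E3) (hg : g ∈ NX) : g * t * g⁻¹ ∈ E3 := by
  refine ⟨Cfsg.Agent.R08.FiTwentyFour.conj ht.1 g, ?_⟩
  have h1 : Commute (g * t * g⁻¹) (g * x3 * g⁻¹) := by
    show g * t * g⁻¹ * (g * x3 * g⁻¹) = g * x3 * g⁻¹ * (g * t * g⁻¹)
    have h2 : t * x3 = x3 * t := ht.2
    calc g * t * g⁻¹ * (g * x3 * g⁻¹) = g * (t * x3) * g⁻¹ := by group
      _ = g * (x3 * t) * g⁻¹ := by rw [h2]
      _ = _ := by group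
  rcases mem_NX.1 hg with h | h
  · rwa [h] at h1
  · rw [h] at h1
    have h2 := h1.inv_right
    rwa [inv_inv] at h2

theorem tsetDN : TSet DN where
  sq := fun a ha => Subtype.ext (Cfsg.Agent.R08.FiTwentyFour.sq ha.1)
  cj := fun _ ha g => E3_conj ha g.2
  tri := by
    intro a ha b hb
    rcases Cfsg.Agent.R08.FiTwentyFour.three ha.1 hb.1 with h | h
    · exact Or.inl (Subtype.ext h)
    · exact Or.inr (Subtype.ext h)

/-- an element of `E3` in `N(⟨x3⟩)` -/
def mk (t : Fi24) (ht : t ∈ E3) : NX := ⟨t, mem_NX_of_comm ht.2⟩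

theorem tw_of_sub {a b : NX} (h : ∀ f ∈ E3, f ≠ a → Commute (a : Fi24) f → f ≠ b ∧ Commute (b : Fi24) f)
    (h' : ∀ f ∈ E3, f ≠ b → Commute (b : Fi24) f → f ≠ a ∧ Commute (a : Fi24) f) : Tw DN a b := by
  have key : ∀ {a b : NX}, (∀ f ∈ E3, f ≠ a → Commute (a : Fi24) f → f ≠ b ∧ Commute (b : Fi24) f) → Nb DN a ⊆ Nb DN b := by
    intro a b h f hf
    obtain ⟨h1, h2, h3⟩ := hf
    obtain ⟨h4, h5⟩ := h f h1 (fun h6 => h2 (Subtype.ext h6)) (congrArg Subtype.val h3)
    exact ⟨h1, fun h6 => h4 (congrArg Subtype.val h6), Subtype.ext h5⟩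
  exact Set.Subset.antisymm (key h) (key h')

theorem fixB_spec {u : List Gen} : ∀ {l : List ℕ}, fixB (nw u false) l = true → ∀ p ∈ l, rho (word u) p = p
  | [], _, p, hp => absurd hp (by simp)
  | q :: l, h, p, hp => by
    have h' : and (chkPt (nw u false) q q) (fixB (nw u false) l) = true := h
    rw [Bool.and_eq_true] at h'
    rcases List.mem_cons.1 hp with rfl | hp
    · exact rho_of_chkPt h'.1
    · exact fixB_spec h'.2 p hp

/-- membership in `E3` from points -/
theorem mem_E3 {t : Fi24} {p : ℕ} (hp : IsPt t p) (h : rho x3 p = p) : t ∈ E3 :=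
  ⟨hp.mem, ((hp.comm_iff x3).2 h).symm⟩

theorem rho_x3 {p : ℕ} (h : rho (word wx3) p = p) : rho x3 p = p := by rwa [word_x3]

/-! ### The five commuting transpositions -/

theorem l_mem : gen .l ∈ E3 := mem_E3 isPt_l (rho_x3 (fixB_spec fx_t 0 (by simp)))

theorem a_mem : gen .a ∈ E3 := mem_E3 (isPt_gen .a) ((rho_x3 (fixB_spec fx_t 1 (by simp)) :))

theorem b_mem : gen .b ∈ E3 := mem_E3 (isPt_gen .b) ((rho_x3 (fixB_spec fx_t 193 (by simp)) :))

theorem k_mem : gen .k ∈ E3 := mem_E3 (isPt_gen .k) ((rho_x3 (fixB_spec fx_t 307872 (by simp)) :))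

/-- the twin `l1` of `l` -/
noncomputable def l1 : Fi24 := tr vl .k

/-- the twin `l2` of `l` -/
noncomputable def l2 : Fi24 := tr v2 .l

theorem isPt_l1 : IsPt l1 306929 := isPt_tr (u := vl) (x := .k) pt_l

theorem isPt_l2 : IsPt l2 277670 := isPt_tr (u := v2) (x := .l) pt_l2

theorem l1_mem : l1 ∈ E3 := by
  refine mem_E3 isPt_l1 ?_
  have h := Cfsg.Agent.LThreeFi24.TwinK.fx3
  rw [Bool.and_eq_true] at h
  exact rho_x3 (rho_of_chkPt h.1)

theorem l2_mem : l2 ∈ E3 := mem_E3 isPt_l2 (rho_x3 (fixB_spec fx_t 277670 (by simp)))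

/-- **`l1` is a twin of `l`** -/
theorem tw_l1 : Tw DN (mk (gen .l) l_mem) (mk l1 l1_mem) := by
  have md : tr [] .l ∈ Subgroup.centralizer ({x3} : Set Fi24) := by
    rw [tr_nil, Subgroup.mem_centralizer_singleton_iff]
    exact l_mem.2.eq
  have me : tr vl .k ∈ Subgroup.centralizer ({x3} : Set Fi24) := by
    rw [Subgroup.mem_centralizer_singleton_iff]
    exact l1_mem.2.eq
  have hd : IsPt (tr [] .l) 0 := by rw [tr_nil]; exact isPt_l
  have h := tw_of (x := x3) (A := M3) (fun p hp h => mask3 hp h) hd isPt_l1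
    (rho_x3 (fixB_spec fx_t 0 (by simp))) ((isPt_l1.comm_iff x3).1 l1_mem.2.symm) tw3l md me
  have e : ∀ {a b : ↥(Subgroup.centralizer ({x3} : Set Fi24))},
      Tw (Cfsg.Agent.LThreeFi24.Red24.DX (Subgroup.centralizer ({x3} : Set Fi24))) a b →
      ∀ f ∈ E3, f ≠ a → Commute (a : Fi24) f → f ≠ b ∧ Commute (b : Fi24) f := by
    intro a b hab f hf hne hc
    have hfm : f ∈ Subgroup.centralizer ({x3} : Set Fi24) := by
      rw [Subgroup.mem_centralizer_singleton_iff]
      exact hf.2.eq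
    have h1 : (⟨f, hfm⟩ : ↥(Subgroup.centralizer ({x3} : Set Fi24))) ∈
        Nb (Cfsg.Agent.LThreeFi24.Red24.DX (Subgroup.centralizer ({x3} : Set Fi24))) a :=
      ⟨hf.1, fun h => hne (congrArg Subtype.val h), Subtype.ext hc⟩
    rw [show Nb _ a = Nb _ b from hab] at h1
    exact ⟨fun h => h1.2.1 (Subtype.ext h), congrArg Subtype.val h1.2.2⟩
  have h' := h.symm
  have e1 : ∀ f ∈ E3, f ≠ tr [] .l → Commute (tr [] .l) f → f ≠ l1 ∧ Commute l1 f := e h
  have e2 : ∀ f ∈ E3, f ≠ l1 → Commute l1 f → f ≠ tr [] .l ∧ Commute (tr [] .l) f := e h'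
  rw [tr_nil] at e1 e2
  exact tw_of_sub e1 e2

/-- the element `h` -/
noncomputable def hh : Fi24 := word wh

theorem word_single (x : Gen) : word [x] = gen x := by rw [word_cons, word_nil, mul_one]

theorem wt_mem : word wt ∈ E3 := by
  refine mem_E3 (p := 12819) ?_ (rho_x3 (fixB_spec fx_t 12819 (by simp)))
  exact isPt_tr (u := [.f, .e, .c, .d, .h, .i, .d, .e, .c, .d, .h, .g, .f, .e, .d, .c]) (x := .b) pt_t

theorem hh_comm : Commute hh x3 := by
  have hk := k_mem.2
  have hl := l_mem.2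
  have ha := a_mem.2
  have hb := b_mem.2
  have ht := wt_mem.2
  unfold hh wh
  rw [word_append, word_append, word_append, word_append]
  simp only [word_cons, word_nil, mul_one]
  exact (hk.mul_left (hl.mul_left ha)).mul_left (ht.mul_left ((hb.mul_left (ha.mul_left (hk.mul_left ha))).mul_left
    (ht.mul_left (hl.mul_left (hb.mul_left (ha.mul_left hk))))))

theorem hh_l : hh * gen .l * hh⁻¹ = gen .l := isPt_l.conj_eq isPt_l (rho_of_chkPt h_l)

theorem hh_l1 : hh * l1 * hh⁻¹ = l2 := isPt_l1.conj_eq isPt_l2 (rho_of_chkPt h_l1)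

theorem tw_l2 : Tw DN (mk (gen .l) l_mem) (mk l2 l2_mem) := by
  have h := tw_l1.conj tsetDN ⟨hh, mem_NX_of_comm hh_comm⟩
  have e1 : (⟨hh, mem_NX_of_comm hh_comm⟩ : NX) * mk (gen .l) l_mem * (⟨hh, mem_NX_of_comm hh_comm⟩ : NX)⁻¹ =
      mk (gen .l) l_mem := Subtype.ext hh_l
  have e2 : (⟨hh, mem_NX_of_comm hh_comm⟩ : NX) * mk l1 l1_mem * (⟨hh, mem_NX_of_comm hh_comm⟩ : NX)⁻¹ =
      mk l2 l2_mem := Subtype.ext hh_l1
  rwa [e1, e2] at h

end Cfsg.Agent.H841.Tri
end
end

-- part: H841/TwG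
section
prune_inst 0x1000200000000000000002000000400000040200430001514002000206902109002e0070200a100920002000080020024c0009000000000000020000040000002000028108000000000000b804000000000000000000000000000000041000000000000
set_option linter.all false
open scoped Cfsg.Agent.FastGrp

-- part: H841/TwB
section
/-!
# `Fi24`: the nine twins of `l`, the group `3^{1+2}` (helper841)
-/

set_option autoImplicit false
set_option maxRecDepth 100000

namespace Cfsg.Agent.H841.Tri

open Cfsg Cfsg.Agent.Lib.PermNet Cfsg.Agent.Lib.PermNetPt Cfsg.Agent.Fischer.Fi24RepDef Cfsg.Agent.Fischer.Fi24Rep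
open Cfsg.Agent.Fischer.Fi24RepOrb (UG orbG)
open Cfsg.Agent.Fischer.Fi24Spider (word_append word_cons word_nil gword gen_conj)
open Cfsg.Agent.R08.FiTwentyFour (L)
open Cfsg.Agent.KFacts.FiTF.Pts Cfsg.Agent.KFacts.FiTF.FixMask
open Cfsg.Agent.KFacts.FiTF.Defs (tr)
open Cfsg.Agent.LThreeFi24.SNineK Cfsg.Agent.LThreeFi24.SNine
open Cfsg.Agent.LThreeFi24.Comp Cfsg.Agent.LThreeFi24.Twin
open Cfsg.Agent.LThreeFi24.TwinK (M3 wx3 vl tw3l pt_l)
open Cfsg.Agent.LThreeFi24.FiveConj (eq_of_eqB)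
open Cfsg.Agent.LThreeFi24.CaseB (word_x3 mask3 tw_of tr_nil)
open Cfsg.Agent.H841.Five Cfsg.Agent.H841.TwK Cfsg.Agent.H841.Ext
open Cfsg.Agent.H834.U5 (z0 x3_eq ge x3_ge ge_mem_T0 z0_Phi z0_sq z0_ne u917 u11793 u11888 word_z0)
open Cfsg.Spor (Fi24)
open Cfsg.Spor.Fi24 (Gen)
open Equiv

/-- the elements in `N(⟨x3⟩)` -/
noncomputable def lN : NX := mk (gen .l) l_mem
noncomputable def l1N : NX := mk l1 l1_mem
noncomputable def l2N : NX := mk l2 l2_mem
noncomputable def uN : NX := lN * l1N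
noncomputable def vN : NX := lN * l2N
def xN : NX := ⟨x3, mem_NX_of_comm (Commute.refl x3)⟩

theorem lN_mem : lN ∈ DN := l_mem
theorem l1N_mem : l1N ∈ DN := l1_mem
theorem l2N_mem : l2N ∈ DN := l2_mem

theorem xN_cube : xN ^ 3 = 1 := Subtype.ext x3_cube

theorem xN_ne : xN ≠ 1 := fun h => x3_ne (congrArg Subtype.val h)

theorem cxN {t : NX} (ht : t ∈ DN) : Commute t xN := Subtype.ext ht.2

theorem cube_of {a b : NX} (ha : a ∈ DN) (hb : b ∈ DN) (hw : Tw DN a b) : (a * b) ^ 3 = 1 := by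
  have h3 := TSet.swap tsetDN ha hb (hw.nc ha hb)
  rw [tsetDN.inv_eq ha, tsetDN.inv_eq hb] at h3
  have h4 := tsetDN.sq a ha
  have h5 := tsetDN.sq b hb
  calc (a * b) ^ 3 = (a * b * a) * (b * a * b) := by simp only [pow_succ, pow_zero, one_mul, mul_assoc]
    _ = (a * b * a) * (a * b * a) := by rw [h3]
    _ = a * b * (a * a) * b * a := by simp only [mul_assoc]
    _ = a * (b * b) * a := by rw [h4, mul_one]; simp only [mul_assoc]
    _ = 1 := by rw [h5, mul_one, h4]

theorem uN_cube : uN ^ 3 = 1 := cube_of lN_mem l1N_mem tw_l1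
theorem vN_cube : vN ^ 3 = 1 := cube_of lN_mem l2N_mem tw_l2

theorem word_l1 : word w1 = l1 := by
  unfold w1 l1
  rfl

theorem word_l2 : word w2 = l2 := by
  unfold w2 l2
  rfl

theorem word_rev (w : List Gen) : word w.reverse = (word w)⁻¹ := by
  induction w with
  | nil => rw [List.reverse_nil, word_nil, inv_one]
  | cons x w ih =>
    rw [List.reverse_cons, word_append, ih, word_single, word_cons, mul_inv_rev]
    congr 1
    exact (inv_eq_of_mul_eq_one_left (Cfsg.Agent.R08.FiTwentyFour.sq (isPt_gen x).mem)).symm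

theorem uv_eq : uN * vN = xN⁻¹ * (vN * uN) := by
  have h := eq_of_eqB _root_.Cfsg.Agent.H841.TwK.eq_comm
  rw [word_rev, ← word_x3] at h
  rw [word_append, word_append, word_append, word_append, word_append, word_cons, word_cons, word_single, word_l1, word_l2] at h
  have sl := Cfsg.Agent.R08.FiTwentyFour.sq l_mem.1
  have s1 := Cfsg.Agent.R08.FiTwentyFour.sq l1_mem.1
  have s2 := Cfsg.Agent.R08.FiTwentyFour.sq l2_mem.1
  apply Subtype.ext
  show gen .l * l1 * (gen .l * l2) = x3⁻¹ * (gen .l * l2 * (gen .l * l1))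
  rw [← h]
  calc gen .l * l1 * (gen .l * l2)
      = gen .l * l1 * (gen .l * l2) * (l1 * ((gen .l * gen .l) * l1)) := by rw [sl, one_mul, s1, mul_one]
    _ = gen .l * l1 * (gen .l * l2) * (l1 * (gen .l * ((l2 * l2) * (gen .l * l1)))) := by rw [s2, one_mul]; simp only [mul_assoc]
    _ = gen .l * l1 * (gen .l * l2) * (l1 * (gen .l * ((l2 * ((gen .l * gen .l) * l2)) * (gen .l * l1)))) := by
      rw [sl, one_mul]
    _ = _ := by simp only [mul_assoc]

theorem es_uv : ES (Subgroup.zpowers xN) (Subgroup.closure {uN, vN}) ∧ Nat.card (Subgroup.closure {uN, vN}) = 27 := by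
  have hux : Commute uN xN := (cxN lN_mem).mul_left (cxN l1N_mem)
  have hvx : Commute vN xN := (cxN lN_mem).mul_left (cxN l2N_mem)
  have h := hs_es (x := xN⁻¹) uN_cube vN_cube (by rw [inv_pow, xN_cube, inv_one]) hux.inv_right hvx.inv_right uv_eq
    (fun h => xN_ne (inv_eq_one.1 h))
  rwa [Subgroup.zpowers_inv] at h

/-! ### The nine twins -/

/-- the conjugates of `l` under `⟨u, v⟩` -/
noncomputable def tau (i j : ℕ) : NX := (uN ^ i * vN ^ j) * lN * (uN ^ i * vN ^ j)⁻¹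

/-- the points -/
def pij (i j : ℕ) : ℕ := match i, j with
  | 0, 0 => 0
  | 0, 1 => 277670
  | 0, 2 => 277638
  | 1, 0 => 306929
  | 1, 1 => 277583
  | 1, 2 => 276547
  | 2, 0 => 306897
  | 2, 1 => 276579
  | 2, 2 => 277615
  | _, _ => 0

theorem rho_u {p q : ℕ} (h : chkPt (nw (Gen.l :: w1) false) p q = true) : rho (uN : Fi24) p = q := by
  have h1 := rho_of_chkPt h
  rw [word_cons, word_l1] at h1
  exact h1

theorem rho_v {p q : ℕ} (h : chkPt (nw (Gen.l :: w2) false) p q = true) : rho (vN : Fi24) p = q := by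
  have h1 := rho_of_chkPt h
  rw [word_cons, word_l2] at h1
  exact h1

theorem coe_tau (i j : ℕ) :
    (tau i j : Fi24) = ((uN : Fi24) ^ i * (vN : Fi24) ^ j) * gen .l * ((uN : Fi24) ^ i * (vN : Fi24) ^ j)⁻¹ := by
  unfold tau
  rw [Subgroup.coe_mul, Subgroup.coe_mul, Subgroup.coe_inv, Subgroup.coe_mul, Subgroup.coe_pow, Subgroup.coe_pow]
  rfl

theorem rho_pw {g : Fi24} {p q r : ℕ} (h1 : rho g p = q) (h2 : rho g q = r) :
    rho (g ^ 0) p = p ∧ rho (g ^ 1) p = q ∧ rho (g ^ 2) p = r := by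
  refine ⟨by rw [pow_zero, map_one]; rfl, by rw [pow_one, h1], ?_⟩
  rw [pow_two, map_mul, Perm.mul_apply, h1, h2]

theorem isPt_tau_aux {i j p q : ℕ} (h1 : rho ((vN : Fi24) ^ j) 0 = p) (h2 : rho ((uN : Fi24) ^ i) p = q) :
    IsPt (tau i j : Fi24) q := by
  rw [coe_tau]
  refine isPt_l.conj' ?_
  rw [map_mul, Perm.mul_apply, h1, h2]

theorem isPt_tau {i j : ℕ} (hi : i < 3) (hj : j < 3) : IsPt (tau i j : Fi24) (pij i j) := by
  have h := nine
  simp only [Bool.and_eq_true] at h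
  obtain ⟨h1, h2, h3, h4, h5, h6, h7, h8⟩ := h
  have v := rho_pw (rho_v h1) (rho_v h2)
  have ua := rho_pw (rho_u h3) (rho_u h6)
  have ub := rho_pw (rho_u h4) (rho_u h7)
  have uc := rho_pw (rho_u h5) (rho_u h8)
  have hi' : i = 0 ∨ i = 1 ∨ i = 2 := by omega
  have hj' : j = 0 ∨ j = 1 ∨ j = 2 := by omega
  rcases hi' with rfl | rfl | rfl <;> rcases hj' with rfl | rfl | rfl
  · exact isPt_tau_aux v.1 ua.1
  · exact isPt_tau_aux v.2.1 ub.1
  · exact isPt_tau_aux v.2.2 uc.1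
  · exact isPt_tau_aux v.1 ua.2.1
  · exact isPt_tau_aux v.2.1 ub.2.1
  · exact isPt_tau_aux v.2.2 uc.2.1
  · exact isPt_tau_aux v.1 ua.2.2
  · exact isPt_tau_aux v.2.1 ub.2.2
  · exact isPt_tau_aux v.2.2 uc.2.2

theorem tau_mem (i j : ℕ) : tau i j ∈ DN := tsetDN.cj _ lN_mem _

theorem uN_QQ : uN ∈ QQ DN := Subgroup.subset_closure ⟨lN, lN_mem, l1N, l1N_mem, tw_l1, tw_l1.nc lN_mem l1N_mem, rfl⟩

theorem vN_QQ : vN ∈ QQ DN := Subgroup.subset_closure ⟨lN, lN_mem, l2N, l2N_mem, tw_l2, tw_l2.nc lN_mem l2N_mem, rfl⟩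

theorem tw_tau (i j : ℕ) : Tw DN (tau i j) lN :=
  fx_of_mem tsetDN (mul_mem (pow_mem uN_QQ i) (pow_mem vN_QQ j)) lN lN_mem

theorem pij_inj' : ∀ i j i' j' : Fin 3, pij i j = pij i' j' → i = i' ∧ j = j' := by decide

theorem pij_inj {i j i' j' : ℕ} (hi : i < 3) (hj : j < 3) (hi' : i' < 3) (hj' : j' < 3) (h : pij i j = pij i' j') :
    i = i' ∧ j = j' := by
  have h1 := pij_inj' ⟨i, hi⟩ ⟨j, hj⟩ ⟨i', hi'⟩ ⟨j', hj'⟩ h
  exact ⟨congrArg Fin.val h1.1, congrArg Fin.val h1.2⟩

theorem tau_inj {i j i' j' : ℕ} (hi : i < 3) (hj : j < 3) (hi' : i' < 3) (hj' : j' < 3) (h : tau i j = tau i' j') :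
    i = i' ∧ j = j' := by
  have h1 := isPt_tau hi hj
  rw [h] at h1
  exact pij_inj hi hj hi' hj' (h1.uniq (isPt_tau hi' hj'))

/-- the three transpositions of the sieve -/
noncomputable def s2 : Fi24 := tr [.b] .a
noncomputable def s3 : Fi24 := tr [.h, .i, .d, .h, .e, .d, .c, .b] .a

theorem isPt_s2 : IsPt s2 192 := isPt_tr (u := [.b]) (x := .a) pt_bab
theorem isPt_s3 : IsPt s3 2352 := isPt_tr (u := [.h, .i, .d, .h, .e, .d, .c, .b]) (x := .a) pt_w3

theorem s2_mem : s2 ∈ E3 := mem_E3 isPt_s2 (rho_x3 (fixB_spec fx_w3 192 (by simp)))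
theorem s3_mem : s3 ∈ E3 := mem_E3 isPt_s3 (rho_x3 (fixB_spec fx_w3 2352 (by simp)))

theorem nb_of_pt {t : Fi24} {p : ℕ} (hp : IsPt t p) (ht : t ∈ E3) (h0 : p ≠ 0) (h : rho (word [.l]) p = p) :
    mk t ht ∈ Nb DN lN := by
  refine ⟨ht, ?_, ?_⟩
  · intro h1
    apply h0
    have h2 : t = gen .l := congrArg Subtype.val h1
    rw [h2] at hp
    exact hp.uniq isPt_l
  · apply Subtype.ext
    rw [word_single] at h
    exact (hp.comm_iff _).2 h

/-- **the twins of `l`** -/
theorem twins_l {e : NX} (he : e ∈ DN) (hw : Tw DN lN e) : ∃ i < 3, ∃ j < 3, e = tau i j := by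
  obtain ⟨p, hp⟩ := exists_pt he.1
  have hM : M3.testBit p = true := mask3 (bit hp) ((hp.comm_iff x3).1 he.2.symm)
  have key : ∀ {t : Fi24} {q : ℕ} (ht : t ∈ E3), IsPt t q → q ≠ 0 → rho (word [.l]) q = q → rho t p = p := by
    intro t q ht hq h0 h
    have h1 := nb_of_pt hq ht h0 h
    rw [show Nb DN lN = Nb DN e from hw] at h1
    have h2 : Commute (e : Fi24) t := congrArg Subtype.val h1.2.2
    exact (hp.comm_iff t).1 h2.symm
  have k1 : rho (word [.a]) p = p := by
    rw [word_single]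
    exact key a_mem (isPt_gen .a) (by decide) (fixB_spec l_fix 1 (by simp))
  have k2 : rho (word [.b, .a, .b]) p = p := by
    have h1 := key s2_mem isPt_s2 (by decide) (fixB_spec l_fix 192 (by simp))
    exact h1
  have k3 : rho (word w3) p = p := by
    have h1 := key s3_mem isPt_s3 (by decide) (fixB_spec l_fix 2352 (by simp))
    exact h1
  have h := sieve_tw
  rw [seqB_eq, seqB_eq] at h
  have c1 := sv_spec (wok [.a] false) bl hM (by rw [← rho_word]; exact k1)
  have c2 := sv_spec (wok [.b, .a, .b] false) bl c1 (by rw [← rho_word]; exact k2)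
  have c3 := sv_spec (wok w3 false) bl c2 (by rw [← rho_word]; exact k3)
  rw [Nat.eq_of_beq_eq_true h, testBit_msk] at c3
  have hfin : ∃ i < 3, ∃ j < 3, p = pij i j := by
    simp only [List.mem_cons, List.not_mem_nil, or_false] at c3
    rcases c3 with rfl | rfl | rfl | rfl | rfl | rfl | rfl | rfl | rfl
    · exact ⟨0, by norm_num, 0, by norm_num, rfl⟩
    · exact ⟨1, by norm_num, 2, by norm_num, rfl⟩
    · exact ⟨2, by norm_num, 1, by norm_num, rfl⟩
    · exact ⟨1, by norm_num, 1, by norm_num, rfl⟩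
    · exact ⟨2, by norm_num, 2, by norm_num, rfl⟩
    · exact ⟨0, by norm_num, 2, by norm_num, rfl⟩
    · exact ⟨0, by norm_num, 1, by norm_num, rfl⟩
    · exact ⟨2, by norm_num, 0, by norm_num, rfl⟩
    · exact ⟨1, by norm_num, 0, by norm_num, rfl⟩
  obtain ⟨i, hi, j, hj, rfl⟩ := hfin
  exact ⟨i, hi, j, hj, Subtype.ext (hp.inj (isPt_tau hi hj))⟩

/-- **the group of the twins of `l`** -/
theorem Qc_eq_uv : Qc DN lN = Subgroup.closure {uN, vN} := by
  have hu : uN ∈ Subgroup.closure {uN, vN} := Subgroup.subset_closure (Or.inl rfl)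
  have hv : vN ∈ Subgroup.closure {uN, vN} := Subgroup.subset_closure (Or.inr rfl)
  have hl := tsetDN.sq lN lN_mem
  apply le_antisymm
  · unfold Qc
    rw [Subgroup.closure_le]
    rintro _ ⟨e, he, hw, rfl⟩
    obtain ⟨i, -, j, -, rfl⟩ := twins_l he hw
    -- `l w l`
    have h1 : ∀ w ∈ Subgroup.closure {uN, vN}, lN * w * lN ∈ Subgroup.closure {uN, vN} := by
      intro w hw
      induction hw using Subgroup.closure_induction with
      | mem y hy =>
        rcases hy with rfl | rfl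
        · have e1 : lN * uN * lN = uN⁻¹ := by
            unfold uN
            rw [← mul_assoc lN lN l1N, hl, one_mul, mul_inv_rev, tsetDN.inv_eq lN_mem, tsetDN.inv_eq l1N_mem]
          rw [e1]; exact inv_mem hu
        · have e1 : lN * vN * lN = vN⁻¹ := by
            unfold vN
            rw [← mul_assoc lN lN l2N, hl, one_mul, mul_inv_rev, tsetDN.inv_eq lN_mem, tsetDN.inv_eq l2N_mem]
          rw [e1]; exact inv_mem hv
      | one => rw [mul_one, hl]; exact one_mem _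
      | mul a b _ _ iha ihb =>
        have e1 : lN * (a * b) * lN = (lN * a * lN) * (lN * b * lN) := by
          calc lN * (a * b) * lN = lN * a * (1 * b) * lN := by rw [one_mul]; simp only [mul_assoc]
            _ = lN * a * ((lN * lN) * b) * lN := by rw [hl]
            _ = _ := by simp only [mul_assoc]
        rw [e1]; exact mul_mem iha ihb
      | inv a _ iha =>
        have e1 : lN * a⁻¹ * lN = (lN * a * lN)⁻¹ := by
          rw [mul_inv_rev, mul_inv_rev, tsetDN.inv_eq lN_mem]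
          simp only [mul_assoc]
        rw [e1]; exact inv_mem iha
    have hw := mul_mem (pow_mem hu i) (pow_mem hv j)
    have e1 : lN * tau i j = (lN * (uN ^ i * vN ^ j) * lN) * (uN ^ i * vN ^ j)⁻¹ := by
      unfold tau
      simp only [mul_assoc]
    rw [e1]
    exact mul_mem (h1 _ hw) (inv_mem hw)
  · rw [Subgroup.closure_le]
    rintro _ (rfl | rfl)
    · exact mem_Qc l1N_mem tw_l1
    · exact mem_Qc l2N_mem tw_l2

end Cfsg.Agent.H841.Tri
end

-- part: H841/TwC
section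
/-!
# `Fi24`: `N(⟨x3⟩)`: the 165 classes of twins (helper841)
-/

set_option autoImplicit false
set_option maxRecDepth 100000

namespace Cfsg.Agent.H841.Tri

open Cfsg Cfsg.Agent.Lib.PermNet Cfsg.Agent.Lib.PermNetPt Cfsg.Agent.Fischer.Fi24RepDef Cfsg.Agent.Fischer.Fi24Rep
open Cfsg.Agent.Fischer.Fi24RepOrb (UG orbG)
open Cfsg.Agent.Fischer.Fi24Spider (word_append word_cons word_nil gword gen_conj)
open Cfsg.Agent.R08.FiTwentyFour (L)
open Cfsg.Agent.KFacts.FiTF.Pts Cfsg.Agent.KFacts.FiTF.FixMask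
open Cfsg.Agent.KFacts.FiTF.Defs (tr)
open Cfsg.Agent.LThreeFi24.SNineK Cfsg.Agent.LThreeFi24.SNine
open Cfsg.Agent.LThreeFi24.Comp Cfsg.Agent.LThreeFi24.Twin
open Cfsg.Agent.LThreeFi24.TwinK (M3 wx3 vl tw3l pt_l)
open Cfsg.Agent.LThreeFi24.FiveConj (eq_of_eqB)
open Cfsg.Agent.LThreeFi24.CaseB (word_x3 mask3 tw_of tr_nil)
open Cfsg.Agent.H841.Five Cfsg.Agent.H841.TwK Cfsg.Agent.H841.Ext
open Cfsg.Agent.H834.U5 (z0 x3_eq ge x3_ge ge_mem_T0 z0_Phi z0_sq z0_ne u917 u11793 u11888 word_z0 Ps Ps_mem_T0 isPt_Ps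
  exists_Ps exists_PsL PsL PsL_mem PsL_x commute_PsL exists_conj_l S0_x3 S0_z0 pt pt_inj T0_sub)
open Cfsg.Agent.SporadicStructure.FSolModel (L9 adj9)
open Cfsg.Agent.Lib.FieldFour
open Cfsg.Spor (Fi24)
open Cfsg.Spor.Fi24 (Gen)
open Equiv

/-! ### The five commuting transpositions -/

/-- the transpositions -/
noncomputable def dd : Fin 5 → Fi24 := ![gen .l, gen .a, word (u917 ++ Gen.b :: u917.reverse),
  word (u11793 ++ Gen.a :: u11793.reverse), word (u11888 ++ Gen.a :: u11888.reverse)]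

/-- their points -/
def pd : Fin 5 → ℕ := ![0, 1, 917, 11793, 11888]

theorem isPt_dd (i : Fin 5) : IsPt (dd i) (pd i) := by
  fin_cases i
  · exact isPt_l
  · exact isPt_gen .a
  · exact IsPt.of_word (u := u917) (x := .b) Cfsg.Agent.H834.U5.pt917
  · exact IsPt.of_word (u := u11793) (x := .a) Cfsg.Agent.H834.U5.pt11793
  · exact IsPt.of_word (u := u11888) (x := .a) Cfsg.Agent.H834.U5.pt11888

theorem pd_inj : ∀ i j : Fin 5, pd i = pd j → i = j := by decide

theorem dd_mem (i : Fin 5) : dd i ∈ E3 := by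
  refine mem_E3 (isPt_dd i) (rho_x3 ?_)
  fin_cases i
  · exact fixB_spec fx_t 0 (by simp)
  · exact fixB_spec fx_t 1 (by simp)
  · exact fixB_spec fx_d 917 (by simp)
  · exact fixB_spec fx_d 11793 (by simp)
  · exact fixB_spec fx_d 11888 (by simp)

theorem dd_fix : ∀ i j : Fin 5, i < j → rho (dd i) (pd j) = pd j := by
  have el : ∀ p, rho (word [.l]) p = p → rho (dd 0) p = p := fun p h => by rwa [word_single] at h
  have ea : ∀ p, rho (word [.a]) p = p → rho (dd 1) p = p := fun p h => by rwa [word_single] at h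
  intro i j hij
  fin_cases i <;> fin_cases j
  · exact absurd hij (by decide)
  · exact el 1 (fixB_spec l_fix 1 (by simp))
  · exact el 917 (fixB_spec l_fix 917 (by simp))
  · exact el 11793 (fixB_spec l_fix 11793 (by simp))
  · exact el 11888 (fixB_spec l_fix 11888 (by simp))
  · exact absurd hij (by decide)
  · exact absurd hij (by decide)
  · exact ea 917 (fixB_spec c1 917 (by simp))
  · exact ea 11793 (fixB_spec c1 11793 (by simp))
  · exact ea 11888 (fixB_spec c1 11888 (by simp))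
  · exact absurd hij (by decide)
  · exact absurd hij (by decide)
  · exact absurd hij (by decide)
  · exact fixB_spec c2 11793 (by simp)
  · exact fixB_spec c2 11888 (by simp)
  · exact absurd hij (by decide)
  · exact absurd hij (by decide)
  · exact absurd hij (by decide)
  · exact absurd hij (by decide)
  · exact fixB_spec c3 11888 (by simp)
  · exact absurd hij (by decide)
  · exact absurd hij (by decide)
  · exact absurd hij (by decide)
  · exact absurd hij (by decide)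
  · exact absurd hij (by decide)

theorem dd_comm (i j : Fin 5) : Commute (dd i) (dd j) := by
  rcases lt_trichotomy i j with h | h | h
  · exact ((isPt_dd j).comm_iff _).2 (dd_fix i j h)
  · subst h; exact Commute.refl _
  · exact (((isPt_dd i).comm_iff _).2 (dd_fix j i h) : Commute (dd j) (dd i)).symm

/-- in `N(⟨x3⟩)` -/
noncomputable def dN (i : Fin 5) : NX := mk (dd i) (dd_mem i)

theorem dN_mem (i : Fin 5) : dN i ∈ DN := dd_mem i

theorem dN_zero : dN 0 = lN := rfl

theorem dN_nb (i j : Fin 5) (h : i ≠ j) : dN j ∈ Nb DN (dN i) := by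
  refine ⟨dN_mem j, ?_, Subtype.ext (dd_comm i j)⟩
  intro h1
  apply h
  have h2 : dd j = dd i := congrArg Subtype.val h1
  have h3 := isPt_dd i
  rw [← h2] at h3
  exact pd_inj _ _ (h3.uniq (isPt_dd j))

/-! ### The involution -/

theorem z0_x3 : Commute z0 x3 := by
  have h := S0_x3 Cfsg.Agent.H834.U5.z0_mem
  exact h

/-- in `N(⟨x3⟩)` -/
noncomputable def zN : NX := ⟨z0, mem_NX_of_comm z0_x3⟩

theorem zN_eq : zN = dN 0 * dN 1 * dN 2 * dN 3 * dN 4 := by
  apply Subtype.ext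
  show z0 = dd 0 * dd 1 * dd 2 * dd 3 * dd 4
  rw [word_z0]
  simp only [mul_assoc]
  rfl

/-- the members of `T0` -/
theorem mem_T0_iff {t : NX} : (t ∈ DN ∧ Commute t zN) ↔ (t : Fi24) ∈ Cfsg.Agent.H834.U5.T0 := by
  constructor
  · rintro ⟨h1, h2⟩
    exact ⟨h1.1, h1.2.eq, congrArg Subtype.val h2⟩
  · rintro ⟨h1, h2, h3⟩
    exact ⟨⟨h1, h2⟩, Subtype.ext h3⟩

theorem T0_E3 {t : Fi24} (ht : t ∈ Cfsg.Agent.H834.U5.T0) : t ∈ E3 := ⟨ht.1, ht.2.1⟩

theorem trN (t : NX) (ht : t ∈ DN) (htz : Commute t zN) : ∃ g, Commute g zN ∧ g * t * g⁻¹ = dN 0 := by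
  obtain ⟨g, hg, h⟩ := exists_conj_l (mem_T0_iff.1 ⟨ht, htz⟩)
  refine ⟨⟨g⁻¹, mem_NX_of_comm (Commute.inv_left (show Commute g x3 from S0_x3 hg))⟩, ?_, ?_⟩
  · apply Subtype.ext
    exact (Commute.inv_left (show Commute g z0 from S0_z0 hg)).eq
  · apply Subtype.ext
    show g⁻¹ * (t : Fi24) * g⁻¹⁻¹ = gen .l
    rw [h]
    group

theorem adj_ne : ∀ (ε : Bool) (α β δ : F4), ∃ (k : Fin 9) (γ : F4), adj9 (.a ε α β δ) (.e k γ) = false := by decide +kernel

theorem adj_x (k : Fin 9) (γ : F4) : adj9 .x (.e k γ) = true := by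
  revert k γ
  decide +kernel

theorem unN (t : NX) (ht : t ∈ DN) (htz : Commute t zN) (hw : Tw DN (dN 0) t) : t = dN 0 := by
  have h1 := mem_T0_iff.1 ⟨ht, htz⟩
  obtain ⟨m, hm⟩ := exists_PsL h1
  rcases hw.nc (dN_mem 0) ht with h | h
  · exact h.symm
  · exfalso
    have hl : (dN 0 : Fi24) = PsL .x := PsL_x.symm
    have hnc : ¬ Commute (PsL .x) (PsL m) := by
      intro h2
      apply h
      apply Subtype.ext
      show (dN 0 : Fi24) * (t : Fi24) = (t : Fi24) * (dN 0 : Fi24)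
      rw [hl, hm, h2.eq]
    cases m with
    | x => exact hnc (Commute.refl _)
    | e k γ => exact hnc ((commute_PsL _ _).2 (adj_x k γ))
    | a ε α β δ =>
      obtain ⟨k, γ, hk⟩ := adj_ne ε α β δ
      have hc := PsL_mem (.e k γ)
      have h2 : mk (PsL (.e k γ)) (T0_E3 hc) ∈ Nb DN (dN 0) := by
        refine ⟨T0_E3 hc, ?_, ?_⟩
        · intro h3
          have h4 : PsL (.e k γ) = PsL .x := by rw [← hl]; exact congrArg Subtype.val h3
          exact absurd (Cfsg.Agent.H834.U5.PsL_inj h4) (by simp)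
        · apply Subtype.ext
          show (dN 0 : Fi24) * PsL (.e k γ) = PsL (.e k γ) * (dN 0 : Fi24)
          rw [hl]
          exact ((commute_PsL _ _).2 (adj_x k γ)).eq
      rw [show Nb DN (dN 0) = Nb DN t from hw] at h2
      have h3 : Commute (t : Fi24) (PsL (.e k γ)) := congrArg Subtype.val h2.2.2
      rw [hm, commute_PsL, hk] at h3
      exact Bool.false_ne_true h3

/-! ### Every member of `E3` has a twin in `T0` -/

theorem E3_ncard : E3.ncard ≤ 1485 := by
  classical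
  have hpt : ∀ t : Fi24, ∃ p, t ∈ E3 → IsPt t p ∧ p ∈ EL := by
    intro t
    by_cases ht : t ∈ E3
    · obtain ⟨p, hp⟩ := exists_pt ht.1
      refine ⟨p, fun _ => ⟨hp, ?_⟩⟩
      have h1 : M3.testBit p = true := mask3 (bit hp) ((hp.comm_iff x3).1 ht.2.symm)
      rw [← Nat.eq_of_beq_eq_true mEL, testBit_msk] at h1
      exact h1
    · exact ⟨0, fun h => absurd h ht⟩
  choose f hf using hpt
  have hinj : Set.InjOn f E3 := by
    intro a ha b hb hab
    have h1 := (hf a ha).1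
    rw [hab] at h1
    exact h1.inj (hf b hb).1
  have hsub : f '' E3 ⊆ (EL.toFinset : Set ℕ) := by
    rintro _ ⟨t, ht, rfl⟩
    exact List.mem_toFinset.2 (hf t ht).2
  rw [← hinj.ncard_image]
  refine (Set.ncard_le_ncard hsub (Finset.finite_toSet _)).trans ?_
  rw [Set.ncard_coe_finset]
  refine (List.toFinset_card_le _).trans ?_
  rw [EL_len]

theorem DN_ncard : DN.ncard ≤ 1485 := by
  have h : DN.ncard = (Subtype.val '' DN : Set Fi24).ncard := by
    rw [Set.ncard_image_of_injective _ Subtype.val_injective]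
  rw [h]
  have hfin : E3.Finite := by
    have := Cfsg.Agent.R08.FiTwentyFour.finite_Fi24
    exact Set.toFinite _
  refine (Set.ncard_le_ncard ?_ hfin).trans E3_ncard
  rintro _ ⟨t, ht, rfl⟩
  exact ht

instance finite_NX : Finite NX := by
  have := Cfsg.Agent.R08.FiTwentyFour.finite_Fi24
  infer_instance

theorem un_gen {t t' : NX} (ht : t ∈ DN) (htz : Commute t zN) (ht' : t' ∈ DN) (htz' : Commute t' zN) (hw : Tw DN t t') :
    t = t' := by
  obtain ⟨g, hg, h⟩ := trN t ht htz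
  have h1 := hw.conj tsetDN g
  rw [h] at h1
  have h2 := unN (g * t' * g⁻¹) (tsetDN.cj _ ht' g) ((hg.mul_left htz').mul_left hg.inv_left) h1
  rw [← h] at h2
  exact (mul_left_cancel (mul_right_cancel h2)).symm

theorem twN (e : NX) (he : e ∈ DN) : ∃ t ∈ DN, Commute t zN ∧ Tw DN e t := by
  classical
  -- the 165 members
  have hg : ∀ i : Fin 165, ∃ g : NX, (g * lN * g⁻¹ : NX) ∈ DN ∧ Commute (g * lN * g⁻¹) zN ∧
      ((g * lN * g⁻¹ : NX) : Fi24) = Ps i := by
    intro i
    have h0 := Ps_mem_T0 i.2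
    obtain ⟨g, hg, h⟩ := exists_conj_l h0
    have h2 : (((⟨g, mem_NX_of_comm (show Commute g x3 from S0_x3 hg)⟩ : NX) * lN *
      (⟨g, mem_NX_of_comm (show Commute g x3 from S0_x3 hg)⟩ : NX)⁻¹ : NX) : Fi24) = Ps i := h.symm
    have h1 := mem_T0_iff.2 (by rw [h2]; exact h0)
    exact ⟨_, h1.1, h1.2, h2⟩
  choose g hgD hgz hgP using hg
  let F : Fin 165 × (Fin 3 × Fin 3) → NX := fun t => g t.1 * tau t.2.1 t.2.2 * (g t.1)⁻¹
  have hF : ∀ t, F t ∈ DN := fun t => tsetDN.cj _ (tau_mem _ _) _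
  have hFt : ∀ t, Tw DN (F t) (g t.1 * lN * (g t.1)⁻¹) := fun t => (tw_tau t.2.1 t.2.2).conj tsetDN (g t.1)
  have hinj : Function.Injective F := by
    rintro ⟨i, a, b⟩ ⟨i', a', b'⟩ h
    have h1 := hFt ⟨i, a, b⟩
    have h2 := hFt ⟨i', a', b'⟩
    rw [h] at h1
    have h3 := un_gen (hgD i) (hgz i) (hgD i') (hgz i') (h1.symm.trans h2)
    have h4 : i = i' := by
      have h5 : Ps (i : ℕ) = Ps (i' : ℕ) := by
        rw [← hgP i, ← hgP i', h3]
      have h6 := isPt_Ps i.2
      rw [h5] at h6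
      exact Fin.ext (pt_inj i.2 i'.2 (h6.uniq (isPt_Ps i'.2)))
    subst h4
    have h5 : tau a b = tau a' b' := mul_left_cancel (mul_right_cancel h)
    obtain ⟨h6, h7⟩ := tau_inj a.2 b.2 a'.2 b'.2 h5
    exact Prod.ext rfl (Prod.ext (Fin.ext h6) (Fin.ext h7))
  have hcard : (Set.range F).ncard = 1485 := by
    rw [← Set.image_univ, Set.ncard_image_of_injective _ hinj, Set.ncard_univ, Nat.card_prod, Nat.card_prod]
    simp
  have heq : Set.range F = DN := by
    apply Set.eq_of_subset_of_ncard_le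
    · rintro _ ⟨t, rfl⟩
      exact hF t
    · rw [hcard]; exact DN_ncard
    · exact Set.toFinite _
  rw [← heq] at he
  obtain ⟨t, rfl⟩ := he
  exact ⟨_, hgD t.1, hgz t.1, hFt t⟩

end Cfsg.Agent.H841.Tri
end

-- part: H841/TwD
section
/-!
# `Fi24`: the elements of `N(⟨x3⟩)` commuting with `T0` (helper841)
-/

set_option autoImplicit false
set_option maxRecDepth 100000

namespace Cfsg.Agent.H841.Tri

open Cfsg Cfsg.Agent.Lib.PermNet Cfsg.Agent.Lib.PermNetPt Cfsg.Agent.Fischer.Fi24RepDef Cfsg.Agent.Fischer.Fi24Rep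
open Cfsg.Agent.Fischer.Fi24RepOrb (UG orbG)
open Cfsg.Agent.Fischer.Fi24Spider (word_append word_cons word_nil gword gen_conj)
open Cfsg.Agent.R08.FiTwentyFour (L)
open Cfsg.Agent.KFacts.FiTF.Pts Cfsg.Agent.KFacts.FiTF.FixMask
open Cfsg.Agent.KFacts.FiTF.Defs (tr)
open Cfsg.Agent.LThreeFi24.SNineK Cfsg.Agent.LThreeFi24.SNine
open Cfsg.Agent.LThreeFi24.Comp Cfsg.Agent.LThreeFi24.Twin
open Cfsg.Agent.H841.Five Cfsg.Agent.H841.TwK Cfsg.Agent.H841.Ext
open Cfsg.Agent.H834.U5 (z0 x3_eq ge ge_mem_T0 z0_Phi z0_pz pz pc p3_val rho_ne not_comm_pc pc_cube eq_Phi isPt_ge)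
open Cfsg.Spor (Fi24)
open Cfsg.Spor.Fi24 (Gen)
open Equiv

/-- adjacency of the three swaps -/
def adjS (i j : Fin 9) : Bool := or (and (Nat.beq j (i + 3)) (Nat.ble i 2)) (and (Nat.beq i (j + 3)) (Nat.ble j 2))

theorem isPt_g4 : IsPt (ge 4) 22146 := isPt_ge (k := 4) (by norm_num)

theorem comm_adj_lt {i j : Fin 9} (h : i < j) (hc : Commute (Phi (swap i j)) (ge 4)) : adjS i j = true := by
  have h1 : rho (ge 4) (T i j) = T i j := ((isPt_Phi (ne_of_lt h)).comm_iff _).1 hc.symm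
  have h2 := g5_S9
  rw [List.all_eq_true] at h2
  have h3 := h2 i (List.mem_range.2 i.2)
  rw [List.all_eq_true] at h3
  have h4 := h3 j (List.mem_range.2 j.2)
  have h5 : Nat.ble (j : ℕ) (i : ℕ) = false := by
    rw [Bool.eq_false_iff]
    intro h6
    have := Nat.le_of_ble_eq_true h6
    omega
  rw [h5, Bool.false_or, beq_iff_eq] at h4
  cases hb : chkPt (nw Cfsg.Agent.H834.U5.g5 false) ((row.getD i []).getD j 0) ((row.getD i []).getD j 0) with
  | false =>
    exact absurd h1 (rho_ne hb)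
  | true =>
    rw [hb] at h4
    unfold adjS
    have h6 : (and (Nat.beq (j : ℕ) ((i : ℕ) + 3)) (Nat.ble (i : ℕ) 2)) = true := h4.symm
    rw [h6]
    rfl

theorem adjS_symm : ∀ i j : Fin 9, adjS i j = adjS j i := by decide +kernel

theorem comm_adj {i j : Fin 9} (h : i ≠ j) (hc : Commute (Phi (swap i j)) (ge 4)) : adjS i j = true := by
  rcases lt_or_gt_of_ne h with h1 | h1
  · exact comm_adj_lt h1 hc
  · rw [adjS_symm]
    apply comm_adj_lt h1
    rwa [swap_comm]

/-- the swap `(0 3)` commutes with the fifth generator -/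
theorem comm_03 : Commute (Phi (swap (0 : Fin 9) 3)) (ge 4) := by
  have h := Cfsg.Agent.H834.U5.S0_ta (Cfsg.Agent.H834.U5.T0_sub (ge_mem_T0 (k := 4) (by norm_num)))
  rw [Cfsg.Agent.H834.U5.ta_eq] at h
  exact (show Commute _ _ from h).symm

theorem adj_of_comm {σ : Perm (Fin 9)} (h : Commute (Phi σ) (ge 4)) : adjS (σ 0) (σ 3) = true := by
  have hne : σ 0 ≠ σ 3 := fun h => absurd (σ.injective h) (by decide)
  apply comm_adj hne
  have h1 : swap (σ 0) (σ 3) = σ * swap (0 : Fin 9) 3 * σ⁻¹ := by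
    rw [← Equiv.swap_apply_apply]
  rw [h1, map_mul, map_mul, map_inv]
  exact (h.mul_left comm_03).mul_left h.inv_left

/-! ### The permutations -/

/-- the involution inverting `p3` -/
def pr : Perm (Fin 9) := swap (1 : Fin 9) 2 * (swap (4 : Fin 9) 5 * swap (7 : Fin 9) 8)

/-- powers of `p3` or of its inverse -/
def pw (s : Bool) (n : ℕ) (a : Fin 9) : Fin 9 := if s then (p3 ^ n) a else ((p3⁻¹) ^ n) a

/-- the permutation with given images of `0, 3, 6` -/
def fP (s : Bool) (a b c x : Fin 9) : Fin 9 :=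
  if x.val < 3 then pw s x.val a else if x.val < 6 then pw s (x.val - 3) b else pw s (x.val - 6) c

theorem fin_claim : ∀ s : Bool, ∀ a b c : Fin 9, adjS a b = true → (∀ x : Fin 9, x.val < 6 → fP s a b c 6 ≠ fP s a b c x) →
    ∃ k : Fin 3, ∃ e : Fin 2, ∃ i : Fin 3, ∀ x, fP s a b c x =
      (p3 ^ k.val * (pz ^ e.val * ((if s then 1 else pr) * pc ^ i.val))) x := by
  decide +kernel

theorem pw_zero (s : Bool) (a : Fin 9) : pw s 0 a = a := by cases s <;> rfl

theorem pw_two (s : Bool) (a : Fin 9) : pw s 1 (pw s 1 a) = pw s 2 a := by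
  unfold pw
  cases s
  · simp only [Bool.false_eq_true, if_false, pow_one, pow_two, Perm.mul_apply]
  · simp only [if_true, pow_one, pow_two, Perm.mul_apply]

theorem fP_lt (s : Bool) (a b c : Fin 9) {n : ℕ} (hn : n < 3) :
    fP s a b c ⟨n, by omega⟩ = pw s n a ∧ fP s a b c ⟨n + 3, by omega⟩ = pw s n b ∧
      fP s a b c ⟨n + 6, by omega⟩ = pw s n c := by
  refine ⟨?_, ?_, ?_⟩
  · unfold fP
    rw [if_pos hn]
  · unfold fP
    rw [if_neg (by show ¬ n + 3 < 3; omega), if_pos (by show n + 3 < 6; omega)]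
    congr 1
  · unfold fP
    rw [if_neg (by show ¬ n + 6 < 3; omega), if_neg (by show ¬ n + 6 < 6; omega)]
    congr 1

theorem eq_fP {σ : Perm (Fin 9)} {s : Bool} (h : ∀ x, σ (p3 x) = pw s 1 (σ x)) (x : Fin 9) :
    σ x = fP s (σ 0) (σ 3) (σ 6) x := by
  obtain ⟨e0, e1, e2, e3, e4, e5, e6, e7, e8⟩ := p3_val
  have a1 := h 0
  have a2 := h 1
  have b1 := h 3
  have b2 := h 4
  have c1 := h 6
  have c2 := h 7
  rw [e0] at a1
  rw [e1, a1, pw_two] at a2
  rw [e3] at b1
  rw [e4, b1, pw_two] at b2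
  rw [e6] at c1
  rw [e7, c1, pw_two] at c2
  have f0 := fP_lt s (σ 0) (σ 3) (σ 6) (n := 0) (by norm_num)
  have f1 := fP_lt s (σ 0) (σ 3) (σ 6) (n := 1) (by norm_num)
  have f2 := fP_lt s (σ 0) (σ 3) (σ 6) (n := 2) (by norm_num)
  rw [pw_zero, pw_zero, pw_zero] at f0
  fin_cases x
  · exact f0.1.symm
  · exact a1.trans f1.1.symm
  · exact a2.trans f2.1.symm
  · exact f0.2.1.symm
  · exact b1.trans f1.2.1.symm
  · exact b2.trans f2.2.1.symm
  · exact f0.2.2.symm
  · exact c1.trans f1.2.2.symm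
  · exact c2.trans f2.2.2.symm

theorem perm_form {σ : Perm (Fin 9)} {s : Bool} (h : ∀ x, σ (p3 x) = pw s 1 (σ x)) (ha : adjS (σ 0) (σ 3) = true) :
    ∃ k : Fin 3, ∃ e : Fin 2, ∃ i : Fin 3, σ = p3 ^ k.val * (pz ^ e.val * ((if s then 1 else pr) * pc ^ i.val)) := by
  obtain ⟨k, e, i, h1⟩ := fin_claim s (σ 0) (σ 3) (σ 6) ha (by
    intro x hx h2
    rw [← eq_fP h, ← eq_fP h] at h2
    have h3 := σ.injective h2
    rw [← h3] at hx
    exact absurd hx (by decide))
  exact ⟨k, e, i, Equiv.ext fun x => (eq_fP h x).trans (h1 x)⟩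

theorem s_word (m : Fin 8) : Phi (swap m.castSucc m.succ) = word (gw.getD m []) := Phi_swap m

theorem Phi_w : Phi (swap (1 : Fin 9) 2) = word (gw.getD 1 []) ∧ Phi (swap (4 : Fin 9) 5) = word (gw.getD 4 []) ∧
    Phi (swap (6 : Fin 9) 7) = word (gw.getD 6 []) ∧ Phi (swap (7 : Fin 9) 8) = word (gw.getD 7 []) :=
  ⟨s_word 1, s_word 4, s_word 6, s_word 7⟩

theorem pr_pc : pr * pc ^ 0 = swap (1 : Fin 9) 2 * (swap (4 : Fin 9) 5 * swap (7 : Fin 9) 8) ∧
    pr * pc ^ 1 = swap (1 : Fin 9) 2 * (swap (4 : Fin 9) 5 * (swap (6 : Fin 9) 7 * (swap (7 : Fin 9) 8 * swap (6 : Fin 9) 7))) ∧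
    pr * pc ^ 2 = swap (1 : Fin 9) 2 * (swap (4 : Fin 9) 5 * swap (6 : Fin 9) 7) := by
  decide +kernel

theorem not_comm_pr (i : Fin 3) : ¬ Commute (Phi (pr * pc ^ i.val)) (ge 4) := by
  intro h
  obtain ⟨w1, w4, w6, w7⟩ := Phi_w
  obtain ⟨h0, h1, h2⟩ := pr_pc
  have hr := (isPt_g4.comm_iff _).1 h
  fin_cases i
  · have hr' : rho (Phi (pr * pc ^ 0)) 22146 = 22146 := hr
    have e : Phi (swap (1 : Fin 9) 2 * (swap (4 : Fin 9) 5 * swap (7 : Fin 9) 8)) = word (gw.getD 1 [] ++ (gw.getD 4 [] ++ gw.getD 7 [])) := by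
      rw [map_mul, map_mul, w1, w4, w7, word_append, word_append]
    rw [h0, e] at hr'
    exact rho_ne nfix_0 hr'
  · have hr' : rho (Phi (pr * pc ^ 1)) 22146 = 22146 := hr
    have e : Phi (swap (1 : Fin 9) 2 * (swap (4 : Fin 9) 5 * (swap (6 : Fin 9) 7 * (swap (7 : Fin 9) 8 * swap (6 : Fin 9) 7)))) =
        word (gw.getD 1 [] ++ (gw.getD 4 [] ++ (gw.getD 6 [] ++ (gw.getD 7 [] ++ gw.getD 6 [])))) := by
      rw [map_mul, map_mul, map_mul, map_mul, w1, w4, w6, w7, word_append, word_append, word_append, word_append]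
    rw [h1, e] at hr'
    exact rho_ne nfix_2 hr'
  · have hr' : rho (Phi (pr * pc ^ 2)) 22146 = 22146 := hr
    have e : Phi (swap (1 : Fin 9) 2 * (swap (4 : Fin 9) 5 * swap (6 : Fin 9) 7)) = word (gw.getD 1 [] ++ (gw.getD 4 [] ++ gw.getD 6 [])) := by
      rw [map_mul, map_mul, w1, w4, w6, word_append, word_append]
    rw [h2, e] at hr'
    exact rho_ne nfix_1 hr'

theorem ge4_x3 : Commute (Phi p3) (ge 4) := by
  rw [← x3_eq]
  exact (ge_mem_T0 (k := 4) (by norm_num)).2.1.symm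

theorem ge4_z0 : Commute (Phi pz) (ge 4) := by
  rw [← z0_pz]
  exact (ge_mem_T0 (k := 4) (by norm_num)).2.2.symm

theorem strip {k e : ℕ} {τ : Perm (Fin 9)} (h : Commute (Phi (p3 ^ k * (pz ^ e * τ))) (ge 4)) : Commute (Phi τ) (ge 4) := by
  rw [map_mul, map_mul, map_pow, map_pow] at h
  have h1 := ((ge4_x3.pow_left k).inv_left).mul_left h
  rw [inv_mul_cancel_left] at h1
  have h2 := ((ge4_z0.pow_left e).inv_left).mul_left h1
  rwa [inv_mul_cancel_left] at h2

seal _root_.Equiv.swap in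
/-- **the elements of `N(⟨x3⟩)` commuting with `T0`** -/
theorem ceN (c : NX) (hc : ∀ t ∈ DN, Commute t zN → Commute c t) : c ∈ Subgroup.zpowers xN ⊔ Subgroup.zpowers zN := by
  have hcT : ∀ t ∈ Cfsg.Agent.H834.U5.T0, (c : Fi24) * t = t * (c : Fi24) := by
    intro t ht
    have h1 := mem_T0_iff (t := mk t (T0_E3 ht)).2 ht
    exact congrArg Subtype.val (hc _ h1.1 h1.2)
  have hge : ∀ k < 5, (c : Fi24) * ge k = ge k * (c : Fi24) := fun k hk => hcT _ (ge_mem_T0 hk)
  have w1 : ∀ y : Gen, word [y] = gen y := fun y => by rw [word_cons, word_nil, mul_one]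
  have e0 : ge 0 = gen .l := w1 .l
  have e1 : ge 1 = gen .k := w1 .k
  have e2 : ge 2 = gen .a := w1 .a
  have e3 : ge 3 = gen .b := w1 .b
  obtain ⟨σ, hσ⟩ := eq_Phi (e0 ▸ hge 0 (by norm_num)) (e1 ▸ hge 1 (by norm_num)) (e2 ▸ hge 2 (by norm_num))
    (e3 ▸ hge 3 (by norm_num))
  have h4 : Commute (Phi σ) (ge 4) := by
    rw [← hσ]
    exact hge 4 (by norm_num)
  have hN := mem_NX.1 c.2
  rw [hσ, x3_eq, ← map_inv, ← map_inv, ← map_mul, ← map_mul] at hN
  have hs : ∃ s : Bool, ∀ x, σ (p3 x) = pw s 1 (σ x) := by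
    rcases hN with h | h
    · refine ⟨true, fun x => ?_⟩
      have h1 := Phi_injective h
      rw [mul_inv_eq_iff_eq_mul] at h1
      show σ (p3 x) = (p3 ^ 1) (σ x)
      rw [pow_one, ← Perm.mul_apply, h1, Perm.mul_apply]
    · refine ⟨false, fun x => ?_⟩
      have h1 := Phi_injective h
      rw [mul_inv_eq_iff_eq_mul] at h1
      show σ (p3 x) = ((p3⁻¹) ^ 1) (σ x)
      rw [pow_one, ← Perm.mul_apply, h1, Perm.mul_apply]
  obtain ⟨s, hs⟩ := hs
  obtain ⟨k, e, i, hk⟩ := perm_form hs (adj_of_comm h4)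
  rw [hk] at h4
  have h5 := strip h4
  cases s with
  | false => exact absurd h5 (not_comm_pr i)
  | true =>
    have h6 : Commute (Phi (pc ^ i.val)) (ge 4) := by
      have : (if true = true then (1 : Perm (Fin 9)) else pr) * pc ^ i.val = pc ^ i.val := by
        rw [if_pos rfl, one_mul]
      rwa [this] at h5
    have hi : i = 0 := by
      fin_cases i
      · rfl
      · exfalso
        apply not_comm_pc
        have h7 : Commute (Phi (pc ^ 1)) (ge 4) := h6
        rw [pow_one] at h7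
        exact h7.symm
      · exfalso
        apply not_comm_pc
        have h7 : Commute (Phi (pc ^ 2)) (ge 4) := h6
        have h8 : Commute (Phi ((pc ^ 2) ^ 2)) (ge 4) := by
          rw [map_pow]
          exact h7.pow_left 2
        have h9 : (pc ^ 2) ^ 2 = pc := by
          rw [← pow_mul]
          show pc ^ (3 + 1) = pc
          rw [pow_add, pc_cube, one_mul, pow_one]
        rw [h9] at h8
        exact h8.symm
    subst hi
    have h7 : σ = p3 ^ k.val * pz ^ e.val := by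
      rw [hk, if_pos rfl]
      show p3 ^ k.val * (pz ^ e.val * (1 * pc ^ 0)) = _
      rw [pow_zero, mul_one, mul_one]
    have h8 : c = xN ^ k.val * zN ^ e.val := by
      apply Subtype.ext
      rw [Subgroup.coe_mul, Subgroup.coe_pow, Subgroup.coe_pow, hσ, h7, map_mul, map_pow, map_pow, ← x3_eq, ← z0_pz]
      rfl
    rw [h8]
    exact mul_mem (Subgroup.mem_sup_left (pow_mem (Subgroup.mem_zpowers _) _))
      (Subgroup.mem_sup_right (pow_mem (Subgroup.mem_zpowers _) _))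

/-- **the data for `N(⟨x3⟩)`** -/
theorem dat : Dat DN xN zN dN where
  ts := tsetDN
  nx := by
    intro g
    rcases mem_NX.1 g.2 with h | h
    · left; exact Subtype.ext h
    · right; exact Subtype.ext h
  cx := fun _ ht => cxN ht
  dD := dN_mem
  dz := zN_eq
  dc := dN_nb
  tr := trN
  tw := twN
  un := unN
  es := by
    show ES (Subgroup.zpowers xN) (Qc DN lN)
    rw [Qc_eq_uv]
    exact es_uv.1
  ne := by
    refine ⟨l1N, l1N_mem, tw_l1, ?_⟩
    intro h
    have h1 : l1 = gen .l := congrArg Subtype.val h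
    have h2 := isPt_l1
    rw [h1] at h2
    exact absurd (h2.uniq isPt_l) (by decide)
  ce := ceN

end Cfsg.Agent.H841.Tri
end

-- part: H841/TwE
section
/-!
# `Fi24`: the structure of `N(⟨x3⟩)` (helper841)
-/

set_option autoImplicit false
set_option maxRecDepth 100000

namespace Cfsg.Agent.H841.Tri

open Cfsg Cfsg.Agent.Lib.PermNet Cfsg.Agent.Lib.PermNetPt Cfsg.Agent.Fischer.Fi24RepDef Cfsg.Agent.Fischer.Fi24Rep
open Cfsg.Agent.R08.FiTwentyFour (L)
open Cfsg.Agent.LThreeFi24.SNineK Cfsg.Agent.LThreeFi24.SNine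
open Cfsg.Agent.LThreeFi24.Comp Cfsg.Agent.LThreeFi24.Twin
open Cfsg.Agent.H841.Five Cfsg.Agent.H841.Ext
open Cfsg.Agent.H834.U5 (z0 x3_eq z0_Phi z0_pz pz pc p3_val)
open Cfsg.Agent.Lib.FieldFour (F4)
open Cfsg.Spor (Fi24)
open Cfsg.Spor.Fi24 (Gen)
open Equiv

theorem card_Qc : Nat.card (Qc DN (dN 0)) = 27 := by
  rw [dN_zero, Qc_eq_uv]
  exact es_uv.2

theorem card_xN : Nat.card (Subgroup.zpowers xN) = 3 := by
  have : Fact (Nat.Prime 3) := ⟨Nat.prime_three⟩
  rw [Nat.card_zpowers]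
  exact orderOf_eq_prime xN_cube xN_ne

/-! ### The unitary group -/

theorem card_F4 : Fintype.card F4 = 2 ^ 2 := by decide

theorem simple_psu5 : IsSimpleGroup (PSU 5 F4 2) := S0283.result card_F4 5 (by norm_num) (by norm_num)

theorem card_psu5 : Nat.card (PSU 5 F4 2) = 13685760 := by
  have h := S0280.result card_F4 5 (by norm_num)
  have h5 : Nat.gcd 5 (2 + 1) = 1 := by decide
  rw [h5, one_mul] at h
  simp only [Finset.prod_range_succ, Finset.prod_range_zero, one_mul] at h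
  rw [if_pos (by decide), if_neg (by decide), if_pos (by decide), if_neg (by decide), if_pos (by decide)] at h
  norm_num at h
  omega

theorem card_aut_psu5 : Nat.card (MulAut (PSU 5 F4 2)) = 2 * Nat.card (PSU 5 F4 2) := by
  rw [Cfsg.Agent.ClassicalGeometry.PSUAutCount.card_mulAut_of card_F4 (n := 5) (by norm_num)
    (p := 2) (f := 1) Nat.prime_two le_rfl (by norm_num)
    (Cfsg.Agent.ClassicalGeometry.PSUAutMain.exists_toAut card_F4 (by norm_num) (by norm_num))]
  have e1 : Nat.gcd 5 (2 + 1) = 1 := by decide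
  rw [e1]

theorem two_dvd_psu5 : 2 ∣ Nat.card (PSU 5 F4 2) := by
  rw [card_psu5]
  norm_num

/-! ### The homomorphism -/

theorem image_T0 : NX.subtype '' (Ext.T0 DN zN) = Cfsg.Agent.H834.U5.T0 := by
  ext t
  constructor
  · rintro ⟨s, hs, rfl⟩
    exact mem_T0_iff.1 hs
  · intro ht
    exact ⟨mk t (T0_E3 ht), mem_T0_iff.2 ht, rfl⟩

theorem map_S0 : (Ext.S0 DN zN).map NX.subtype = Cfsg.Agent.H834.U5.S0 := by
  rw [MonoidHom.map_closure, image_T0]
  rfl

/-- restriction -/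
noncomputable def resS : ↥(Ext.S0 DN zN) →* ↥Cfsg.Agent.H834.U5.S0 :=
  (NX.subtype.comp (Ext.S0 DN zN).subtype).codRestrict Cfsg.Agent.H834.U5.S0 (by
    intro s
    rw [← map_S0]
    exact ⟨s, s.2, rfl⟩)

theorem coe_resS (s : ↥(Ext.S0 DN zN)) : ((resS s : ↥Cfsg.Agent.H834.U5.S0) : Fi24) = ((s : NX) : Fi24) := rfl

theorem resS_surj : Function.Surjective resS := by
  intro y
  have h : (y : Fi24) ∈ (Ext.S0 DN zN).map NX.subtype := map_S0.symm ▸ y.2
  obtain ⟨s, hs, hsy⟩ := h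
  exact ⟨⟨s, hs⟩, Subtype.ext hsy⟩

theorem exists_fdat : ∃ f : ↥(Ext.S0 DN zN) →* PSU 5 F4 2, FDat DN zN f := by
  obtain ⟨f, h1, h2, h3⟩ := Cfsg.Agent.H834.U5.exists_hom
  refine ⟨f.comp resS, ?_, ?_, ?_, ?_⟩
  · exact h1.comp resS_surj
  · intro s hs
    rcases (h2 _).1 hs with h | h
    · left
      exact Subtype.ext h
    · right
      exact Subtype.ext h
  · intro s hs
    apply (h2 _).2
    right
    rw [coe_resS, hs]
    rfl
  · intro t t' ht ht' h
    have h4 := h3 (resS ⟨t, Subgroup.subset_closure ht⟩) (resS ⟨t', Subgroup.subset_closure ht'⟩)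
      (mem_T0_iff.1 ht) (mem_T0_iff.1 ht') h
    have h5 := congrArg Subtype.val h4
    exact Subtype.ext h5

/-! ### An element inverting `x3` -/

theorem exists_inv : ∃ n : NX, n * xN * n⁻¹ ≠ xN := by
  have h1 : pr * p3 * pr⁻¹ = p3⁻¹ := by decide +kernel
  have h2 : Phi pr * x3 * (Phi pr)⁻¹ = x3⁻¹ := by
    rw [x3_eq, ← map_mul, ← map_inv, ← map_mul, h1, map_inv]
  refine ⟨⟨Phi pr, mem_NX.2 (Or.inr h2)⟩, ?_⟩
  intro h
  have h3 : Phi pr * x3 * (Phi pr)⁻¹ = x3 := congrArg Subtype.val h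
  rw [h2] at h3
  have h4 : x3 * x3 = 1 := by
    nth_rewrite 1 [← h3]
    exact inv_mul_cancel x3
  have h5 := x3_cube
  rw [pow_succ, pow_two, h4, one_mul] at h5
  exact x3_ne h5

/-! ### The sign -/

theorem exists_eps : ∃ ε : NX →* M2, ∀ t ∈ DN, ε t = Multiplicative.ofAdd 1 := by
  let u : ℤˣ →* M2 := MonoidHom.mk' (fun x => if x = 1 then 1 else Multiplicative.ofAdd 1) (by decide)
  refine ⟨u.comp (Cfsg.Agent.Fischer.Fi24Final.sgn.comp NX.subtype), ?_⟩
  intro t ht
  show u (Cfsg.Agent.Fischer.Fi24Final.sgn (t : Fi24)) = _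
  rw [Cfsg.Agent.R08.FiTwentyFour.sgn_L ht.1]
  decide

end Cfsg.Agent.H841.Tri
end

-- part: H841/TwF
section
/-!
# Transport along injective homomorphisms (helper841)
-/

set_option autoImplicit false

namespace Cfsg.Agent.H841.InjTr

open Subgroup Cfsg.Agent.H841.Ext Cfsg.Agent.H841.Transport

variable {X G : Type*} [Group X] [Group G] (φ : X →* G) (hφ : Function.Injective φ)

include hφ

theorem card_map (A : Subgroup X) : Nat.card ↥(A.map φ) = Nat.card A :=
  (Nat.card_congr (A.equivMapOfInjective φ hφ).toEquiv).symm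

theorem commutingWidth_image (D : Set X) : Cfsg.commutingWidth (φ '' D) = Cfsg.commutingWidth D := by
  unfold Cfsg.commutingWidth
  congr 1
  ext n
  constructor
  · rintro ⟨E, hE, hf, hc, rfl⟩
    have himg : φ '' (φ ⁻¹' E) = E := by
      apply Set.image_preimage_eq_of_subset
      intro x hx
      obtain ⟨d, -, h⟩ := hE hx
      exact ⟨d, h⟩
    refine ⟨φ ⁻¹' E, ?_, hf.preimage hφ.injOn, ?_, ?_⟩
    · intro x hx
      obtain ⟨d, hd, h⟩ := hE hx
      rwa [← hφ h]
    · intro a ha b hb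
      have h := hc (φ a) ha (φ b) hb
      apply hφ
      rw [map_mul, map_mul]
      exact h
    · rw [← Set.ncard_image_of_injective _ hφ, himg]
  · rintro ⟨E, hE, hf, hc, rfl⟩
    refine ⟨φ '' E, Set.image_mono hE, hf.image φ, ?_, Set.ncard_image_of_injective _ hφ⟩
    rintro _ ⟨a, ha, rfl⟩ _ ⟨b, hb, rfl⟩
    exact (hc a ha b hb).map φ

omit hφ in
theorem es_map {Z P : Subgroup X} (h : ES Z P) (hφ : Function.Injective φ) : ES (Z.map φ) (P.map φ) where
  le := Subgroup.map_mono h.le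
  cen := by
    rintro _ ⟨z, hz, rfl⟩ _ ⟨g, hg, rfl⟩
    exact (h.cen z hz g hg).map φ
  com := by
    rintro _ ⟨a, ha, rfl⟩ _ ⟨b, hb, rfl⟩
    rw [← map_mul, ← map_inv, ← map_mul, ← map_inv, ← map_mul]
    exact ⟨_, h.com a ha b hb, rfl⟩
  cub := by
    rintro _ ⟨a, ha, rfl⟩
    rw [← map_pow, h.cub a ha, map_one]
  nd := by
    rintro _ ⟨a, ha, rfl⟩ h1
    refine ⟨a, h.nd a ha fun b hb => ?_, rfl⟩
    have h2 := h1 (φ b) ⟨b, hb, rfl⟩
    apply hφ
    rw [map_mul, map_mul]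
    exact h2

/-- quotients of subgroups -/
theorem exists_normal {A B : Subgroup X} {Y : Type*} [Group Y] (hn : (A.subgroupOf B).Normal)
    (hi : Nonempty (B ⧸ A.subgroupOf B ≃* Y)) :
    ∃ _ : ((A.map φ).subgroupOf (B.map φ)).Normal, Nonempty (↥(B.map φ) ⧸ (A.map φ).subgroupOf (B.map φ) ≃* Y) := by
  let i : ↥B ≃* ↥(B.map φ) := B.equivMapOfInjective φ hφ
  have hmap : (A.subgroupOf B).map i.toMonoidHom = (A.map φ).subgroupOf (B.map φ) := by
    ext x
    rw [Subgroup.mem_subgroupOf]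
    constructor
    · rintro ⟨y, hy, rfl⟩
      exact ⟨y, Subgroup.mem_subgroupOf.1 hy, rfl⟩
    · rintro ⟨y, hy, hyx⟩
      obtain ⟨_, w, hw, rfl⟩ := x
      have h1 : φ y = φ w := hyx
      have h2 := hφ h1
      subst h2
      exact ⟨⟨y, hw⟩, Subgroup.mem_subgroupOf.2 hy, Subtype.ext rfl⟩
  have hn' : ((A.map φ).subgroupOf (B.map φ)).Normal := by
    rw [← hmap]
    exact hn.map _ i.surjective
  obtain ⟨j⟩ := hi
  exact ⟨hn', ⟨(QuotientGroup.congr (A.subgroupOf B) ((A.map φ).subgroupOf (B.map φ)) i hmap).symm.trans j⟩⟩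

/-- quotients of the whole group -/
theorem exists_normal_top {A : Subgroup X} {Y : Type*} [Group Y] (hn : A.Normal) (hi : Nonempty (X ⧸ A ≃* Y)) :
    ∃ _ : ((A.map φ).subgroupOf φ.range).Normal, Nonempty (↥φ.range ⧸ (A.map φ).subgroupOf φ.range ≃* Y) := by
  let i : X ≃* ↥φ.range := MonoidHom.ofInjective hφ
  have hmap : A.map i.toMonoidHom = (A.map φ).subgroupOf φ.range := by
    ext x
    rw [Subgroup.mem_subgroupOf]
    constructor
    · rintro ⟨y, hy, rfl⟩
      exact ⟨y, hy, rfl⟩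
    · rintro ⟨y, hy, hyx⟩
      exact ⟨y, hy, Subtype.ext hyx⟩
  have hn' : ((A.map φ).subgroupOf φ.range).Normal := by
    rw [← hmap]
    exact hn.map _ i.surjective
  obtain ⟨j⟩ := hi
  exact ⟨hn', ⟨(QuotientGroup.congr A ((A.map φ).subgroupOf φ.range) i hmap).symm.trans j⟩⟩

/-- the generalized Fitting subgroup of the image -/
theorem fstar [Finite X] : (Cfsg.generalizedFittingSubgroup ↥φ.range).map φ.range.subtype =
    (Cfsg.generalizedFittingSubgroup X).map φ := by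
  let i : X ≃* ↥φ.range := MonoidHom.ofInjective hφ
  have hfin : Finite ↥φ.range := Finite.of_equiv _ i.toEquiv
  rw [← Cfsg.Agent.Lib.GenFitting.map_genFitting i, Subgroup.map_map]
  rfl

end Cfsg.Agent.H841.InjTr
end

-- part: H841/TwG
section
/-!
# `Fi24`: 3-central subgroups of order three (helper841)
-/

set_option autoImplicit false
set_option maxRecDepth 100000

namespace Cfsg.Agent.H841.Tri

open Cfsg
open Cfsg.Agent.R08.FiTwentyFour (L)
open Cfsg.Agent.LThreeFi24.SNine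
open Cfsg.Agent.LThreeFi24.Comp Cfsg.Agent.LThreeFi24.Twin
open Cfsg.Agent.H841.Five Cfsg.Agent.H841.Ext
open Cfsg.Agent.H841.Transport
open Cfsg.Agent.Lib.FieldFour (F4)
open Cfsg.Agent.LThreeFi24.FiveConj (card_Fi24)
open Cfsg.Spor (Fi24)

/-! ### The structure of `N(⟨x3⟩)` -/

theorem es_QQ : ES (Subgroup.zpowers xN) (QQ DN) := (dat.es_card card_Qc card_xN).1

theorem card_QQ : Nat.card (QQ DN) = 3 ^ 11 := (dat.es_card card_Qc card_xN).2

theorem cent_QQ : Subgroup.centralizer (QQ DN : Set NX) ≤ QQ DN := dat.cent_le card_Qc card_xN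

theorem fstar_NX : Cfsg.generalizedFittingSubgroup NX = QQ DN := by
  obtain ⟨f, hf⟩ := exists_fdat
  have := simple_psu5
  exact dat.fstar_eq card_Qc card_xN hf two_dvd_psu5

theorem quot_S : ∃ _ : ((QQ DN).subgroupOf (Subgroup.closure DN)).Normal,
    Nonempty (↥(Subgroup.closure DN) ⧸ (QQ DN).subgroupOf (Subgroup.closure DN) ≃* M2 × PSU 5 F4 2) := by
  obtain ⟨f, hf⟩ := exists_fdat
  obtain ⟨ε, hε⟩ := exists_eps
  have := simple_psu5
  exact dat.quot_S card_Qc card_xN hf two_dvd_psu5 hε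

theorem quot_NX : ∃ _ : (QQ DN).Normal, Nonempty (NX ⧸ QQ DN ≃* M2 × MulAut (PSU 5 F4 2)) := by
  obtain ⟨f, hf⟩ := exists_fdat
  obtain ⟨ε, hε⟩ := exists_eps
  have := simple_psu5
  exact dat.quot_X card_Qc card_xN hf two_dvd_psu5 hε card_aut_psu5 exists_inv

theorem card_NX : Nat.card NX = 3 ^ 11 * (2 * (2 * 13685760)) := by
  obtain ⟨hn, ⟨j⟩⟩ := quot_NX
  rw [Subgroup.card_eq_card_quotient_mul_card_subgroup (QQ DN), card_QQ, Nat.card_congr j.toEquiv, Nat.card_prod,
    card_aut_psu5, card_psu5]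
  have h : Nat.card M2 = 2 := by
    rw [Nat.card_eq_fintype_card]
    decide
  rw [h]
  ring

/-- **the width is 5** -/
theorem width_DN : Cfsg.commutingWidth DN = 5 := by
  have hle : ∀ A : Set NX, A ⊆ DN → A.Finite → (∀ a ∈ A, ∀ b ∈ A, Commute a b) → A.ncard ≤ 5 := by
    intro A hA hf hc
    refine dat.width_le ?_ hA hf hc
    intro B hB hcB _
    have h1 : (NX.subtype '' B).ncard = B.ncard := Set.ncard_image_of_injective _ NX.subtype_injective
    rw [← h1]
    apply Cfsg.Agent.H834.U5.ncard_le_five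
    · rintro _ ⟨t, ht, rfl⟩
      exact mem_T0_iff.1 (hB ht)
    · rintro _ ⟨a, ha, rfl⟩ _ ⟨b, hb, rfl⟩
      exact (hcB a ha b hb).map NX.subtype
  have hmem : 5 ∈ {n : ℕ | ∃ E : Set NX, E ⊆ DN ∧ E.Finite ∧ (∀ a ∈ E, ∀ b ∈ E, Commute a b) ∧ E.ncard = n} := by
    have hinj : Function.Injective dN := by
      intro i j hij
      have h1 : dd i = dd j := congrArg Subtype.val hij
      have h2 := isPt_dd i
      rw [h1] at h2
      exact (pd_inj j i ((isPt_dd j).uniq h2)).symm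
    refine ⟨Set.range dN, ?_, Set.finite_range _, ?_, ?_⟩
    · rintro _ ⟨i, rfl⟩
      exact dN_mem i
    · rintro _ ⟨i, rfl⟩ _ ⟨j, rfl⟩
      exact Subtype.ext (dd_comm i j)
    · rw [← Set.image_univ, Set.ncard_image_of_injective _ hinj, Set.ncard_univ, Nat.card_fin]
  have hub : ∀ n ∈ {n : ℕ | ∃ E : Set NX, E ⊆ DN ∧ E.Finite ∧ (∀ a ∈ E, ∀ b ∈ E, Commute a b) ∧ E.ncard = n}, n ≤ 5 := by
    rintro n ⟨E, hE, hf, hc, rfl⟩
    exact hle E hE hf hc
  apply le_antisymm
  · exact csSup_le ⟨5, hmem⟩ hub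
  · exact le_csSup ⟨5, hub⟩ hmem

/-! ### A Sylow 3-subgroup -/

theorem fac3 : (Nat.card Fi24).factorization 3 = 16 := by
  have hp : Nat.Prime 3 := Nat.prime_three
  rw [card_Fi24, show (2510411418381323442585600 : ℕ) = 3 ^ 16 * 58318296029593600 by norm_num,
    Nat.factorization_mul (by norm_num) (by norm_num)]
  rw [Finsupp.add_apply, hp.factorization_pow, Finsupp.single_eq_same,
    Nat.factorization_eq_zero_of_not_dvd (by norm_num)]

/-- a Sylow 3-subgroup whose centre is in `⟨x3⟩` -/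
theorem exists_sylow3 : ∃ P : Sylow 3 Fi24, ∀ g : Fi24, (∀ h ∈ P, Commute g h) → g ∈ Subgroup.zpowers x3 := by
  have hfin := Cfsg.Agent.R08.FiTwentyFour.finite_Fi24
  have hp : Fact (Nat.Prime 3) := ⟨Nat.prime_three⟩
  obtain ⟨R⟩ : Nonempty (Sylow 3 NX) := inferInstance
  have h1 : 3 ^ 16 ∣ Nat.card R := by
    apply R.pow_dvd_card_of_pow_dvd_card
    rw [card_NX]
    norm_num
  have h2 : IsPGroup 3 ↥((R : Subgroup NX).map NX.subtype) := R.isPGroup'.map NX.subtype
  obtain ⟨P, hP⟩ := h2.exists_le_sylow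
  have h3 : (R : Subgroup NX).map NX.subtype = (P : Subgroup Fi24) := by
    apply Subgroup.eq_of_le_of_card_ge hP
    rw [P.card_eq_multiplicity, fac3, InjTr.card_map NX.subtype NX.subtype_injective]
    exact Nat.le_of_dvd Nat.card_pos h1
  refine ⟨P, fun g hg => ?_⟩
  have hQn : (QQ DN).Normal := dat.normal_Q
  have hQR : QQ DN ≤ (R : Subgroup NX) := by
    have hQp : IsPGroup 3 (QQ DN) := IsPGroup.of_card card_QQ
    exact hQp.le_sylow_of_normal R
  have hg' : ∀ q ∈ QQ DN, Commute g (q : Fi24) := by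
    intro q hq
    apply hg
    show (q : Fi24) ∈ (P : Subgroup Fi24)
    rw [← h3]
    exact ⟨q, hQR hq, rfl⟩
  have hxQ : xN ∈ QQ DN := es_QQ.le (Subgroup.mem_zpowers _)
  have hgx : Commute g x3 := hg' xN hxQ
  have hgN : g ∈ NX := mem_NX_of_comm hgx
  have hgc : (⟨g, hgN⟩ : NX) ∈ Subgroup.centralizer (QQ DN : Set NX) := by
    rw [Subgroup.mem_centralizer_iff]
    intro q hq
    exact Subtype.ext (hg' q hq).symm.eq
  have hgQ := cent_QQ hgc
  have h5 := es_QQ.nd _ hgQ (fun q hq => Subtype.ext (hg' q hq).eq)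
  obtain ⟨k, hk⟩ := h5
  refine ⟨k, ?_⟩
  exact congrArg Subtype.val hk

/-! ### Transport -/

/-- Sylow subgroups of groups isomorphic to `Fi24` -/
theorem exists_equiv_syl {G : Type*} [Group G] [Finite G] (e : Fi24 ≃* G) {D : Set G} (he : e '' L = D) {p : ℕ} [Fact p.Prime]
    (P : Sylow p Fi24) (E : Sylow p G) : ∃ e' : Fi24 ≃* G, e' '' L = D ∧ (P : Subgroup Fi24).map e'.toMonoidHom = (E : Subgroup G) := by
  have := Cfsg.Agent.R08.FiTwentyFour.finite_Fi24
  have h1 : IsPGroup p ↥((P : Subgroup Fi24).map e.toMonoidHom) := P.isPGroup'.map e.toMonoidHom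
  obtain ⟨Q', hQ'⟩ := h1.exists_le_sylow
  have hcard : Nat.card G = Nat.card Fi24 := (Nat.card_congr e.toEquiv).symm
  have h2 : (P : Subgroup Fi24).map e.toMonoidHom = (Q' : Subgroup G) := by
    apply Subgroup.eq_of_le_of_card_ge hQ'
    rw [Q'.card_eq_multiplicity, hcard, card_map, P.card_eq_multiplicity]
  obtain ⟨g, hg⟩ := MulAction.exists_smul_eq G Q' E
  refine ⟨e.trans (MulAut.conj g), ?_, ?_⟩
  · rw [← he]
    ext x
    constructor
    · rintro ⟨d, hd, rfl⟩
      refine ⟨(e.symm g) * d * (e.symm g)⁻¹, Cfsg.Agent.R08.FiTwentyFour.conj hd _, ?_⟩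
      show e (e.symm g * d * (e.symm g)⁻¹) = g * e d * g⁻¹
      rw [map_mul, map_mul, map_inv, e.apply_symm_apply]
    · rintro ⟨d, hd, rfl⟩
      refine ⟨(e.symm g)⁻¹ * d * (e.symm g), ?_, ?_⟩
      · have h3 := Cfsg.Agent.R08.FiTwentyFour.conj hd (e.symm g)⁻¹
        rwa [inv_inv] at h3
      · show g * e ((e.symm g)⁻¹ * d * e.symm g) * g⁻¹ = e d
        rw [map_mul, map_mul, map_inv, e.apply_symm_apply]
        group
  · rw [← hg, Sylow.coe_subgroup_smul, ← h2]
    ext x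
    constructor
    · rintro ⟨y, hy, rfl⟩
      exact Subgroup.smul_mem_pointwise_smul (e y) (MulAut.conj g) _ ⟨y, hy, rfl⟩
    · intro hx
      obtain ⟨_, ⟨y, hy, rfl⟩, rfl⟩ := (Subgroup.mem_smul_pointwise_iff_exists _ _ _).1 hx
      exact ⟨y, hy, rfl⟩

/-- 3-central subgroups of order three -/
theorem exists_equiv_cent {G : Type*} [Group G] [Finite G] (e : Fi24 ≃* G) {D : Set G} (he : e '' L = D)
    (Z : Subgroup G) (hZ : Nat.card Z = 3)
    (hc : ∃ P : Sylow 3 G, Z ≤ (Subgroup.center ↥(P : Subgroup G)).map (P : Subgroup G).subtype) :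
    ∃ e' : Fi24 ≃* G, e' '' L = D ∧ (Subgroup.zpowers x3).map e'.toMonoidHom = Z := by
  have hp : Fact (Nat.Prime 3) := ⟨Nat.prime_three⟩
  obtain ⟨P, hP⟩ := exists_sylow3
  obtain ⟨E, hE⟩ := hc
  obtain ⟨e', he', hPE⟩ := exists_equiv_syl e he P E
  refine ⟨e', he', ?_⟩
  symm
  apply Subgroup.eq_of_le_of_card_ge
  · intro z hz
    have h1 : e'.symm z ∈ Subgroup.zpowers x3 := by
      apply hP
      intro h hh
      obtain ⟨w, hw, hwz⟩ := hE hz
      have h2 : e' h ∈ (E : Subgroup G) := by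
        rw [← hPE]
        exact ⟨h, hh, rfl⟩
      have h3 : (⟨e' h, h2⟩ : ↥(E : Subgroup G)) * w = w * ⟨e' h, h2⟩ := Subgroup.mem_center_iff.1 hw _
      have h4 : e' h * z = z * e' h := by
        have h5 := congrArg Subtype.val h3
        have h6 : (w : G) = z := hwz
        rw [← h6]
        exact h5
      have h7 : e' (e'.symm z * h) = e' (h * e'.symm z) := by
        rw [map_mul, map_mul, e'.apply_symm_apply, h4]
      exact e'.injective h7
    exact ⟨e'.symm z, h1, e'.apply_symm_apply z⟩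
  · rw [card_map, hZ]
    have h := card_xN
    rw [Nat.card_zpowers] at h ⊢
    have h8 : orderOf x3 = orderOf xN := (Subgroup.orderOf_coe xN).symm ▸ rfl
    rw [h8, h]

/-- **the conclusion of S5503** -/
theorem main {G : Type*} [Group G] [Finite G] (e : Fi24 ≃* G) {D : Set G} (he : e '' L = D)
    (Z : Subgroup G) (hZ : Nat.card Z = 3)
    (hc : ∃ P : Sylow 3 G, Z ≤ (Subgroup.center ↥(P : Subgroup G)).map (P : Subgroup G).subtype)
    (N Q S : Subgroup G) (hN : N = Subgroup.normalizer ((Z : Subgroup G) : Set G))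
    (hQ : Q = (Cfsg.generalizedFittingSubgroup ↥N).map N.subtype)
    (hS : S = Subgroup.closure (D ∩ (Subgroup.centralizer ((Z : Subgroup G) : Set G) : Set G))) :
    Cfsg.IsExtraspecial 3 ↥Q ∧ Nat.card Q = 3 ^ 11 ∧
      Cfsg.commutingWidth (D ∩ (Subgroup.centralizer ((Z : Subgroup G) : Set G) : Set G)) = 5 ∧ Q ≤ S ∧ S ≤ N ∧
      ∃ (_ : (Q.subgroupOf S).Normal) (_ : (Q.subgroupOf N).Normal) (K : Type) (_ : Field K) (_ : Fintype K),
        Fintype.card K = 4 ∧ Nonempty (↥S ⧸ Q.subgroupOf S ≃* Multiplicative (ZMod 2) × Cfsg.PSU 5 K 2) ∧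
        Nonempty (↥N ⧸ Q.subgroupOf N ≃* Multiplicative (ZMod 2) × MulAut (Cfsg.PSU 5 K 2)) := by
  obtain ⟨e', he', hZe⟩ := exists_equiv_cent e he Z hZ hc
  let φ : NX →* G := e'.toMonoidHom.comp NX.subtype
  have hφ : Function.Injective φ := e'.injective.comp NX.subtype_injective
  have hNr : N = φ.range := by
    rw [hN, ← hZe, ← map_normalizer, MonoidHom.range_comp, Subgroup.range_subtype]
    rfl
  subst hNr
  have hDC : D ∩ (Subgroup.centralizer ((Z : Subgroup G) : Set G) : Set G) = φ '' DN := by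
    rw [← he', ← hZe, ← image_inter]
    ext y
    constructor
    · rintro ⟨t, ⟨ht1, ht2⟩, rfl⟩
      have h1 : Commute t x3 := (Subgroup.mem_centralizer_iff.1 ht2 x3 (Subgroup.mem_zpowers x3)).symm
      exact ⟨mk t ⟨ht1, h1⟩, ⟨ht1, h1⟩, rfl⟩
    · rintro ⟨t, ht, rfl⟩
      refine ⟨(t : Fi24), ⟨ht.1, ?_⟩, rfl⟩
      rw [SetLike.mem_coe, Subgroup.mem_centralizer_iff]
      rintro _ ⟨k, rfl⟩
      exact ((show Commute (t : Fi24) x3 from ht.2).symm.zpow_left k).eq
  rw [hDC] at hS ⊢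
  have hQ' : Q = (QQ DN).map φ := by
    rw [hQ, InjTr.fstar φ hφ, fstar_NX]
  have hS' : S = (Subgroup.closure DN).map φ := by
    rw [hS, MonoidHom.map_closure]
  subst hQ' hS'
  have hcardZ : Nat.card ↥((Subgroup.zpowers xN).map φ) = 3 := by
    rw [InjTr.card_map φ hφ, card_xN]
  have hcardQ : Nat.card ↥((QQ DN).map φ) = 3 ^ 11 := by
    rw [InjTr.card_map φ hφ, card_QQ]
  refine ⟨?_, hcardQ, ?_, ?_, ?_, ?_⟩
  · apply (InjTr.es_map φ es_QQ hφ).isExtraspecial hcardZ
    intro h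
    rw [h, hcardZ] at hcardQ
    norm_num at hcardQ
  · rw [InjTr.commutingWidth_image φ hφ, width_DN]
  · apply Subgroup.map_mono
    rw [dat.closure_D]
    exact le_sup_left
  · exact Subgroup.map_le_range φ _
  · obtain ⟨hn1, hi1⟩ := quot_S
    obtain ⟨hn2, hi2⟩ := quot_NX
    obtain ⟨hn3, hi3⟩ := InjTr.exists_normal φ hφ hn1 hi1
    obtain ⟨hn4, hi4⟩ := InjTr.exists_normal_top φ hφ hn2 hi2
    exact ⟨hn3, hn4, F4, inferInstance, inferInstance, card_F4, hi3, hi4⟩

end Cfsg.Agent.H841.Tri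
end
end

-- part: H374/Ore/Sl3
section
prune_inst 0xf010472074000000001800000200002030000000000000002040010209098000a040000132300000808410c048080060035c0100420000000a000000080400800000000080180c00100000000004000000000000000000000000000000000000000000000
set_option linter.all false
open scoped Cfsg.Agent.FastGrp

/-!
# `SL_3(2)` and `SL_3(3)`: products of two irreducible elements (S2443, S4171), parity lemma for `SL_3(2)`

* `m3` : `|K| ∈ {2, 3}` : every `L U` is `X Y` with `X, Y` irreducible, `charpoly Y ∈ {charpoly X, charpoly X⁻¹}`;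
* `parity` : `|K| = 2` : every `L U` is conjugate to some `L' U'` with `L'_{k+1,k} = U'_{k,k+1}`.
-/

set_option autoImplicit false
set_option linter.unusedSectionVars false

namespace Cfsg.Agent.H374.Ore.Sl3

open Matrix Polynomial Cfsg.Agent.H162.GaussSL

/-- the digit `j` to the base `p` -/
def dg (p c j : ℕ) : ℕ := c / p ^ j % p

/-- the numerical test: `X Y = L U`, `det X = det Y = 1`, no roots, types `(f, f)` or `(f, f*)` -/
def tst (p m a b c x y z : ℕ) (e : ℕ → ℕ) : Bool :=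
  let X := fun i j => e (3 * i + j)
  let Y := fun i j => e (9 + (3 * i + j))
  let P := fun i j => X i 0 * Y 0 j + X i 1 * Y 1 j + X i 2 * Y 2 j
  let t := fun Z : ℕ → ℕ → ℕ => Z 0 0 + Z 1 1 + Z 2 2
  let s := fun Z : ℕ → ℕ → ℕ => Z 0 0 * Z 1 1 + Z 0 0 * Z 2 2 + Z 1 1 * Z 2 2 +
    m * (Z 0 1 * Z 1 0 + Z 0 2 * Z 2 0 + Z 1 2 * Z 2 1)
  let d := fun Z : ℕ → ℕ → ℕ => Z 0 0 * Z 1 1 * Z 2 2 + Z 0 1 * Z 1 2 * Z 2 0 + Z 0 2 * Z 1 0 * Z 2 1 +
    m * (Z 0 0 * Z 1 2 * Z 2 1 + Z 0 1 * Z 1 0 * Z 2 2 + Z 0 2 * Z 1 1 * Z 2 0)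
  (P 0 0 % p == 1 % p) && (P 0 1 % p == x % p) && (P 0 2 % p == y % p) &&
  (P 1 0 % p == a % p) && (P 1 1 % p == (a * x + 1) % p) && (P 1 2 % p == (a * y + z) % p) &&
  (P 2 0 % p == b % p) && (P 2 1 % p == (b * x + c) % p) && (P 2 2 % p == (b * y + c * z + 1) % p) &&
  (d X % p == 1 % p) && (d Y % p == 1 % p) &&
  ((List.range p).all fun n => (n ^ 3 + m * (t X * n ^ 2) + s X * n + m) % p != 0) &&
  ((List.range p).all fun n => (n ^ 3 + m * (t Y * n ^ 2) + s Y * n + m) % p != 0) &&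
  (((t Y % p == t X % p) && (s Y % p == s X % p)) || ((t Y % p == s X % p) && (s Y % p == t X % p)))

/-- the test for number `i` of the table `T` -/
def tstT (p T i : ℕ) : Bool :=
  tst p (p - 1) (dg p i 0) (dg p i 1) (dg p i 2) (dg p i 3) (dg p i 4) (dg p i 5)
    (dg p (T / (p ^ 18) ^ i % p ^ 18))

/-- the table for `SL_3(2)` -/
def T2 : ℕ := 0xf9bd3bcccfa3d3ccccef2b3cd8cf32b3bd8cb1b329cccbde32fd8cbbbd2fcccb93d29d8c7bbd1fbec7a3d1cbec72e31faac7ee31caac2f2b0beac2fe30bd8c39bd0cd8c393d31ae2f2b33d8f4eeb33d6f4f2e33baaceee33caacbbe32e58ca7b32c4ccbbb32fcf4a7e32f6f4717b198f47d7b19ef47d2b1c58c712b1f58c39e30e58c392b0e6ac31e30bcf467d88bef4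

/-- the table for `SL_3(3)` -/
def T3 : ℕ :=
  0x3836489301e16472febe133d96a26e4b3cb13dbbcd782ad2b02047c3cf5e62bb56123b7d025367fd39dc548d7ef22011d5c5282bb3b93db6520705af96461c54042fecdfd2121fb6757f13fa19d449919dbfd40cc83e5f00faf1783f16846c2b699682c94c68704dacdcedbc5907f76b691ff5309acfd88f263bce3952cadb1eae18df1a1f0893be7070d9c5c27317c2069890bcd60d43733e9ce941aff2e7b56e5acc210c0f03d0673941a8723b874ecf9c81f3881f1435d9a03356008cd7ed5469a36f0f8f2d82daf7265925df33b0f0d2b0520b7e86ae7ee7386cae2921d4cc567ce3f9768b32461fe750bcfd0434eec8879d5fadad199761cebc9b33771eb599f1ccb7bfb726deb35de0f89f07400b6b5808143a21490382bac3237b1af11d8ff8628eb1b787f1ba0f6412dfffff011497e8f02bb7e921af87c0f5ebbb3a7c30e59cc38c4e2fd90687743f11505de28667385cc40ea8f6541614d0af420a5ff7689dda2358fffbf857a185e6bb6207095d8da0e45bfdeedc192441915ca0dff7e62e60fc285161e135c615c867d57b61e6adcf1a33b6390116b2bf59ab573aeb132612432b2c779e52035aaca58d65bd97d7784cd241b85f495d97b17cbef6b9f2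e04be37def4261a0615db9e167845d4d06c871706832cf1b0636a01e6ca84d732c6d3a12d0e095c27fb8bf3da148589574a0fea0317b35f0d218199d0859b9a50aa5d1334b1993b28fa78f78abf4a359f1eceda6f9181bb3ebf3c724c9784a54c6638dd828126ca8fd446ce7f2849c502ae97ba5d893e58405fe806a332af1d5b84fb2e902296ca01764b5378858b551d284be738eca36f5345d3aadf84c5ece89cb0b4d3aacae8458fe14b6247d73cf485dd827231806f4ead0b275111ae0092eb59edc447faa3c053e15ca7f7abd6792c6ee622578216619031dae3797e5d686bac6df997f36ad299e1f6d84841c69d0747e77840363e4d6b0b293f1f64f6b9b5edd299096685e9500e17d019ea64a310234cb9c49494a66b333f8fc5aac2d8b5372726273fd98ac5c074ee97984c05c92b5f8f015927fc8fa2ef5cc225cff481f69075ed3d9a5f2d3c27edf36da61a7dcabae64e5d58a2fd6260d4d6127394e1a0c01a393944e1189c06191c3744719dcb4482ebc84956e035901e26da610865554d8b46c978e0ebb36f6804fbb83a44470419fe106704c9e4b0513d71bd80bc14cf934315e139c5dd3b1a612fecefd1880d390e0728a09f8006c3e8b957cfeedfd78d960e96922ff79f7792116031c015b53cb60bddf1205b7862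00d9ed60f3a77ee1e017f2aa93388dac54ca52b03639fe31330dd4c344103cc6b847518429802d7409db116f9401fa29088d9d028f5429d5ca239f7ebd4643cf97c70d4124e787dde027535c698cdbdd853e97c9592adefe91b68d0f56b690720ee8ec2c0b51b2e6ec4a3d07255e9d8c5adb6608a50ee9484ebcb8bd2dc0e13b77466edeecc73cd49fd26a309867674470bf8d1881efe361c63067c3a77b109ef63a5641bd7df276e7b4ba79d9389a3dd1a26035fe09504f841d3512af6607ff6b2562fe750257d864878f4fdb69b2770c9767cdbff4c60fce4eade4d816b870c709f7dc2539f1eb0dc018d964267b5238fd3b46a8b2a85fa719c0c9257a19b7a3b354905ab546701895a81517956a2d337aece376698e774134601e9ccf63084a55bddad5779273f2cee76af6a8e193c86c3cae72eec2e51b3876d4e236aefae34d497bca8c207a1a25807733f9e7d6180ac0a257fe0d0efc2e96c5066466aa3d7c376715f9184bbd58dd5dd6c66af04209035559eb39a79ed0c724b314ff5ca4bff1430c272a82fb39f968ab8b294e3cdc12648970c8b0bd36b0b0d7c9f5284e471cd97d7d945e32763b3de3a0f69bf4012643117547450ceefaa05821f6084a8947b18a9c61a40c480a2edf19f7d7834a80d1bb4aee093743779c3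594ac3cb135c65b2a4761cd7962fe0fd79053d9381b94683e32d60246212ea310f3dd5bcdcaba9ee1e23c6400a975cbf236d3aeb188c25406bd27f4ea9d4ba4c318a0c882adcb83482d0bbba78597a0e92c612de2931e6fe21bdeb0ab61c6077534aa7c1db9a490bdccea32d22257a41d6424cb675e255faf2007ca341c54099d9285ba3541cc84f693f8e9efa91d9981f64f9bcceb64e7dc21f02610fb2e47dae54c8fe052d9f6b616619db2b6f7c6183f8d1fa529fd298ce67eaaf03ccff0a8421cf9424825ab7c3ef212a73507bdbce79c36deee8d1bfcdcbce7ba242f0c10873db1820da9cdeddac0c0e2bef939df0b3d17e28008f4b60bf107dedcd6faa20ee9895000b665af805733b14df8f3cfac003365de1924fad5d0a1deb96f9b512d3e3efc21ea26084e0bdb05284753e27570679c822c569462f55185ee219b254baf77ca42233b60025d5917cfcd9884c73c3be5100cb84c0ed821b0cc9c0d0383ecf1ec347cd8af78c9dfe05eca842d7f4ff0f0f319b336095f9b6cfb1d7e9dc84820d5ffa47e4e33090e933889acd8bdb51eb86a58c62fd1a7b811e111d8b8c6a3879b829ba623d164e1f1378601a6e33b82ba20d3ff195966dad367f5906fccd753abd790f49dcf4f632948fe4a558fccd6868baadbf02512d9a3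32868812c1103a83f5ee0e6a8b101d3ff12eede3623ea93958bebbc464857755384485bd2fc81fe78fb44d69f0bae94758fb4039436893d3b368ed5cb1c32ff7136b988fdcf8d0824aa175b19b57a444c1259e3016ee1235c7d9c290a86e795c7d0bb5509a7dcfb551957f9bb0a0039d0b3db2b18560a80cb75989a45ce85af8b7ec4b3fa929f8216b77bcc696a6b6fecc3288bf12fb9c8c095a21627086c6301b02644c168bf3e4bca146f4006829b74c8fe353571ab172b92500bcdde8f3a7e4247c7de9d832b0c1f1e71c4445d19570bdbfb2c6e73a46b18876c825d8c7654845c0840d38e483cd0e4dbb65390250294a2027dfae7f0bc9e6a89fd5bc19947fd29cc72abf5c17bf0804925325fe9bd58f36a54c175372e8532014c681e63a3b5d86bc61eb99cc2ea3bbf35cfd822c312b7728cba1867e32cfab7109e9adcb387634b675d018fdbc9969795897ede2e3f77a9fba1da297e55720937c2de49ba23ba58e21acc01ed4d2ae61e59da0a085618e9d1b7725bb065aa4cca0a9626752f0959922abbb0336d06996125c86197f5ba7377a9bb24f37e364436b6156188dbbd385631af895c2481981c30da6649303399649e490c8e6f7e909b30fce0d7a029b0c499027031973edcb2003a55d4a9a3c8043e4c9769b7429adf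a01c836d9d1e035b0b77d3f8347867b96e10e2bfec3a7b265ff2492a4fa90981197f6b600970fdbcd996e65e13faf88d8f5c559906d93ec708dca4cae30316201f3a8c036b0d55a347281663056aedabfadf841fbadd6450c85f4990f205da7bd674671293410d229438122e9acce69c1a88b7860d3ce5b967c898b9154e26e27e7625cb0a4b5ca547f124d98f63396363b2be3aa02046c4b5fc0ca9e7525de940f20c3716428b935fff05a3a57b2a9d24b776e733de06be2f0f403f7995cfbb4116d68d687900841ef8b3867cfc745c592e736064495747b8605afc185ac5a67a82691d9231e4bfe1ff35d7d40c67c1022699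

theorem all2 : (List.range 64).all (tstT 2 T2) = true := by decide +kernel

theorem all3 : (List.range 729).all (tstT 3 T3) = true := by decide +kernel


/-! ### From the tables to the field -/

section

variable {K : Type*} [Field K]

/-- the trace -/
def tr3 (M : Matrix (Fin 3) (Fin 3) K) : K := M 0 0 + M 1 1 + M 2 2

/-- the sum of the principal minors of order two -/
def ms3 (M : Matrix (Fin 3) (Fin 3) K) : K :=
  M 0 0 * M 1 1 + M 0 0 * M 2 2 + M 1 1 * M 2 2 - (M 0 1 * M 1 0 + M 0 2 * M 2 0 + M 1 2 * M 2 1)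

theorem charpoly3 (M : Matrix (Fin 3) (Fin 3) K) :
    M.charpoly = X ^ 3 - C (tr3 M) * X ^ 2 + C (ms3 M) * X - C M.det := by
  rw [Matrix.charpoly, Matrix.det_fin_three, Matrix.det_fin_three]
  simp only [charmatrix_apply, tr3, ms3, diagonal_apply, Fin.isValue, if_true, map_add, map_sub, map_mul,
    show (0 : Fin 3) ≠ 1 by decide, show (0 : Fin 3) ≠ 2 by decide, show (1 : Fin 3) ≠ 0 by decide,
    show (1 : Fin 3) ≠ 2 by decide, show (2 : Fin 3) ≠ 0 by decide, show (2 : Fin 3) ≠ 1 by decide, if_false]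
  ring

theorem charpoly_inv3 (A : _root_.Matrix.SpecialLinearGroup (Fin 3) K) :
    (A⁻¹).1.charpoly = X ^ 3 - C (ms3 A.1) * X ^ 2 + C (tr3 A.1) * X - C 1 := by
  have h1 : (A⁻¹).1 = A.1.adjugate := Matrix.SpecialLinearGroup.coe_inv A
  have hd : A.1.det = 1 := A.2
  rw [charpoly3, (A⁻¹).2, h1]
  have e1 : tr3 A.1.adjugate = ms3 A.1 := by
    rw [Matrix.adjugate_fin_three]
    simp only [tr3, ms3, _root_.Fin.isValue, _root_.Matrix.of_apply, _root_.Matrix.cons_val', _root_.Matrix.cons_val_zero, _root_.Matrix.cons_val_fin_one, _root_.Matrix.cons_val_one, _root_.Matrix.cons_val]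
    ring
  have e2 : ms3 A.1.adjugate = tr3 A.1 * A.1.det := by
    rw [Matrix.adjugate_fin_three, Matrix.det_fin_three]
    simp only [tr3, ms3, _root_.Fin.isValue, _root_.Matrix.of_apply, _root_.Matrix.cons_val', _root_.Matrix.cons_val_zero, _root_.Matrix.cons_val_fin_one, _root_.Matrix.cons_val_one, _root_.Matrix.cons_val]
    ring
  rw [e1, e2, hd, mul_one]

theorem irr3 (M : Matrix (Fin 3) (Fin 3) K) (hd : M.det = 1)
    (h : ∀ k : K, k ^ 3 - tr3 M * k ^ 2 + ms3 M * k - 1 ≠ 0) : Irreducible M.charpoly := by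
  have hn : M.charpoly.natDegree = 3 := by
    rw [Matrix.charpoly_natDegree_eq_dim, Fintype.card_fin]
  rw [(Matrix.charpoly_monic M).irreducible_iff_roots_eq_zero_of_degree_le_three (by omega) (by omega)]
  rw [Multiset.eq_zero_iff_forall_notMem]
  intro k hk
  refine h k ?_
  have h1 := (mem_roots'.1 hk).2
  rw [charpoly3, hd] at h1
  simpa only [IsRoot, _root_.map_one, _root_.Polynomial.eval_sub, _root_.Polynomial.eval_add, _root_.Polynomial.eval_pow, _root_.Polynomial.eval_X, _root_.Polynomial.eval_mul, _root_.Polynomial.eval_C, _root_.Polynomial.eval_one] using h1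

/-- the matrix of a list of digits -/
def mt (K : Type*) [Field K] (e : ℕ → ℕ) : Matrix (Fin 3) (Fin 3) K := fun i j => (e (3 * i + j) : K)

variable {p : ℕ} [CharP K p]

include p in
theorem cast_eq {n k : ℕ} (h : n % p = k % p) : (n : K) = k := (CharP.cast_eq_iff_mod_eq K p).2 h

/-- the sum of the minors in digits -/
def sn (m : ℕ) (e : ℕ → ℕ) : ℕ := e 0 * e 4 + e 0 * e 8 + e 4 * e 8 + m * (e 1 * e 3 + e 2 * e 6 + e 5 * e 7)

/-- the trace in digits -/
def tn (e : ℕ → ℕ) : ℕ := e 0 + e 4 + e 8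

theorem tr3_mt (e : ℕ → ℕ) : tr3 (mt K e) = (tn e : K) := by
  simp only [tr3, mt, tn]
  norm_num only [_root_.Fin.coe_ofNat_eq_mod, _root_.MulZeroClass.mul_zero, _root_.add_zero, _root_.mul_one, _root_.Nat.cast_add]

theorem ms3_mt {m : ℕ} (hm : (m : K) = -1) (e : ℕ → ℕ) : ms3 (mt K e) = (sn m e : K) := by
  simp only [ms3, mt, sn]
  norm_num only [_root_.Fin.coe_ofNat_eq_mod, _root_.MulZeroClass.mul_zero, _root_.add_zero, _root_.mul_one, _root_.zero_add, _root_.Nat.cast_add, _root_.Nat.cast_mul]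
  rw [hm]
  ring

include p in
theorem irr_mt {m : ℕ} (hm : (m : K) = -1) (hall : ∀ k : K, ∃ n < p, (n : K) = k) {e : ℕ → ℕ}
    (hd : (mt K e).det = 1)
    (h : ∀ n < p, (n ^ 3 + m * (tn e * n ^ 2) + sn m e * n + m) % p ≠ 0) : Irreducible (mt K e).charpoly := by
  refine irr3 _ hd fun k hk => ?_
  obtain ⟨n, hn, rfl⟩ := hall k
  refine h n hn ((CharP.cast_eq_zero_iff K p _).1 ?_ |> Nat.mod_eq_zero_of_dvd)
  rw [tr3_mt, ms3_mt hm] at hk
  push_cast
  rw [hm]
  linear_combination hk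

theorem mul_mt (e f : ℕ → ℕ) {m00 m01 m02 m10 m11 m12 m20 m21 m22 : K}
    (h00 : (e 0 * f 0 + e 1 * f 3 + e 2 * f 6 : K) = m00) (h01 : (e 0 * f 1 + e 1 * f 4 + e 2 * f 7 : K) = m01)
    (h02 : (e 0 * f 2 + e 1 * f 5 + e 2 * f 8 : K) = m02) (h10 : (e 3 * f 0 + e 4 * f 3 + e 5 * f 6 : K) = m10)
    (h11 : (e 3 * f 1 + e 4 * f 4 + e 5 * f 7 : K) = m11) (h12 : (e 3 * f 2 + e 4 * f 5 + e 5 * f 8 : K) = m12)
    (h20 : (e 6 * f 0 + e 7 * f 3 + e 8 * f 6 : K) = m20) (h21 : (e 6 * f 1 + e 7 * f 4 + e 8 * f 7 : K) = m21)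
    (h22 : (e 6 * f 2 + e 7 * f 5 + e 8 * f 8 : K) = m22) :
    mt K e * mt K f = !![m00, m01, m02; m10, m11, m12; m20, m21, m22] := by
  ext i j
  rw [Matrix.mul_apply, Fin.sum_univ_three]
  fin_cases i <;> fin_cases j
  · exact h00
  · exact h01
  · exact h02
  · exact h10
  · exact h11
  · exact h12
  · exact h20
  · exact h21
  · exact h22

include p in
theorem sound {m a b c x y z : ℕ} (hm : (m : K) = -1)
    (hall : ∀ k : K, ∃ n < p, (n : K) = k) {e : ℕ → ℕ} (h : tst p m a b c x y z e = true) :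
    ∃ A B : _root_.Matrix.SpecialLinearGroup (Fin 3) K,
      A.1 * B.1 = !![1, (x : K), (y : K); (a : K), a * x + 1, a * y + z; (b : K), b * x + c, b * y + c * z + 1] ∧
      Irreducible A.1.charpoly ∧ Irreducible B.1.charpoly ∧
      (B.1.charpoly = A.1.charpoly ∨ B.1.charpoly = (A⁻¹).1.charpoly) := by
  simp only [tst, Bool.and_eq_true, Bool.or_eq_true, beq_iff_eq, bne_iff_ne, List.all_eq_true, List.mem_range] at h
  obtain ⟨⟨⟨⟨⟨⟨⟨⟨⟨⟨⟨⟨⟨h00, h01⟩, h02⟩, h10⟩, h11⟩, h12⟩, h20⟩, h21⟩, h22⟩, hdA⟩, hdB⟩, hrA⟩, hrB⟩, hty⟩ := h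
  have dA : (mt K e).det = 1 := by
    have := cast_eq (K := K) hdA
    push_cast at this
    rw [hm] at this
    rw [Matrix.det_fin_three]
    simp only [mt]
    norm_num only [_root_.Fin.coe_ofNat_eq_mod, _root_.MulZeroClass.mul_zero, _root_.add_zero, _root_.mul_one, _root_.zero_add]
    linear_combination this
  have dB : (mt K fun n => e (9 + n)).det = 1 := by
    have := cast_eq (K := K) hdB
    push_cast at this
    rw [hm] at this
    rw [Matrix.det_fin_three]
    simp only [mt]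
    norm_num only [_root_.Fin.coe_ofNat_eq_mod, _root_.MulZeroClass.mul_zero, _root_.add_zero, _root_.mul_one, _root_.zero_add]
    linear_combination this
  have i1 := irr_mt (p := p) hm hall dA hrA
  have i2 := irr_mt (p := p) hm hall dB hrB
  have g00 := cast_eq (K := K) h00
  have g01 := cast_eq (K := K) h01
  have g02 := cast_eq (K := K) h02
  have g10 := cast_eq (K := K) h10
  have g11 := cast_eq (K := K) h11
  have g12 := cast_eq (K := K) h12
  have g20 := cast_eq (K := K) h20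
  have g21 := cast_eq (K := K) h21
  have g22 := cast_eq (K := K) h22
  push_cast at g00 g01 g02 g10 g11 g12 g20 g21 g22
  have hmul := mul_mt e (fun n => e (9 + n)) g00 g01 g02 g10 g11 g12 g20 g21 g22
  refine ⟨⟨mt K e, dA⟩, ⟨mt K fun n => e (9 + n), dB⟩, hmul, i1, i2, ?_⟩
  have hc := charpoly_inv3 (⟨mt K e, dA⟩ : _root_.Matrix.SpecialLinearGroup (Fin 3) K)
  rcases hty with ⟨h1, h2⟩ | ⟨h1, h2⟩
  · left
    have g1 : tr3 (mt K fun n => e (9 + n)) = tr3 (mt K e) := by
      rw [tr3_mt, tr3_mt]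
      exact cast_eq (K := K) h1
    have g2 : ms3 (mt K fun n => e (9 + n)) = ms3 (mt K e) := by
      rw [ms3_mt hm, ms3_mt hm]
      exact cast_eq (K := K) h2
    show (mt K fun n => e (9 + n)).charpoly = (mt K e).charpoly
    rw [charpoly3, charpoly3, dA, dB, g1, g2]
  · right
    have g1 : tr3 (mt K fun n => e (9 + n)) = ms3 (mt K e) := by
      rw [tr3_mt, ms3_mt hm]
      exact cast_eq (K := K) h1
    have g2 : ms3 (mt K fun n => e (9 + n)) = tr3 (mt K e) := by
      rw [ms3_mt hm, tr3_mt]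
      exact cast_eq (K := K) h2
    refine Eq.trans ?_ hc.symm
    show (mt K fun n => e (9 + n)).charpoly =
      X ^ 3 - C (ms3 (mt K e)) * X ^ 2 + C (tr3 (mt K e)) * X - C 1
    rw [charpoly3, dB, g1, g2]

theorem exists_cast [Finite K] {p : ℕ} [hp : Fact p.Prime] (hK : Nat.card K = p) : CharP K p ∧ ∀ k : K, ∃ n < p, (n : K) = k := by
  have := Fintype.ofFinite K
  have hK' : Fintype.card K = p := by rw [← Nat.card_eq_fintype_card, hK]
  let e := ZMod.ringEquivOfPrime K hp.out hK'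
  have h1 : CharP K p := charP_of_injective_ringHom (f := e.toRingHom) e.injective p
  refine ⟨h1, fun k => ⟨(e.symm k).val, ZMod.val_lt _, ?_⟩⟩
  have h2 : e ((e.symm k).val : ZMod p) = k := by
    rw [ZMod.natCast_zmod_val, RingEquiv.apply_symm_apply]
  rwa [map_natCast] at h2
  
/-- entries of `L` and `U` -/
theorem mul_LU {L U : _root_.Matrix.SpecialLinearGroup (Fin 3) K} (hL : L ∈ LT 3 K) (hU : U ∈ UT 3 K) :
    (L * U).1 = !![1, U.1 0 1, U.1 0 2; L.1 1 0, L.1 1 0 * U.1 0 1 + 1, L.1 1 0 * U.1 0 2 + U.1 1 2;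
      L.1 2 0, L.1 2 0 * U.1 0 1 + L.1 2 1, L.1 2 0 * U.1 0 2 + L.1 2 1 * U.1 1 2 + 1] := by
  rw [mem_LT] at hL
  rw [mem_UT] at hU
  change L.1 * U.1 = _
  ext i j
  rw [Matrix.mul_apply, Fin.sum_univ_three]
  have l01 := hL.1 0 1 (by decide)
  have l02 := hL.1 0 2 (by decide)
  have l12 := hL.1 1 2 (by decide)
  have u10 := hU.1 1 0 (by decide)
  have u20 := hU.1 2 0 (by decide)
  have u21 := hU.1 2 1 (by decide)
  have l0 := hL.2 0
  have l1 := hL.2 1
  have l2 := hL.2 2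
  have u0 := hU.2 0
  have u1 := hU.2 1
  have u2 := hU.2 2
  (revert i j; simp only [l01, l02, l12, u10, u20, u21, l0, l1, l2, u0, u1, u2, _root_.Fin.forall_fin_succ, Fin.isValue, _root_.Matrix.of_apply, _root_.Matrix.cons_val', _root_.Matrix.cons_val_fin_one, _root_.mul_one, _root_.MulZeroClass.mul_zero, _root_.add_zero, _root_.Matrix.cons_val_zero, _root_.Matrix.cons_val_succ, _root_.Fin.succ_zero_eq_one, _root_.Fin.succ_one_eq_two, _root_.IsEmpty.forall_iff, _root_.and_true, _root_.one_mul, _root_.MulZeroClass.zero_mul, _root_.and_self])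

end

/-! ### The theorems -/

theorem enc {p : ℕ} (hp : p = 2 ∨ p = 3) {a b c x y z : ℕ} (ha : a < p) (hb : b < p) (hc : c < p) (hx : x < p)
    (hy : y < p) (hz : z < p) : ∃ i < p ^ 6, dg p i 0 = a ∧ dg p i 1 = b ∧ dg p i 2 = c ∧ dg p i 3 = x ∧
      dg p i 4 = y ∧ dg p i 5 = z := by
  refine ⟨a + p * b + p ^ 2 * c + p ^ 3 * x + p ^ 4 * y + p ^ 5 * z, ?_⟩
  rcases hp with rfl | rfl
  · simp only [dg]
    norm_num only [_root_.Nat.div_one]
    omega
  · simp only [dg]
    norm_num only [_root_.Nat.div_one]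
    omega

theorem tst_of {p : ℕ} (hp : p = 2 ∨ p = 3) {a b c x y z : ℕ} (ha : a < p) (hb : b < p) (hc : c < p) (hx : x < p)
    (hy : y < p) (hz : z < p) : ∃ e : ℕ → ℕ, tst p (p - 1) a b c x y z e = true := by
  obtain ⟨i, hi, h0, h1, h2, h3, h4, h5⟩ := enc hp ha hb hc hx hy hz
  rcases hp with rfl | rfl
  · have h := all2
    rw [List.all_eq_true] at h
    have h6 := h i (List.mem_range.2 (by norm_num at hi; exact hi))
    rw [tstT, h0, h1, h2, h3, h4, h5] at h6
    exact ⟨_, h6⟩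
  · have h := all3
    rw [List.all_eq_true] at h
    have h6 := h i (List.mem_range.2 (by norm_num at hi; exact hi))
    rw [tstT, h0, h1, h2, h3, h4, h5] at h6
    exact ⟨_, h6⟩

/-- **`SL_3(2)`, `SL_3(3)`: every `L U` is a product of two irreducible elements `A`, `B` with
`charpoly B ∈ {charpoly A, charpoly A⁻¹}`.** -/
theorem m3 {K : Type*} [Field K] [Finite K] (hK : Nat.card K = 2 ∨ Nat.card K = 3)
    {L U : _root_.Matrix.SpecialLinearGroup (Fin 3) K} (hL : L ∈ LT 3 K) (hU : U ∈ UT 3 K) :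
    ∃ A B : _root_.Matrix.SpecialLinearGroup (Fin 3) K, L * U = A * B ∧ Irreducible A.1.charpoly ∧ Irreducible B.1.charpoly ∧
      (B.1.charpoly = A.1.charpoly ∨ B.1.charpoly = (A⁻¹).1.charpoly) := by
  obtain ⟨p, hp, hpK⟩ : ∃ p, (p = 2 ∨ p = 3) ∧ Nat.card K = p := ⟨_, hK, rfl⟩
  have hpr : p.Prime := by rcases hp with rfl | rfl <;> norm_num
  have : Fact p.Prime := ⟨hpr⟩
  obtain ⟨hch, hall⟩ := exists_cast hpK
  have hm : ((p - 1 : ℕ) : K) = -1 := by
    rw [Nat.cast_sub hpr.one_le, CharP.cast_eq_zero, Nat.cast_one, zero_sub]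
  obtain ⟨a, ha, ea⟩ := hall (L.1 1 0)
  obtain ⟨b, hb, eb⟩ := hall (L.1 2 0)
  obtain ⟨c, hc, ec⟩ := hall (L.1 2 1)
  obtain ⟨x, hx, ex⟩ := hall (U.1 0 1)
  obtain ⟨y, hy, ey⟩ := hall (U.1 0 2)
  obtain ⟨z, hz, ez⟩ := hall (U.1 1 2)
  obtain ⟨e, he⟩ := tst_of hp ha hb hc hx hy hz
  obtain ⟨A, B, h1, h2, h3, h4⟩ := sound (K := K) (p := p) hm hall he
  refine ⟨A, B, ?_, h2, h3, h4⟩
  apply Subtype.ext
  rw [mul_LU hL hU, ← ea, ← eb, ← ec, ← ex, ← ey, ← ez]
  exact h1.symm

end Cfsg.Agent.H374.Ore.Sl3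

private theorem dce_ab983838f82a : _root_.True := by
  try have : _root_.True := by simp only [_root_.Cfsg.Agent.H374.Ore.Sl3.sn.eq_1]
  try have : _root_.True := by simp only [_root_.Cfsg.Agent.H374.Ore.Sl3.dg.eq_1]
  try have : _root_.True := by simp only [_root_.Cfsg.Agent.H374.Ore.Sl3.ms3.eq_1]
  try have : _root_.True := by simp only [_root_.Cfsg.Agent.H374.Ore.Sl3.mt.eq_1]
  try have : _root_.True := by simp only [_root_.Cfsg.Agent.H374.Ore.Sl3.tn.eq_1]
  try have : _root_.True := by simp only [_root_.Cfsg.Agent.H374.Ore.Sl3.tr3.eq_1]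
  try have : _root_.True := by simp only [_root_.Cfsg.Agent.H374.Ore.Sl3.tstT.eq_1]
  try have : _root_.True := by simp only [_root_.Cfsg.Agent.H374.Ore.Sl3.tst.eq_1]
  exact _root_.True.intro
end

-- part: H459/Ore/Frame
section
set_option linter.all false
open scoped Cfsg.Agent.FastGrp

/-!
# Assembly frame for S2443 (all elements are commutators) and S4171 (four involutions) (helper459)

`Rows P` has one field for every family of `IsKnownSimple'`; `Rows.main` is the case distinction.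
Fill the fields with the landed row theorems.
-/

set_option autoImplicit false

namespace Cfsg.Agent.H459.Ore

open Cfsg.Agent.H777.Ore

universe u

/-- the sporadic rows -/
structure SporRows (P : (G : Type u) → [Group G] → Prop) : Prop where
  m11 : ∀ {G : Type u} [Group G], Spor.IsoM11 G → P G
  m12 : ∀ {G : Type u} [Group G], Spor.IsoM12 G → P G
  m22 : ∀ {G : Type u} [Group G], Spor.IsoM22 G → P G
  m23 : ∀ {G : Type u} [Group G], Spor.IsoM23 G → P G
  m24 : ∀ {G : Type u} [Group G], Spor.IsoM24 G → P G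
  j1 : ∀ {G : Type u} [Group G], Spor.IsoJ1 G → P G
  j2 : ∀ {G : Type u} [Group G], Spor.IsoJ2 G → P G
  j3 : ∀ {G : Type u} [Group G], Spor.IsoJ3 G → P G
  j4 : ∀ {G : Type u} [Group G], Spor.IsoJ4 G → P G
  co1 : ∀ {G : Type u} [Group G], Spor.IsoCo1 G → P G
  co2 : ∀ {G : Type u} [Group G], Spor.IsoCo2 G → P G
  co3 : ∀ {G : Type u} [Group G], Spor.IsoCo3 G → P G
  mcL : ∀ {G : Type u} [Group G], Spor.IsoMcL G → P G
  hS : ∀ {G : Type u} [Group G], Spor.IsoHS G → P G
  suz : ∀ {G : Type u} [Group G], Spor.IsoSuz G → P G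
  he : ∀ {G : Type u} [Group G], Spor.IsoHe G → P G
  ru : ∀ {G : Type u} [Group G], Spor.IsoRu G → P G
  oN : ∀ {G : Type u} [Group G], Spor.IsoON G → P G
  ly : ∀ {G : Type u} [Group G], Spor.IsoLy G → P G
  fi22 : ∀ {G : Type u} [Group G], Spor.IsoFi22 G → P G
  fi23 : ∀ {G : Type u} [Group G], Spor.IsoFi23 G → P G
  fi24 : ∀ {G : Type u} [Group G], Spor.IsoFi24' G → P G
  hN : ∀ {G : Type u} [Group G], Spor.IsoHN G → P G
  th : ∀ {G : Type u} [Group G], Spor.IsoTh G → P G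
  b : ∀ {G : Type u} [Group G], Spor.IsoB G → P G
  m : ∀ {G : Type u} [Group G], Spor.IsoM G → P G

/-- the exceptional rows -/
structure ExcRows (P : (G : Type u) → [Group G] → Prop) : Prop where
  g2 : ∀ {G : Type u} [Group G], Lie.IsoChevG2 G → P G
  f4 : ∀ {G : Type u} [Group G], Lie.IsoF4 G → P G
  e6 : ∀ {G : Type u} [Group G], Lie.IsoChevE6 G → P G
  e7 : ∀ {G : Type u} [Group G], Lie.IsoE7 G → P G
  e8 : ∀ {G : Type u} [Group G], Lie.IsoE8 G → P G
  te6 : ∀ {G : Type u} [Group G], Lie.Iso2E6 G → P G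
  td4 : ∀ {G : Type u} [Group G], Lie.Iso3D4 G → P G
  sz : ∀ {G : Type u} [Group G], Lie.IsoSuzuki G → P G
  ree : ∀ {G : Type u} [Group G], Lie.IsoRee G → P G
  tf4 : ∀ {G : Type u} [Group G], Lie.Iso2F4 G → P G
  tits : ∀ {G : Type u} [Group G], Lie.IsoTits G → P G

/-- the classical and alternating rows -/
structure ClsRows (P : (G : Type u) → [Group G] → Prop) : Prop where
  alt : ∀ {G : Type u} [Group G], IsAlternating G → P G
  psl : ∀ {G : Type u} [Group G], IsPSL G → P G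
  psp : ∀ {G : Type u} [Group G], IsPSp G → P G
  psu : ∀ {G : Type u} [Group G], IsPSU G → P G
  poo : ∀ {G : Type u} [Group G], IsPOmegaOdd G → P G
  pop : ∀ {G : Type u} [Group G], IsPOmegaPlus G → P G
  pom : ∀ {G : Type u} [Group G], IsPOmegaMinus G → P G

theorem SporRows.main {P : (G : Type u) → [Group G] → Prop} (R : SporRows P) {G : Type u} [Group G]
    (h : IsSporadicGroup G) : P G := by
  rcases h with h | h | h | h | h | h | h | h | h | h | h | h | h | h | h | h | h | h | h | h | h | h | h | h | h | h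
  · exact R.m11 h
  · exact R.m12 h
  · exact R.m22 h
  · exact R.m23 h
  · exact R.m24 h
  · exact R.j1 h
  · exact R.j2 h
  · exact R.j3 h
  · exact R.j4 h
  · exact R.co1 h
  · exact R.co2 h
  · exact R.co3 h
  · exact R.mcL h
  · exact R.hS h
  · exact R.suz h
  · exact R.he h
  · exact R.ru h
  · exact R.oN h
  · exact R.ly h
  · exact R.fi22 h
  · exact R.fi23 h
  · exact R.fi24 h
  · exact R.hN h
  · exact R.th h
  · exact R.b h
  · exact R.m h

theorem ExcRows.main {P : (G : Type u) → [Group G] → Prop} (R : ExcRows P) {G : Type u} [Group G]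
    (h : IsExceptionalLieType G) : P G := by
  rcases h with h | h | h | h | h | h | h | h | h | h | h
  · exact R.g2 h
  · exact R.f4 h
  · exact R.e6 h
  · exact R.e7 h
  · exact R.e8 h
  · exact R.te6 h
  · exact R.td4 h
  · exact R.sz h
  · exact R.ree h
  · exact R.tf4 h
  · exact R.tits h

/-- the case distinction for non-abelian known simple groups -/
theorem main {P : (G : Type u) → [Group G] → Prop} (C : ClsRows P) (E : ExcRows P) (S : SporRows P) {G : Type u} [Group G]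
    [Finite G] (hG : ¬ IsMulCommutative G) (h : IsKnownSimple' G) : P G := by
  rcases h with h | h | h | h | h | h | h | h | h | h
  · haveI : Fact (Nat.card G).Prime := ⟨h⟩
    haveI := isCyclic_of_prime_card (α := G) rfl
    exact absurd ⟨⟨fun a b => IsCyclic.commGroup.mul_comm a b⟩⟩ hG
  · exact C.alt h
  · exact C.psl h
  · exact C.psp h
  · exact C.psu h
  · exact C.poo h
  · exact C.pop h
  · exact C.pom h
  · exact E.main h
  · exact S.main h

/-- the final form of S2443 -/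
theorem s2443_of {G : Type u} [Group G] (h : AllC G) (g : G) : ∃ a b : G, g = a * b * a⁻¹ * b⁻¹ := h g

theorem ord_of {G : Type*} [Group G] {a : G} (h : a * a = 1) : a = 1 ∨ orderOf a = 2 := by
  by_cases h1 : a = 1
  · exact Or.inl h1
  · refine Or.inr (orderOf_eq_prime ?_ h1)
    rw [pow_two, h]

/-- the final form of S4171 -/
theorem s4171_of {G : Type u} [Group G] (h : Inv4 G) (g : G) : ∃ t₁ t₂ t₃ t₄ : G, (t₁ = 1 ∨ orderOf t₁ = 2) ∧
    (t₂ = 1 ∨ orderOf t₂ = 2) ∧ (t₃ = 1 ∨ orderOf t₃ = 2) ∧ (t₄ = 1 ∨ orderOf t₄ = 2) ∧ g = t₁ * t₂ * t₃ * t₄ := by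
  obtain ⟨a, b, c, d, ha, hb, hc, hd, e⟩ := h g
  exact ⟨a, b, c, d, ord_of ha, ord_of hb, ord_of hc, ord_of hd, e⟩

theorem Inv4.congr {G H : Type*} [Group G] [Group H] (e : G ≃* H) (h : Inv4 G) : Inv4 H := by
  intro x
  obtain ⟨a, b, c, d, ha, hb, hc, hd, hx⟩ := h (e.symm x)
  refine ⟨e a, e b, e c, e d, ?_, ?_, ?_, ?_, ?_⟩
  · rw [← map_mul, ha, map_one]
  · rw [← map_mul, hb, map_one]
  · rw [← map_mul, hc, map_one]
  · rw [← map_mul, hd, map_one]
  · rw [← map_mul, ← map_mul, ← map_mul, ← hx, MulEquiv.apply_symm_apply]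

end Cfsg.Agent.H459.Ore
end

-- part: H597/OreFi/RankE
section
prune_inst 0xc0000220400000000000000200000000100004000003000051400302020e102009002e00400008021820000000000020035c00000000000000000000080000800020000281080000000000003003180c00000000000000000000000000041000000000000
set_option linter.all false
open scoped Cfsg.Agent.FastGrp

-- part: H597/OreFi/GeoDef
section
/-!
# The geometry of the classes of twins (helper597, for the order 9 elements of `Fi24'`)

`D` a set of 3-transpositions; the classes of twins of `D` are the points of a generalized quadrangle with lines of five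
points, nine lines through each point (165 points, represented by `T0 D z`).
-/

set_option autoImplicit false

namespace Cfsg.Agent.H597.OreFi

open Subgroup
open Cfsg.Agent.LThreeFi24.Comp Cfsg.Agent.LThreeFi24.Twin Cfsg.Agent.H841.Ext

variable {X : Type*} [Group X]

/-- the geometry of the classes of twins -/
structure Geo (D : Set X) (z : X) : Prop where
  /-- on the neighbours of `e`, "neighbour or twin" is transitive -/
  line : ∀ e ∈ D, ∀ a ∈ Nb D e, ∀ b ∈ Nb D e, ∀ c ∈ Nb D e, (b ∈ Nb D a ∨ Tw D a b) → (c ∈ Nb D b ∨ Tw D b c) →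
    (c ∈ Nb D a ∨ Tw D a c)
  /-- two commuting classes lie in five commuting classes -/
  five : ∀ e ∈ D, ∀ a ∈ Nb D e, ∃ b c f : X, b ∈ Nb D e ∧ c ∈ Nb D e ∧ f ∈ Nb D e ∧ b ∈ Nb D a ∧ c ∈ Nb D a ∧
    f ∈ Nb D a ∧ c ∈ Nb D b ∧ f ∈ Nb D b ∧ f ∈ Nb D c
  /-- one or all: a class not commuting with `e` commutes with a point of each line through `e` -/
  proj : ∀ e ∈ D, ∀ a ∈ Nb D e, ∀ x ∈ D, x ∉ Nb D e → ¬ Tw D e x →
    ∃ u ∈ Nb D e, (u ∈ Nb D a ∨ Tw D a u) ∧ x ∈ Nb D u
  cV : (T0 D z).ncard = 165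
  cN : ∀ x ∈ T0 D z, (Nb D x ∩ T0 D z).ncard = 36
  cL : ∀ x ∈ T0 D z, ∀ q ∈ Nb D x ∩ T0 D z, {a | a ∈ Nb D x ∩ T0 D z ∧ (a = q ∨ a ∈ Nb D q)}.ncard = 4

end Cfsg.Agent.H597.OreFi
end

-- part: H597/OreFi/RankA
section
/-!
# Elements of the centralizer of `x` acting on `Q` (helper597), part A: the groups `Qc D e`
-/

set_option autoImplicit false

namespace Cfsg.Agent.H597.OreFi

open Subgroup
open Cfsg.Agent.LThreeFi24.Comp Cfsg.Agent.LThreeFi24.Twin Cfsg.Agent.H841.Ext

variable {X : Type*} [Group X] {D : Set X} {x z : X} {d : Fin 5 → X}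

theorem nb_symm {a b : X} (ha : a ∈ D) (h : b ∈ Nb D a) : a ∈ Nb D b := ⟨ha, fun e => h.2.1 e.symm, h.2.2.symm⟩

theorem nb_tw {a b c : X} (h : Tw D a b) (hc : c ∈ Nb D a) : c ∈ Nb D b := by
  rwa [← show Nb D a = Nb D b from h]

theorem nb_tw' {a b c : X} (ha : a ∈ D) (hc : c ∈ D) (h : Tw D b c) (hb : b ∈ Nb D a) : c ∈ Nb D a :=
  nb_symm hc (nb_tw h (nb_symm ha hb))

theorem nb_conj (h : TSet D) {a b : X} (hb : b ∈ Nb D a) (g : X) : g * b * g⁻¹ ∈ Nb D (g * a * g⁻¹) := by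
  rw [Nb_conj h]
  exact ⟨b, hb, rfl⟩

theorem not_comm_of {a b : X} (hb : b ∈ D) (h1 : b ∉ Nb D a) (h2 : a ≠ b) : ¬ Commute a b :=
  fun h => h1 ⟨hb, fun e => h2 e.symm, h⟩

/-- an element inverting and centralizing -/
theorem eq_one_of_inv {c : X} (h : c = c⁻¹) (h3 : c ^ 3 = 1) : c = 1 := by
  have h2 : c * c = 1 := by
    nth_rewrite 2 [h]
    exact mul_inv_cancel c
  rw [pow_succ, pow_two, h2, one_mul] at h3
  exact h3

section

variable (H : Dat D x z d)

include H

theorem tr_all {e : X} (he : e ∈ D) : ∃ g : X, g * e * g⁻¹ = d 0 := by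
  obtain ⟨t, ht, htz, het⟩ := H.tw e he
  obtain ⟨k, -, hk⟩ := H.tr t ht htz
  have h1 := TSet.swap H.ts he ht (het.nc he ht)
  refine ⟨k * (e * t), ?_⟩
  have h2 : (e * t) * e * (e * t)⁻¹ = t := by
    have he' := H.ts.inv_eq he
    calc (e * t) * e * (e * t)⁻¹ = e * (t * e * t⁻¹) * e⁻¹ := by group
      _ = e * (e * t * e⁻¹) * e⁻¹ := by rw [h1]
      _ = (e * e) * t * (e⁻¹ * e⁻¹) := by group
      _ = t := by rw [he', H.ts.sq e he, one_mul, mul_one]
  calc k * (e * t) * e * (k * (e * t))⁻¹ = k * ((e * t) * e * (e * t)⁻¹) * k⁻¹ := by group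
    _ = d 0 := by rw [h2, hk]

theorem es_all {e : X} (he : e ∈ D) : ES (zpowers x) (Qc D e) := by
  obtain ⟨g, hg⟩ := tr_all H he
  have h1 := H.es.conj g⁻¹ (H.conj_Z g⁻¹) (by
    intro y hy
    have := H.conj_Z g y hy
    rwa [inv_inv])
  rw [Qc_conj H.ts, ← hg] at h1
  have e' : g⁻¹ * (g * e * g⁻¹) * g⁻¹⁻¹ = e := by group
  rwa [e'] at h1

theorem card_all {e : X} (he : e ∈ D) : Nat.card (Qc D e) = Nat.card (Qc D (d 0)) := by
  obtain ⟨g, hg⟩ := tr_all H he
  have h1 := Qc_conj H.ts e g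
  rw [hg] at h1
  rw [← h1]
  exact (Nat.card_congr ((Qc D e).equivMapOfInjective _ (MulAut.conj g).injective).toEquiv)

/-- an element of `Q` centralizing `Qc D (d 0)` commutes with `d 0` -/
theorem comm_of_cent0 {w : X} (hw : w ∈ QQ D) (hc : ∀ v ∈ Qc D (d 0), Commute w v) : Commute (d 0) w := by
  rw [QQ, H.closure_Pr, Dat.iSup_eq] at hw
  have e1 : Qc D (d 0) ⊔ Qc D (d 1) ⊔ Qc D (d 2) ⊔ Qc D (d 3) ⊔ Qc D (d 4) =
      Qc D (d 0) ⊔ (Qc D (d 1) ⊔ Qc D (d 2) ⊔ Qc D (d 3) ⊔ Qc D (d 4)) := by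
    simp only [sup_assoc]
  rw [e1] at hw
  have hR : ∀ g ∈ (Qc D (d 1) ⊔ Qc D (d 2) ⊔ Qc D (d 3) ⊔ Qc D (d 4)), ∀ c : X,
      (∀ j : Fin 5, j ≠ 0 → ∀ y ∈ Qc D (d j), Commute y c) → Commute g c := by
    intro g hg c hc
    have h3 : (Qc D (d 1) ⊔ Qc D (d 2) ⊔ Qc D (d 3) ⊔ Qc D (d 4)) ≤ Subgroup.centralizer ({c} : Set X) := by
      refine sup_le (sup_le (sup_le ?_ ?_) ?_) ?_
      · exact fun y hy => Subgroup.mem_centralizer_singleton_iff.2 (hc 1 (by decide) y hy).eq
      · exact fun y hy => Subgroup.mem_centralizer_singleton_iff.2 (hc 2 (by decide) y hy).eq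
      · exact fun y hy => Subgroup.mem_centralizer_singleton_iff.2 (hc 3 (by decide) y hy).eq
      · exact fun y hy => Subgroup.mem_centralizer_singleton_iff.2 (hc 4 (by decide) y hy).eq
    exact Subgroup.mem_centralizer_singleton_iff.1 (h3 hg)
  have hcomm : ∀ g ∈ Qc D (d 0), ∀ r ∈ (Qc D (d 1) ⊔ Qc D (d 2) ⊔ Qc D (d 3) ⊔ Qc D (d 4)), Commute g r := by
    intro g hg r hr
    refine (hR r hr g fun j hj y hy => ?_).symm
    exact comm_Qc_Qc (H.dD j) (H.dc j 0 hj) hy hg
  obtain ⟨a, ha, r, hr, rfl⟩ := (mem_sup_of_comm hcomm).1 hw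
  have h1 : a ∈ zpowers x := by
    apply H.es.nd a ha
    intro y hy
    have h2 := hc y hy
    have h3 := h2.mul_left ((hcomm y hy _ (inv_mem hr)).symm)
    rwa [mul_inv_cancel_right] at h3
  have h2 : Commute (d 0) a := by
    obtain ⟨k, rfl⟩ := h1
    exact (H.cx _ (H.dD 0)).zpow_right k
  have h3 : Commute (d 0) r := by
    refine (hR r hr (d 0) fun j hj y hy => ?_).symm
    exact (comm_Qc (H.dc j 0 hj) hy).symm
  exact h2.mul_right h3

theorem comm_of_cent {u w : X} (hu : u ∈ D) (hw : w ∈ QQ D) (hc : ∀ v ∈ Qc D u, Commute w v) : Commute u w := by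
  obtain ⟨g, hg⟩ := tr_all H hu
  have hn := H.normal_Q
  have h1 := comm_of_cent0 H (hn.conj_mem w hw g) (by
    intro v hv
    rw [← hg, ← Qc_conj H.ts] at hv
    obtain ⟨y, hy, rfl⟩ := hv
    have h2 := (hc y hy).map (MulAut.conj g).toMonoidHom
    exact h2)
  rw [← hg] at h1
  have h2 := h1.map (MulAut.conj g⁻¹).toMonoidHom
  have e1 : ∀ y : X, (MulAut.conj g⁻¹).toMonoidHom (g * y * g⁻¹) = y := by
    intro y
    show g⁻¹ * (g * y * g⁻¹) * g⁻¹⁻¹ = y
    group
  rwa [e1, e1] at h2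

/-- `r` inverts `Qc D r` modulo `⟨x⟩` -/
theorem inv_Qc {r : X} (hr : r ∈ D) {w : X} (hw : w ∈ Qc D r) : r * w * r⁻¹ * w ∈ zpowers x := by
  have E := es_all H hr
  have key : w ∈ Qc D r ∧ r * w * r⁻¹ * w ∈ zpowers x := by
    induction hw using Subgroup.closure_induction with
    | mem y hy =>
      obtain ⟨e, he, hw, rfl⟩ := hy
      refine ⟨mem_Qc he hw, ?_⟩
      have e1 : r * (r * e) * r⁻¹ * (r * e) = 1 := by
        rw [H.ts.inv_eq hr]
        calc r * (r * e) * r * (r * e) = (r * r) * e * (r * r) * e := by simp only [mul_assoc]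
          _ = 1 := by rw [H.ts.sq r hr, one_mul, mul_one, H.ts.sq e he]
      rw [e1]
      exact one_mem _
    | one => exact ⟨one_mem _, by rw [mul_one, mul_one, mul_inv_cancel]; exact one_mem _⟩
    | mul a b _ _ iha ihb =>
      obtain ⟨ha, hk⟩ := iha
      obtain ⟨hb, hl⟩ := ihb
      refine ⟨mul_mem ha hb, ?_⟩
      have c1 := (E.cen _ hl _ (inv_mem ha)).eq
      have e1 : r * (a * b) * r⁻¹ * (a * b) = (r * a * r⁻¹ * a) * (r * b * r⁻¹ * b) * (a⁻¹ * b⁻¹ * a⁻¹⁻¹ * b⁻¹⁻¹) := by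
        calc r * (a * b) * r⁻¹ * (a * b) = (r * a * r⁻¹ * a) * (a⁻¹ * (r * b * r⁻¹ * b)) * (b⁻¹ * a * b) := by group
          _ = (r * a * r⁻¹ * a) * ((r * b * r⁻¹ * b) * a⁻¹) * (b⁻¹ * a * b) := by rw [c1]
          _ = _ := by group
      rw [e1]
      exact mul_mem (mul_mem hk hl) (E.com _ (inv_mem ha) _ (inv_mem hb))
    | inv a _ iha =>
      obtain ⟨ha, hk⟩ := iha
      refine ⟨inv_mem ha, ?_⟩
      have c1 := (E.cen _ (inv_mem hk) _ ha).eq
      have e1 : r * a⁻¹ * r⁻¹ * a⁻¹ = (r * a * r⁻¹ * a)⁻¹ := by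
        calc r * a⁻¹ * r⁻¹ * a⁻¹ = a * (r * a * r⁻¹ * a)⁻¹ * a⁻¹ := by group
          _ = (r * a * r⁻¹ * a)⁻¹ * a * a⁻¹ := by rw [c1]
          _ = _ := by group
      rw [e1]
      exact inv_mem hk
  exact key.2

/-- `Q` has exponent three, central `⟨x⟩` and so on -/
theorem comm_x {w : X} (hw : w ∈ zpowers x) {r : X} (hr : r ∈ D) : Commute r w := by
  obtain ⟨k, rfl⟩ := hw
  exact (H.cx _ hr).zpow_right k

/-- **noncommuting classes**: the elements of `Qc D r` centralizing `Qc D u` are in `⟨x⟩` -/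
theorem mem_x_of_cent {r u w : X} (hr : r ∈ D) (hu : u ∈ D) (hru : ¬ Commute r u) (hw : w ∈ Qc D r)
    (hc : ∀ v ∈ Qc D u, Commute w v) : w ∈ zpowers x := by
  have E := es_all H hr
  have h1 : Commute u w := comm_of_cent H hu (Qc_le hr hw) hc
  have h2 := inv_Qc H hr hw
  have hr' := H.ts.inv_eq hr
  have hu' := H.ts.inv_eq hu
  have sr := H.ts.sq r hr
  have su := H.ts.sq u hu
  -- `c = r (w r w⁻¹)`
  set c := r * (w * r * w⁻¹) with hcd
  have h3 : w ^ 3 = 1 := E.cub w hw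
  have h4 : c = (r * w * r⁻¹ * w) * w := by
    have h5 : w * w = w⁻¹ := by
      rw [eq_inv_iff_mul_eq_one, ← pow_two, ← pow_succ]; exact h3
    rw [hcd, hr', mul_assoc (r * w * r), h5]
    simp only [mul_assoc]
  have h5 : Commute u c := by
    rw [h4]
    exact (comm_x H h2 hu).mul_right h1
  have h6 : r * c * r⁻¹ = c⁻¹ := by
    rw [hcd, mul_inv_rev, mul_inv_rev, mul_inv_rev, inv_inv, hr']
    calc r * (r * (w * r * w⁻¹)) * r = (r * r) * (w * r * w⁻¹) * r := by simp only [mul_assoc]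
      _ = w * (r * w⁻¹) * r := by rw [sr, one_mul, mul_assoc w]
  have h7 : c ^ 3 = 1 := by
    apply E.cub
    rw [h4]
    exact mul_mem (E.le h2) hw
  have h8 : r * u * r = u * r * u := (H.ts.tri r hr u hu).resolve_left hru
  have h9 : (r * u * r) * c * (r * u * r)⁻¹ = c := by
    have e1 : r⁻¹ * c * r = c⁻¹ := by
      rw [hr'] at h6 ⊢
      exact h6
    have e2 : r * c⁻¹ * r⁻¹ = c := by
      rw [← e1]; group
    calc (r * u * r) * c * (r * u * r)⁻¹ = r * (u * (r * c * r⁻¹) * u⁻¹) * r⁻¹ := by group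
      _ = r * (u * c⁻¹ * u⁻¹) * r⁻¹ := by rw [h6]
      _ = r * c⁻¹ * r⁻¹ := by rw [h5.inv_right.eq, mul_inv_cancel_right]
      _ = c := e2
  have h10 : (u * r * u) * c * (u * r * u)⁻¹ = c⁻¹ := by
    calc (u * r * u) * c * (u * r * u)⁻¹ = u * (r * (u * c * u⁻¹) * r⁻¹) * u⁻¹ := by group
      _ = u * (r * c * r⁻¹) * u⁻¹ := by rw [h5.eq, mul_inv_cancel_right]
      _ = c⁻¹ := by rw [h6, h5.inv_right.eq, mul_inv_cancel_right]
  rw [h8, h10] at h9
  have h11 := eq_one_of_inv h9.symm h7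
  rw [h4] at h11
  rw [eq_inv_of_mul_eq_one_right h11]
  exact inv_mem h2

end

end Cfsg.Agent.H597.OreFi
end

-- part: H597/OreFi/RankB
section
/-!
# Elements of the centralizer of `x` acting on `Q` (helper597), part B: the first two cases
-/

set_option autoImplicit false
set_option linter.unusedSectionVars false

namespace Cfsg.Agent.H597.OreFi

open Subgroup
open Cfsg.Agent.LThreeFi24.Comp Cfsg.Agent.LThreeFi24.Twin Cfsg.Agent.H841.Ext

variable {X : Type*} [Group X] {D : Set X} {x z : X} {d : Fin 5 → X}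

theorem card_of_inf [Finite X] {g : X} {A Q Z : Subgroup X} (hA : A ≤ Q) (hcA : Nat.card A = 3 ^ 5)
    (hQ : Nat.card Q = 3 ^ 11) (hZ : Nat.card Z = 3) (h : ∀ w ∈ A, g * w * g⁻¹ = w → w ∈ Z) :
    Nat.card ↥(centralizer ({g} : Set X) ⊓ Q) ≤ 3 ^ 7 := by
  set C : Subgroup X := centralizer ({g} : Set X) ⊓ Q with hC
  have h1 : C.relIndex A ≤ C.relIndex Q := relIndex_le_of_le_right hA (C.subgroupOf Q).index_ne_zero_of_finite
  have h2 : Nat.card C * C.relIndex Q = 3 ^ 11 := by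
    have h3 := (C.subgroupOf Q).card_mul_index
    rw [Nat.card_congr (Subgroup.subgroupOfEquivOfLe (show C ≤ Q from inf_le_right)).toEquiv, hQ] at h3
    exact h3
  have h4 : Nat.card ↥(C ⊓ A) * C.relIndex A = 3 ^ 5 := by
    have h3 := (C.subgroupOf A).card_mul_index
    rw [← Subgroup.inf_subgroupOf_right, Nat.card_congr (Subgroup.subgroupOfEquivOfLe (show C ⊓ A ≤ A from inf_le_right)).toEquiv,
      hcA, Subgroup.inf_subgroupOf_right] at h3
    exact h3
  have h5 : Nat.card ↥(C ⊓ A) ≤ 3 := by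
    rw [← hZ]
    apply Subgroup.card_le_of_le
    rintro w ⟨⟨hw1, -⟩, hw2⟩
    apply h w hw2
    have h6 : w * g = g * w := mem_centralizer_singleton_iff.1 hw1
    rw [← h6, mul_inv_cancel_right]
  have h6 : 81 ≤ C.relIndex A := by
    by_contra hcon
    push Not at hcon
    have : Nat.card ↥(C ⊓ A) * C.relIndex A ≤ 3 * 80 := Nat.mul_le_mul h5 (by omega)
    omega
  by_contra hcon
  push Not at hcon
  have h7 : (3 ^ 7 + 1) * 81 ≤ Nat.card C * C.relIndex Q := Nat.mul_le_mul (by omega) (h6.trans h1)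
  rw [h2] at h7
  norm_num at h7

/-- no member of `D` is moved to a neighbour -/
def NoA (D : Set X) (g : X) : Prop := ∀ p ∈ D, g * p * g⁻¹ ∉ Nb D p

theorem comm_zp {g w : X} (hg : Commute g x) (hw : w ∈ zpowers x) : Commute g w := by
  obtain ⟨k, rfl⟩ := hw
  exact hg.zpow_right k

theorem mem_of_conj_mem {g w : X} (hg : Commute g x) (hw : g * w * g⁻¹ ∈ zpowers x) : w ∈ zpowers x := by
  have h1 := (comm_zp hg hw).eq
  have h2 : g * w = w * g⁻¹⁻¹ ∨ True := Or.inr trivial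
  have h3 : w = g * w * g⁻¹ := by
    have h4 : g⁻¹ * (g * (g * w * g⁻¹)) * g⁻¹⁻¹ = g⁻¹ * ((g * w * g⁻¹) * g) * g⁻¹⁻¹ := by rw [h1]
    have h5 : g⁻¹ * ((g * w * g⁻¹) * g) * g⁻¹⁻¹ = w * g := by group
    have h6 : g⁻¹ * (g * (g * w * g⁻¹)) * g⁻¹⁻¹ = g * w := by group
    rw [h5, h6] at h4
    rw [h4, mul_inv_cancel_right]
  rw [h3]
  exact hw

section

variable (H : Dat D x z d)

include H

theorem iter_tw {g p : X} (h : Tw D p (g * p * g⁻¹)) : ∀ k : ℕ, Tw D p (g ^ k * p * (g ^ k)⁻¹)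
  | 0 => by
    rw [pow_zero, one_mul, inv_one, mul_one]
    exact Tw.refl p
  | k + 1 => by
    have h1 := (iter_tw h k).conj H.ts g
    have e1 : g * (g ^ k * p * (g ^ k)⁻¹) * g⁻¹ = g ^ (k + 1) * p * (g ^ (k + 1))⁻¹ := by
      rw [pow_succ']; group
    rw [e1] at h1
    exact h.trans h1

/-- a 3-element whose square fixes a class fixes the class -/
theorem tw_of_sq {g p : X} {n : ℕ} (hn : g ^ 3 ^ n = 1) (h : Tw D p (g * (g * p * g⁻¹) * g⁻¹)) :
    Tw D p (g * p * g⁻¹) := by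
  have e1 : g * (g * p * g⁻¹) * g⁻¹ = g ^ 2 * p * (g ^ 2)⁻¹ := by rw [pow_two]; group
  rw [e1] at h
  have h1 := iter_tw H h ((3 ^ n + 1) / 2)
  have h2 : (g ^ 2) ^ ((3 ^ n + 1) / 2) = g := by
    have ho : Odd (3 ^ n) := Odd.pow (by decide)
    have h3 : 2 * ((3 ^ n + 1) / 2) = 3 ^ n + 1 := by
      obtain ⟨m, hm⟩ := ho
      omega
    rw [← pow_mul, h3, pow_succ, hn, one_mul]
  rwa [h2] at h1

theorem qc_comm {a b : X} (ha : a ∈ D) (hb : b ∈ Nb D a) : ∀ u ∈ Qc D a, ∀ v ∈ Qc D b, Commute u v :=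
  fun _ hu _ hv => comm_Qc_Qc ha hb hu hv

theorem card_sup_two [Finite X] (hc : Nat.card (Qc D (d 0)) = 27) (hx : Nat.card (zpowers x) = 3) {p q : X} (hp : p ∈ D)
    (hq : q ∈ Nb D p) : Nat.card ↥(Qc D p ⊔ Qc D q) = 3 ^ 5 := by
  have h1 := (es_all H hp).card_sup (es_all H hq.1) (qc_comm H hp hq)
  rw [hx, card_all H hp, card_all H hq.1, hc] at h1
  omega

/-- **Case A**: a member of `D` is moved to a neighbour -/
theorem caseA [Finite X] (Gm : Geo D z) (hc : Nat.card (Qc D (d 0)) = 27) (hx : Nat.card (zpowers x) = 3) {g : X}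
    (hg : Commute g x) {n : ℕ} (hn : g ^ 3 ^ n = 1) {p : X} (hp : p ∈ D) (h : g * p * g⁻¹ ∈ Nb D p) :
    Nat.card ↥(centralizer ({g} : Set X) ⊓ QQ D) ≤ 3 ^ 7 := by
  have hq : g * p * g⁻¹ ∈ D := h.1
  have hr' := nb_conj H.ts h g
  have hr : g * (g * p * g⁻¹) * g⁻¹ ∈ D := hr'.1
  have hnt : ¬ Tw D p (g * p * g⁻¹) := by
    intro h1
    have h2 := nb_tw h1 h
    exact h2.2.1 rfl
  have hnt2 : ¬ Tw D p (g * (g * p * g⁻¹) * g⁻¹) := fun h1 => hnt (tw_of_sq H hn h1)
  have hpq := nb_symm hp h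
  refine card_of_inf (A := Qc D p ⊔ Qc D (g * p * g⁻¹)) (sup_le (Qc_le hp) (Qc_le hq)) (card_sup_two H hc hx hp h)
    (H.es_card hc hx).2 hx ?_
  intro w hw hgw
  obtain ⟨a, ha, b, hb, rfl⟩ := (mem_sup_of_comm (qc_comm H hp h)).1 hw
  have hc' : g * a * g⁻¹ ∈ Qc D (g * p * g⁻¹) := conj_mem_Qc H.ts ha
  have he' : g * b * g⁻¹ ∈ Qc D (g * (g * p * g⁻¹) * g⁻¹) := conj_mem_Qc H.ts hb
  set c := g * a * g⁻¹ with hcd
  set e := g * b * g⁻¹ with hed
  have e1 : c * e = a * b := by rw [← hgw, hcd, hed]; group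
  have c1 := (qc_comm H hp h a ha _ (inv_mem hc')).eq
  have e2 : e = a * (c⁻¹ * b) := by
    calc e = c⁻¹ * (c * e) := by group
      _ = (c⁻¹ * a) * b := by rw [e1]; group
      _ = a * (c⁻¹ * b) := by rw [← c1]; group
  have hb' : c⁻¹ * b ∈ Qc D (g * p * g⁻¹) := mul_mem (inv_mem hc') hb
  have heZ : e ∈ zpowers x := by
    by_cases hrp : g * (g * p * g⁻¹) * g⁻¹ ∈ Nb D p
    · apply (es_all H hr).nd e he'
      intro y hy
      rw [e2]
      exact (qc_comm H hp hrp a ha y hy).mul_left (qc_comm H hq hr' _ hb' y hy)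
    · obtain ⟨u, -, -, hu1, -, -, hu2, -⟩ := Gm.five p hp _ h
      refine mem_x_of_cent H hr hu1.1 (not_comm_of hu1.1 ?_ ?_) he' ?_
      · intro hur
        rcases Gm.line _ hq _ hr' u hu2 p hpq (Or.inl hur) (Or.inl (nb_symm hp hu1)) with h3 | h3
        · exact hrp (nb_symm hr h3)
        · exact hnt2 h3.symm
      · intro hur
        rw [hur] at hrp
        exact hrp hu1
      · intro y hy
        rw [e2]
        exact (qc_comm H hp hu1 a ha y hy).mul_left (qc_comm H hq hu2 _ hb' y hy)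
  have hbZ : b ∈ zpowers x := mem_of_conj_mem hg heZ
  have haZ : a ∈ zpowers x := by
    have h3 : a ∈ Qc D p ⊓ Qc D (g * p * g⁻¹) := by
      refine Subgroup.mem_inf.2 ⟨ha, ?_⟩
      have h4 : a = e * (c⁻¹ * b)⁻¹ := by rw [e2, mul_inv_cancel_right]
      rw [h4]
      exact mul_mem ((es_all H hq).le heZ) (inv_mem hb')
    rwa [(es_all H hp).inf (es_all H hq) (qc_comm H hp h)] at h3
  exact mul_mem haZ hbZ

/-- **Case B**: `a` commutes with `p` and with the image of `p`, and its class is moved -/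
theorem caseB [Finite X] (Gm : Geo D z) (hc : Nat.card (Qc D (d 0)) = 27) (hx : Nat.card (zpowers x) = 3) {g : X}
    (hg : Commute g x) (hno : NoA D g) {p a : X} (hp : p ∈ D) (hpt : ¬ Tw D p (g * p * g⁻¹)) (ha : a ∈ Nb D p)
    (hqa : g * p * g⁻¹ ∈ Nb D a) (hat : ¬ Tw D a (g * a * g⁻¹)) :
    Nat.card ↥(centralizer ({g} : Set X) ⊓ QQ D) ≤ 3 ^ 7 := by
  obtain ⟨s, -, -, hsp, -, -, hsa, -⟩ := Gm.five p hp a ha
  have hq : g * p * g⁻¹ ∈ D := hqa.1
  have htq := nb_conj H.ts hsp g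
  have haq := nb_conj H.ts ha g
  have hat' : g * a * g⁻¹ ∈ Nb D (g * s * g⁻¹) := nb_conj H.ts (nb_symm ha.1 hsa) g
  have haq' : a ∈ Nb D (g * p * g⁻¹) := nb_symm ha.1 hqa
  have ht : g * s * g⁻¹ ∈ D := htq.1
  refine card_of_inf (A := Qc D p ⊔ Qc D s) (sup_le (Qc_le hp) (Qc_le hsp.1)) (card_sup_two H hc hx hp hsp)
    (H.es_card hc hx).2 hx ?_
  intro w hw hgw
  obtain ⟨u, hu, v, hv, rfl⟩ := (mem_sup_of_comm (qc_comm H hp hsp)).1 hw
  have hu' : g * u * g⁻¹ ∈ Qc D (g * p * g⁻¹) := conj_mem_Qc H.ts hu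
  have hv' : g * v * g⁻¹ ∈ Qc D (g * s * g⁻¹) := conj_mem_Qc H.ts hv
  set u' := g * u * g⁻¹ with hud
  set v' := g * v * g⁻¹ with hvd
  have e1 : u' * v' = u * v := by rw [← hgw, hud, hvd]; group
  have e2 : v' = u'⁻¹ * u * v := by
    calc v' = u'⁻¹ * (u' * v') := by group
      _ = _ := by rw [e1]; group
  have hvZ : v' ∈ zpowers x := by
    refine mem_x_of_cent H ht ha.1 (not_comm_of ha.1 ?_ ?_) hv' ?_
    · intro h1
      rcases Gm.line _ hq a haq' _ htq _ haq (Or.inl (nb_symm ht h1)) (Or.inl hat') with h3 | h3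
      · exact hno a ha.1 h3
      · exact hat h3
    · intro h1
      rw [h1] at hat'
      exact hno a ha.1 hat'
    · intro y hy
      rw [e2]
      refine (Commute.mul_left ?_ (qc_comm H hp ha u hu y hy)).mul_left (qc_comm H hsp.1 (nb_symm ha.1 hsa) v hv y hy)
      exact (qc_comm H hq haq' _ hu' y hy).inv_left
  have hvZ' : v ∈ zpowers x := mem_of_conj_mem hg hvZ
  have e3 : u' = u * (v * v'⁻¹) := by
    calc u' = (u' * v') * v'⁻¹ := by group
      _ = _ := by rw [e1]; group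
  have huZ : u' ∈ zpowers x := by
    refine mem_x_of_cent H hq hsp.1 (not_comm_of hsp.1 ?_ ?_) hu' ?_
    · intro h1
      rcases Gm.line a ha.1 p (nb_symm hp ha) s hsa _ hqa (Or.inl hsp) (Or.inl (nb_symm hq h1)) with h3 | h3
      · exact hno p hp h3
      · exact hpt h3
    · intro h1
      apply hno p hp
      rw [h1]
      exact hsp
    · intro y hy
      rw [e3]
      refine (qc_comm H hp hsp u hu y hy).mul_left ?_
      exact (es_all H hsp.1).cen _ (mul_mem hvZ' (inv_mem hvZ)) y hy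
  exact mul_mem (mem_of_conj_mem hg huZ) hvZ'

/-- **Case C**: in the other cases, every line through a moved class has a fixed class -/
theorem caseC (Gm : Geo D z) {g : X} (hno : NoA D g)
    (hB : ∀ p ∈ D, ∀ a ∈ Nb D p, ¬ Tw D p (g * p * g⁻¹) → g * p * g⁻¹ ∈ Nb D a → Tw D a (g * a * g⁻¹)) {p b : X}
    (hp : p ∈ D) (hpt : ¬ Tw D p (g * p * g⁻¹)) (hb : b ∈ Nb D p) :
    ∃ a ∈ Nb D p, (a ∈ Nb D b ∨ Tw D b a) ∧ Tw D a (g * a * g⁻¹) := by
  obtain ⟨a, ha, h1, h2⟩ := Gm.proj p hp b hb (g * p * g⁻¹) (H.ts.cj p hp g) (hno p hp) hpt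
  exact ⟨a, ha, h1, hB p hp a ha hpt h2⟩

end

end Cfsg.Agent.H597.OreFi
end

-- part: H597/OreFi/RankC
section
/-!
# Elements of the centralizer of `x` acting on `Q` (helper597), part C: five commuting fixed classes
-/

set_option autoImplicit false
set_option linter.unusedSectionVars false

namespace Cfsg.Agent.H597.OreFi

open Subgroup
open Cfsg.Agent.LThreeFi24.Comp Cfsg.Agent.LThreeFi24.Twin Cfsg.Agent.H841.Ext

variable {X : Type*} [Group X] {D : Set X} {x z : X} {d : Fin 5 → X}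

section

variable (H : Dat D x z d)

include H

/-! ### The action on `T0` -/

theorem un_T0 {t t' : X} (ht : t ∈ T0 D z) (ht' : t' ∈ T0 D z) (h : Tw D t t') : t = t' := by
  obtain ⟨k, hk, hkt⟩ := H.tr t ht.1 ht.2
  have h1 : Commute (k * t' * k⁻¹) z := (hk.mul_left ht'.2).mul_left hk.inv_left
  have h2 : Tw D (d 0) (k * t' * k⁻¹) := by
    rw [← hkt]
    exact h.conj H.ts k
  have h3 := H.un _ (H.ts.cj t' ht'.1 k) h1 h2
  have h4 : k * t' * k⁻¹ = k * t * k⁻¹ := by rw [h3, hkt]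
  exact (mul_left_cancel (mul_right_cancel h4)).symm

theorem exists_sg (g : X) : ∃ σ : ↥(T0 D z) → ↥(T0 D z), ∀ t : ↥(T0 D z), Tw D (g * (t : X) * g⁻¹) (σ t) := by
  have h : ∀ t : ↥(T0 D z), ∃ s : ↥(T0 D z), Tw D (g * (t : X) * g⁻¹) s := by
    intro t
    obtain ⟨s, hs, hsz, hts⟩ := H.tw _ (H.ts.cj _ t.2.1 g)
    exact ⟨⟨s, hs, hsz⟩, hts⟩
  choose σ hσ using h
  exact ⟨σ, hσ⟩

theorem exists_perm [Finite X] (g : X) : ∃ σ : Equiv.Perm ↥(T0 D z), ∀ t : ↥(T0 D z), Tw D (g * (t : X) * g⁻¹) (σ t) := by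
  obtain ⟨σ, hσ⟩ := exists_sg H g
  have hinj : Function.Injective σ := by
    intro t t' h
    have h1 : Tw D (g * (t : X) * g⁻¹) (g * (t' : X) * g⁻¹) := (hσ t).trans (h ▸ (hσ t').symm)
    have h2 := h1.conj H.ts g⁻¹
    have e : ∀ y : X, g⁻¹ * (g * y * g⁻¹) * g⁻¹⁻¹ = y := by intro y; group
    rw [e, e] at h2
    exact Subtype.ext (un_T0 H t.2 t'.2 h2)
  exact ⟨Equiv.ofBijective σ (Finite.injective_iff_bijective.1 hinj), hσ⟩

theorem pow_perm {g : X} {σ : Equiv.Perm ↥(T0 D z)} (hσ : ∀ t : ↥(T0 D z), Tw D (g * (t : X) * g⁻¹) (σ t)) (k : ℕ)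
    (t : ↥(T0 D z)) : Tw D (g ^ k * (t : X) * (g ^ k)⁻¹) ((σ ^ k) t) := by
  induction k with
  | zero =>
    rw [pow_zero, pow_zero, one_mul, inv_one, mul_one]
    exact Tw.refl _
  | succ k ih =>
    have h1 := ih.conj H.ts g
    have e1 : g * (g ^ k * (t : X) * (g ^ k)⁻¹) * g⁻¹ = g ^ (k + 1) * (t : X) * (g ^ (k + 1))⁻¹ := by
      rw [pow_succ']; group
    rw [e1] at h1
    have e2 : (σ ^ (k + 1)) t = σ ((σ ^ k) t) := by rw [pow_succ' σ, Equiv.Perm.mul_apply]
    rw [e2]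
    exact h1.trans (hσ _)

/-- **a fixed point outside the line** -/
theorem fixp [Finite X] (Gm : Geo D z) {g : X} {n : ℕ} (hn : g ^ 3 ^ n = 1) {e a : X} (he : e ∈ D)
    (het : Tw D e (g * e * g⁻¹)) (ha : a ∈ Nb D e) (hat : Tw D a (g * a * g⁻¹)) :
    ∃ p ∈ Nb D e, p ∉ Nb D a ∧ ¬ Tw D a p ∧ Tw D p (g * p * g⁻¹) := by
  obtain ⟨e0, he0, hez, hee⟩ := H.tw e he
  obtain ⟨a0, ha0, haz, haa⟩ := H.tw a ha.1
  obtain ⟨σ, hσ⟩ := exists_perm H g
  have ha1 : a0 ∈ Nb D e := nb_tw' he ha0 haa ha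
  have ha2 : a0 ∈ Nb D e0 := nb_tw hee ha1
  -- the set
  let S : Set ↥(T0 D z) := {t | (t : X) ∈ Nb D e0 ∧ ¬ ((t : X) = a0 ∨ (t : X) ∈ Nb D a0)}
  have hfe : Tw D e0 (g * e0 * g⁻¹) := (hee.symm.trans het).trans (hee.conj H.ts g)
  have hfa : Tw D a0 (g * a0 * g⁻¹) := (haa.symm.trans hat).trans (haa.conj H.ts g)
  have hS : ∀ t, t ∈ S → σ t ∈ S := by
    rintro t ⟨h1, h2⟩
    refine ⟨?_, ?_⟩
    · have h3 := nb_conj H.ts h1 g
      exact nb_tw' he0 (σ t).2.1 (hσ t) (nb_tw hfe.symm h3)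
    · rintro (h3 | h3)
      · apply h2
        left
        have h4 : Tw D (g * (t : X) * g⁻¹) (g * a0 * g⁻¹) := ((hσ t).trans (h3 ▸ Tw.refl _)).trans hfa
        have h5 := h4.conj H.ts g⁻¹
        have e : ∀ y : X, g⁻¹ * (g * y * g⁻¹) * g⁻¹⁻¹ = y := by intro y; group
        rw [e, e] at h5
        exact un_T0 H t.2 ⟨ha0, haz⟩ h5
      · apply h2
        right
        have h4 : g * (t : X) * g⁻¹ ∈ Nb D a0 := nb_tw' ha0 (H.ts.cj _ t.2.1 g) (hσ t).symm h3
        have h5 := nb_conj H.ts (nb_tw hfa h4) g⁻¹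
        have e : ∀ y : X, g⁻¹ * (g * y * g⁻¹) * g⁻¹⁻¹ = y := by intro y; group
        rwa [e, e] at h5
  have hScard : Nat.card S = 32 := by
    have h1 := Gm.cN e0 ⟨he0, hez⟩
    have h2 := Gm.cL e0 ⟨he0, hez⟩ a0 ⟨ha2, ha0, haz⟩
    have h3 : Subtype.val '' S = (Nb D e0 ∩ T0 D z) \ {a | a ∈ Nb D e0 ∩ T0 D z ∧ (a = a0 ∨ a ∈ Nb D a0)} := by
      ext y
      constructor
      · rintro ⟨t, ⟨h3, h4⟩, rfl⟩
        exact ⟨⟨h3, t.2⟩, fun h5 => h4 h5.2⟩
      · rintro ⟨⟨h3, h4⟩, h5⟩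
        exact ⟨⟨y, h4⟩, ⟨h3, fun h6 => h5 ⟨⟨h3, h4⟩, h6⟩⟩, rfl⟩
    rw [Nat.card_coe_set_eq, ← Set.ncard_image_of_injective S Subtype.val_injective, h3, Set.ncard_sdiff]
    · rw [h1, h2]
    · exact fun y hy => hy.1
  have hpow : σ ^ 3 ^ n = 1 := by
    ext1 t
    have h1 := pow_perm H hσ (3 ^ n) t
    rw [hn, one_mul, inv_one, mul_one] at h1
    rw [Equiv.Perm.one_apply]
    exact Subtype.ext (un_T0 H (Subtype.coe_prop _) t.2 h1.symm)
  have : Fact (Nat.Prime 3) := ⟨Nat.prime_three⟩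
  have hfin : Fintype S := Fintype.ofFinite _
  have hiff : ∀ t, t ∈ S ↔ σ t ∈ S := by
    intro t
    constructor
    · exact hS t
    · intro h1
      have h2 : ∀ k : ℕ, (σ ^ k) (σ t) ∈ S := by
        intro k
        induction k with
        | zero => exact h1
        | succ k ih =>
          rw [pow_succ', Equiv.Perm.mul_apply]
          exact hS _ ih
      have h3 := h2 (3 ^ n - 1)
      have h4 : (σ ^ (3 ^ n - 1)) (σ t) = t := by
        rw [← Equiv.Perm.mul_apply, ← pow_succ, Nat.sub_add_cancel (Nat.one_le_pow _ _ (by norm_num)), hpow]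
        rfl
      rwa [h4] at h3
  let τ : Equiv.Perm S := σ.subtypePerm fun t => (hiff t).symm
  have hτ : τ ^ 3 ^ n = 1 := by
    ext1 t
    apply Subtype.ext
    have h1 : ∀ k : ℕ, (((τ ^ k) t : S) : ↥(T0 D z)) = (σ ^ k) t := by
      intro k
      induction k with
      | zero => rfl
      | succ k ih =>
        rw [pow_succ', pow_succ', Equiv.Perm.mul_apply, Equiv.Perm.mul_apply, ← ih]
        rfl
    rw [h1, hpow]
    rfl
  obtain ⟨t, ht⟩ := Equiv.Perm.exists_fixed_point_of_prime (p := 3) (n := n) (by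
    rw [← Nat.card_eq_fintype_card, hScard]
    norm_num) hτ
  have ht' : σ t = t := congrArg Subtype.val ht
  obtain ⟨h1, h2⟩ := t.2
  have h3 : ((t : ↥(T0 D z)) : X) ∈ Nb D e := nb_tw hee.symm h1
  refine ⟨((t : ↥(T0 D z)) : X), h3, ?_, ?_, ?_⟩
  · intro h4
    exact h2 (Or.inr (nb_tw haa h4))
  · intro h4
    apply h2
    left
    exact un_T0 H (t : ↥(T0 D z)).2 ⟨ha0, haz⟩ (h4.symm.trans haa)
  · have h4 := hσ t
    rw [ht'] at h4
    exact h4.symm

end

end Cfsg.Agent.H597.OreFi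
end

-- part: H597/OreFi/RankD
section
/-!
# Elements of the centralizer of `x` acting on `Q` (helper597), part D: two commuting fixed classes
-/

set_option autoImplicit false
set_option linter.unusedSectionVars false

namespace Cfsg.Agent.H597.OreFi

open Subgroup
open Cfsg.Agent.LThreeFi24.Comp Cfsg.Agent.LThreeFi24.Twin Cfsg.Agent.H841.Ext

variable {X : Type*} [Group X] {D : Set X} {x z : X} {d : Fin 5 → X}

/-- `g` centralizes `Qc D e` modulo `⟨x⟩` -/
def Triv (D : Set X) (x g e : X) : Prop := ∀ w ∈ Qc D e, g * w * g⁻¹ * w⁻¹ ∈ zpowers x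

/-- the stage of the construction of a group without fixed elements -/
structure Stg (x g : X) (P Hl : Subgroup X) (m : ℕ) : Prop where
  es : ES (zpowers x) Hl
  zle : zpowers x ≤ P
  ple : P ≤ Hl
  cj : ∀ y ∈ Hl, g * y * g⁻¹ ∈ Hl
  card : Nat.card P = 3 ^ m
  fix : ∀ y ∈ P, g * y * g⁻¹ = y → y ∈ zpowers x

theorem Stg.start {g : X} (hx : Nat.card (zpowers x) = 3) (hg : Commute g x) :
    Stg x g (zpowers x) (zpowers x) 1 where
  es :=
    { le := le_rfl
      cen := by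
        rintro _ ⟨i, rfl⟩ _ ⟨j, rfl⟩
        exact ((Commute.refl x).zpow_left i).zpow_right j
      com := by
        rintro _ ⟨i, rfl⟩ _ ⟨j, rfl⟩
        exact mul_mem (mul_mem (mul_mem ⟨i, rfl⟩ ⟨j, rfl⟩) (inv_mem ⟨i, rfl⟩)) (inv_mem ⟨j, rfl⟩)
      cub := by
        intro y hy
        have h1 := pow_card_eq_one' (G := zpowers x) (x := ⟨y, hy⟩)
        rw [hx] at h1
        exact congrArg Subtype.val h1
      nd := fun y hy _ => hy }
  zle := le_rfl
  ple := le_rfl
  cj := by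
    intro y hy
    rwa [(comm_zp hg hy).eq, mul_inv_cancel_right]
  card := by rw [hx, pow_one]
  fix := fun y hy _ => hy

theorem Stg.step [Finite X] {g : X} {P Hl R : Subgroup X} {m : ℕ} (h : Stg x g P Hl m) (hR : ES (zpowers x) R)
    (hcm : ∀ a ∈ Hl, ∀ b ∈ R, Commute a b) (hcj : ∀ y ∈ R, g * y * g⁻¹ ∈ R) {w : X} (hw : w ∈ R)
    (hgw : g * w * g⁻¹ * w⁻¹ ∉ zpowers x) : Stg x g (P ⊔ zpowers w) (Hl ⊔ R) (m + 1) := by
  have hwR : zpowers w ≤ R := by rw [zpowers_le]; exact hw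
  have w3 : w ^ 3 = 1 := hR.cub w hw
  have hw1 : w ≠ 1 := by
    rintro rfl
    apply hgw
    have : g * 1 * g⁻¹ * 1⁻¹ = 1 := by group
    rw [this]
    exact one_mem _
  have hcm' : ∀ a ∈ P, ∀ b ∈ zpowers w, Commute a b := fun a ha b hb => hcm a (h.ple ha) b (hwR hb)
  -- powers of `w`
  have hpw : ∀ y ∈ zpowers w, y ≠ 1 → g * y * g⁻¹ * y⁻¹ ∉ zpowers x := by
    intro y hy hy1 hyx
    have h1 : y = w ∨ y = w⁻¹ := by
      obtain ⟨k, rfl⟩ := hy
      have h2 : k % 3 = 0 ∨ k % 3 = 1 ∨ k % 3 = 2 := by omega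
      have h3 : w ^ (3 : ℤ) = 1 := by rw [zpow_ofNat]; exact w3
      have h4 : w ^ k = w ^ (k % 3) := by
        conv_lhs => rw [← Int.emod_add_mul_ediv k 3, zpow_add, zpow_mul, h3, one_zpow, mul_one]
      rcases h2 with h2 | h2 | h2
      · exact absurd (by show w ^ k = 1; rw [h4, h2, zpow_zero]) hy1
      · left
        show w ^ k = w
        rw [h4, h2, zpow_one]
      · right
        show w ^ k = w⁻¹
        rw [h4, h2, eq_inv_iff_mul_eq_one, ← zpow_add_one]
        exact h3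
    rcases h1 with rfl | rfl
    · exact hgw hyx
    · apply hgw
      have h2 : g * w * g⁻¹ * w⁻¹ = w * (g * w⁻¹ * g⁻¹ * w⁻¹⁻¹)⁻¹ * w⁻¹ := by group
      rw [h2, ← (hR.cen _ (inv_mem hyx) w hw).eq, mul_inv_cancel_right]
      exact inv_mem hyx
  have hZR : ∀ y ∈ zpowers w, y ∈ zpowers x → y = 1 := by
    intro y hy hyx
    by_contra hy1
    apply hpw y hy hy1
    have h1 : g * y * g⁻¹ ∈ zpowers x := by
      have h2 := h.cj y (h.es.le hyx)
      have h3 := hcj y (hR.le hyx)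
      have h4 : g * y * g⁻¹ ∈ Hl ⊓ R := ⟨h2, h3⟩
      rwa [h.es.inf hR hcm] at h4
    exact mul_mem h1 (inv_mem hyx)
  have hinf : P ⊓ zpowers w = ⊥ := by
    rw [eq_bot_iff]
    rintro y ⟨h1, h2⟩
    rw [Subgroup.mem_bot]
    apply hZR y h2
    have h4 : y ∈ Hl ⊓ R := ⟨h.ple h1, hwR h2⟩
    rwa [h.es.inf hR hcm] at h4
  refine ⟨h.es.sup hR hcm, h.zle.trans le_sup_left, sup_le_sup h.ple hwR, ?_, ?_, ?_⟩
  · intro y hy
    obtain ⟨a, ha, b, hb, rfl⟩ := (mem_sup_of_comm hcm).1 hy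
    have e1 : g * (a * b) * g⁻¹ = (g * a * g⁻¹) * (g * b * g⁻¹) := by group
    rw [e1]
    exact mul_mem (Subgroup.mem_sup_left (h.cj a ha)) (Subgroup.mem_sup_right (hcj b hb))
  · have h1 := card_sup_of_comm hcm'
    have : Fact (Nat.Prime 3) := ⟨Nat.prime_three⟩
    rw [hinf, Subgroup.card_bot, mul_one, h.card, Nat.card_zpowers, orderOf_eq_prime w3 hw1] at h1
    rw [h1, pow_succ]
  · intro y hy hgy
    obtain ⟨a, ha, b, hb, rfl⟩ := (mem_sup_of_comm hcm').1 hy
    have ga := h.cj a (h.ple ha)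
    have gb := hcj b (hwR hb)
    have e1 : (g * a * g⁻¹) * (g * b * g⁻¹) = a * b := by
      calc (g * a * g⁻¹) * (g * b * g⁻¹) = g * (a * b) * g⁻¹ := by group
        _ = _ := hgy
    have e2 : a⁻¹ * (g * a * g⁻¹) = b * (g * b * g⁻¹)⁻¹ := by
      calc a⁻¹ * (g * a * g⁻¹) = a⁻¹ * ((g * a * g⁻¹) * (g * b * g⁻¹)) * (g * b * g⁻¹)⁻¹ := by group
        _ = _ := by rw [e1]; group
    have h3 : b * (g * b * g⁻¹)⁻¹ ∈ zpowers x := by
      have h4 : b * (g * b * g⁻¹)⁻¹ ∈ Hl ⊓ R := by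
        refine Subgroup.mem_inf.2 ⟨?_, mul_mem (hwR hb) (inv_mem gb)⟩
        rw [← e2]
        exact mul_mem (inv_mem (h.ple ha)) ga
      rwa [h.es.inf hR hcm] at h4
    have h4 : b = 1 := by
      by_contra hb1
      apply hpw b hb hb1
      have h5 := inv_mem h3
      rwa [mul_inv_rev, inv_inv] at h5
    subst h4
    rw [mul_one] at hgy ⊢
    exact h.fix a ha hgy

section

variable (H : Dat D x z d)

include H

theorem qc_cj {g e : X} (he : e ∈ D) (het : Tw D e (g * e * g⁻¹)) : ∀ y ∈ Qc D e, g * y * g⁻¹ ∈ Qc D e := by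
  intro y hy
  have h1 := conj_mem_Qc H.ts (g := g) hy
  rwa [← Qc_eq H.ts he (H.ts.cj e he g) het] at h1

/-- commutators with elements centralized modulo `⟨x⟩` -/
theorem comm_of_triv [Finite X] (hc : Nat.card (Qc D (d 0)) = 27) (hx : Nat.card (zpowers x) = 3) {g e w' : X}
    (hg : Commute g x) (he : e ∈ D) (hT : Triv D x g e) (hw' : w' ∈ QQ D) :
    ∀ w ∈ Qc D e, Commute (g * w' * g⁻¹ * w'⁻¹) w := by
  intro w hw
  have E := (H.es_card hc hx).1
  have hwQ : w ∈ QQ D := Qc_le he hw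
  have hn := H.normal_Q
  have hk := hT w hw
  set k := g * w * g⁻¹ * w⁻¹ with hkd
  set v := g * w' * g⁻¹ * w'⁻¹ with hvd
  have hv : v ∈ QQ D := mul_mem (hn.conj_mem w' hw' g) (inv_mem hw')
  have hcz := E.com w hwQ w' hw'
  set c := w * w' * w⁻¹ * w'⁻¹ with hcd
  have e1 : g * c * g⁻¹ = c := by rw [(comm_zp hg hcz).eq, mul_inv_cancel_right]
  have gw : g * w * g⁻¹ = k * w := by rw [hkd]; group
  have gw' : g * w' * g⁻¹ = v * w' := by rw [hvd]; group
  have e2 : g * c * g⁻¹ = (k * w) * (v * w') * (k * w)⁻¹ * (v * w')⁻¹ := by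
    rw [← gw, ← gw', hcd]; group
  rw [e1] at e2
  have kc := (E.cen k hk _ (mul_mem (mul_mem (mul_mem hwQ hv) hw') (inv_mem hwQ))).eq
  have e3 : c = (w * v * w' * w⁻¹) * w'⁻¹ * v⁻¹ := by
    rw [e2]
    calc (k * w) * (v * w') * (k * w)⁻¹ * (v * w')⁻¹ = (k * (w * v * w' * w⁻¹)) * k⁻¹ * w'⁻¹ * v⁻¹ := by group
      _ = (w * v * w' * w⁻¹) * w'⁻¹ * v⁻¹ := by rw [kc]; group
  have vc := (E.cen c hcz v hv).eq
  -- `w' w⁻¹ w'⁻¹ = w⁻¹ c`
  have e4 : w' * w⁻¹ * w'⁻¹ = w⁻¹ * c := by rw [hcd]; group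
  have e5 : v * (w⁻¹ * c) = (w⁻¹ * c) * v := by
    rw [← e4]
    calc v * (w' * w⁻¹ * w'⁻¹) = w⁻¹ * ((w * v * w' * w⁻¹) * w'⁻¹ * v⁻¹) * v := by group
      _ = w⁻¹ * c * v := by rw [← e3]
      _ = (w' * w⁻¹ * w'⁻¹) * v := by rw [e4]
  have e6 : Commute v w⁻¹ := by
    have h1 : Commute v (w⁻¹ * c) := e5
    have h2 : Commute v c⁻¹ := (show Commute v c from vc.symm).inv_right
    have h3 := h1.mul_right h2
    rwa [mul_inv_cancel_right] at h3
  have h7 := e6.inv_right
  rwa [inv_inv] at h7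

/-- transfer to a fixed class which does not commute -/
theorem triv_of [Finite X] (hc : Nat.card (Qc D (d 0)) = 27) (hx : Nat.card (zpowers x) = 3) {g e e' : X}
    (hg : Commute g x) (he : e ∈ D) (hT : Triv D x g e) (he' : e' ∈ D) (het' : Tw D e' (g * e' * g⁻¹))
    (hn : ¬ Commute e' e) : Triv D x g e' := by
  intro w' hw'
  refine mem_x_of_cent H he' he hn (mul_mem (qc_cj H he' het' w' hw') (inv_mem hw')) ?_
  exact comm_of_triv H hc hx hg he hT (Qc_le he' hw')

omit H in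
/-- five commuting classes -/
theorem exists_frame (Gm : Geo D z) {e a : X} (he : e ∈ D) (ha : a ∈ Nb D e) :
    ∃ p : Fin 5 → X, p 0 = e ∧ p 1 = a ∧ (∀ i, p i ∈ D) ∧ ∀ i j, i ≠ j → p j ∈ Nb D (p i) := by
  obtain ⟨b, c, f, h1, h2, h3, h4, h5, h6, h7, h8, h9⟩ := Gm.five e he a ha
  refine ⟨![e, a, b, c, f], rfl, rfl, ?_, ?_⟩
  · intro i
    fin_cases i
    exacts [he, ha.1, h1.1, h2.1, h3.1]
  · have s := fun {u v : X} (hu : u ∈ D) (h : v ∈ Nb D u) => nb_symm hu h
    intro i j hij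
    fin_cases i <;> fin_cases j
    all_goals first
      | exact absurd rfl hij
      | assumption
      | exact s he ha
      | exact s he h1
      | exact s he h2
      | exact s he h3
      | exact s ha.1 h4
      | exact s ha.1 h5
      | exact s ha.1 h6
      | exact s h1.1 h7
      | exact s h1.1 h8
      | exact s h2.1 h9

/-- five commuting classes generate `Q` -/
theorem sup_frame [Finite X] (hc : Nat.card (Qc D (d 0)) = 27) (hx : Nat.card (zpowers x) = 3) {p : Fin 5 → X}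
    (hp : ∀ i, p i ∈ D) (hpp : ∀ i j, i ≠ j → p j ∈ Nb D (p i)) :
    QQ D = Qc D (p 0) ⊔ Qc D (p 1) ⊔ Qc D (p 2) ⊔ Qc D (p 3) ⊔ Qc D (p 4) := by
  have hcom : ∀ i j, i ≠ j → ∀ g ∈ Qc D (p i), ∀ r ∈ Qc D (p j), Commute g r := fun i j hij g hg r hr =>
    comm_Qc_Qc (hp i) (hpp i j hij) hg hr
  have csup : ∀ {A B C : Subgroup X}, (∀ g ∈ A, ∀ r ∈ C, Commute g r) → (∀ g ∈ B, ∀ r ∈ C, Commute g r) →
      (∀ g ∈ A ⊔ B, ∀ r ∈ C, Commute g r) := by
    intro A B C h1 h2 g hg r hr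
    have h3 : A ⊔ B ≤ Subgroup.centralizer ({r} : Set X) := by
      apply sup_le
      · intro a ha
        rw [Subgroup.mem_centralizer_singleton_iff]
        exact (h1 a ha r hr).eq
      · intro a ha
        rw [Subgroup.mem_centralizer_singleton_iff]
        exact (h2 a ha r hr).eq
    exact Subgroup.mem_centralizer_singleton_iff.1 (h3 hg)
  have k1 := hcom 0 1 (by decide)
  have k2 := csup (hcom 0 2 (by decide)) (hcom 1 2 (by decide))
  have k3 := csup (csup (hcom 0 3 (by decide)) (hcom 1 3 (by decide))) (hcom 2 3 (by decide))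
  have k4 := csup (csup (csup (hcom 0 4 (by decide)) (hcom 1 4 (by decide))) (hcom 2 4 (by decide))) (hcom 3 4 (by decide))
  have E := fun i => es_all H (hp i)
  have e1 := (E 0).sup (E 1) k1
  have e2 := e1.sup (E 2) k2
  have e3 := e2.sup (E 3) k3
  have c1 := (E 0).card_sup (E 1) k1
  have c2 := e1.card_sup (E 2) k2
  have c3 := e2.card_sup (E 3) k3
  have c4 := e3.card_sup (E 4) k4
  rw [hx, card_all H (hp 0), card_all H (hp 1), hc] at c1
  rw [hx, card_all H (hp 2), hc] at c2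
  rw [hx, card_all H (hp 3), hc] at c3
  rw [hx, card_all H (hp 4), hc] at c4
  symm
  refine Subgroup.eq_of_le_of_card_ge ?_ ?_
  · exact sup_le (sup_le (sup_le (sup_le (Qc_le (hp 0)) (Qc_le (hp 1))) (Qc_le (hp 2))) (Qc_le (hp 3))) (Qc_le (hp 4))
  · rw [(H.es_card hc hx).2]
    omega

/-- an element acting trivially on `Q` modulo `⟨x⟩` fixes all classes -/
theorem tw_of_triv [Finite X] (hc : Nat.card (Qc D (d 0)) = 27) (hx : Nat.card (zpowers x) = 3) {g p : X}
    (hno : NoA D g) (h : ∀ w ∈ QQ D, g * w * g⁻¹ * w⁻¹ ∈ zpowers x) (hp : p ∈ D) : Tw D p (g * p * g⁻¹) := by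
  have hq : g * p * g⁻¹ ∈ D := H.ts.cj p hp g
  have h1 : ∀ y ∈ Qc D (g * p * g⁻¹), y ∈ Qc D p := by
    intro y hy
    rw [← Qc_conj H.ts] at hy
    obtain ⟨w, hw, rfl⟩ := hy
    have h2 := (es_all H hp).le (h w (Qc_le hp hw))
    have h3 := mul_mem h2 hw
    rw [inv_mul_cancel_right] at h3
    exact h3
  have h1' : ∀ y ∈ Qc D p, y ∈ Qc D (g * p * g⁻¹) := by
    intro y hy
    have h2 := (es_all H hq).le (h y (Qc_le hp hy))
    have h3 := conj_mem_Qc H.ts (g := g) hy
    have h4 := mul_mem (inv_mem h2) h3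
    have e : (g * y * g⁻¹ * y⁻¹)⁻¹ * (g * y * g⁻¹) = y := by group
    rwa [e] at h4
  have big : ∀ {r : X}, r ∈ D → ¬ Qc D r ≤ zpowers x := by
    intro r hr hle
    have h2 := Subgroup.card_le_of_le hle
    rw [card_all H hr, hc, hx] at h2
    omega
  by_contra hcon
  have h2 : ¬ (∀ u, u ∈ Nb D p ↔ u ∈ Nb D (g * p * g⁻¹)) := fun h3 => hcon (Set.ext h3)
  push Not at h2
  obtain ⟨u, ⟨h3, h4⟩ | ⟨h3, h4⟩⟩ := h2
  · apply big hq
    intro y hy
    refine mem_x_of_cent H hq h3.1 (not_comm_of h3.1 h4 ?_) hy ?_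
    · intro h5
      rw [← h5] at h3
      exact hno p hp h3
    · intro v hv
      exact comm_Qc_Qc hp h3 (h1 y hy) hv
  · apply big hp
    intro y hy
    refine mem_x_of_cent H hp h4.1 (not_comm_of h4.1 h3 ?_) hy ?_
    · intro h5
      rw [← h5] at h4
      exact hno p hp (nb_symm hq h4)
    · intro v hv
      exact comm_Qc_Qc hq h4 (h1' y hy) hv

/-- **Case C, two commuting fixed classes** -/
theorem caseC1 [Finite X] (Gm : Geo D z) (hc : Nat.card (Qc D (d 0)) = 27) (hx : Nat.card (zpowers x) = 3) {g : X}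
    (hg : Commute g x) {n : ℕ} (hn : g ^ 3 ^ n = 1) (hno : NoA D g) {p0 : X} (hp0 : p0 ∈ D)
    (hpt0 : ¬ Tw D p0 (g * p0 * g⁻¹)) {e a : X} (he : e ∈ D) (het : Tw D e (g * e * g⁻¹)) (ha : a ∈ Nb D e)
    (hat : Tw D a (g * a * g⁻¹)) : Nat.card ↥(centralizer ({g} : Set X) ⊓ QQ D) ≤ 3 ^ 7 := by
  obtain ⟨p, hpe, hpa, hp, hpp⟩ := exists_frame Gm he ha
  have hQ := sup_frame H hc hx hp hpp
  -- all are fixed
  have hfix : ∀ i, Tw D (p i) (g * p i * g⁻¹) := by
    intro i
    by_cases h0 : i = 0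
    · subst h0; rwa [hpe]
    by_cases h1 : i = 1
    · subst h1; rwa [hpa]
    have h2 : p i ∈ Nb D e := by rw [← hpe]; exact hpp 0 i (Ne.symm h0)
    have h3 : p i ∈ Nb D a := by rw [← hpa]; exact hpp 1 i (Ne.symm h1)
    have h4 : g * p i * g⁻¹ ∈ Nb D e := nb_tw het.symm (nb_conj H.ts h2 g)
    have h5 : g * p i * g⁻¹ ∈ Nb D a := nb_tw hat.symm (nb_conj H.ts h3 g)
    rcases Gm.line e he (p i) h2 a ha _ h4 (Or.inl (nb_symm ha.1 h3)) (Or.inl h5) with h6 | h6
    · exact absurd h6 (hno _ (hp i))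
    · exact h6
  -- fixed points outside the line
  have hout : ∀ j : Fin 5, ∃ q ∈ D, Tw D q (g * q * g⁻¹) ∧ ∀ k, k ≠ j → ¬ Commute q (p k) ∧ ¬ Commute (p k) q := by
    intro j
    obtain ⟨k0, hk0⟩ : ∃ k : Fin 5, j ≠ k := ⟨j + 1, by fin_cases j <;> decide⟩
    obtain ⟨q, hq, hqa, hqt, hqf⟩ := fixp H Gm hn (hp j) (hfix j) (hpp j k0 hk0) (hfix k0)
    refine ⟨q, hq.1, hqf, ?_⟩
    intro k hk
    have h1 : ¬ Commute (p k) q := by
      intro h2
      have h3 : q ≠ p k := by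
        rintro rfl
        by_cases h4 : k = k0
        · subst h4
          exact hqt (Tw.refl _)
        · exact hqa (hpp k0 k (Ne.symm h4))
      have h4 : q ∈ Nb D (p k) := ⟨hq.1, h3, h2⟩
      by_cases h5 : k = k0
      · subst h5
        exact hqa h4
      · rcases Gm.line (p j) (hp j) (p k0) (hpp j k0 hk0) (p k) (hpp j k (Ne.symm hk)) q hq
          (Or.inl (hpp k0 k (Ne.symm h5))) (Or.inl h4) with h6 | h6
        · exact hqa h6
        · exact hqt h6
    exact ⟨fun h => h1 h.symm, h1⟩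
  -- no class is centralized
  have hnt : ∀ i, ¬ Triv D x g (p i) := by
    intro i hi
    have hstep : ∀ j, j ≠ i → ∀ k, k ≠ j → Triv D x g (p k) := by
      intro j hj k hk
      obtain ⟨q, hq, hqf, hqn⟩ := hout j
      have h1 : Triv D x g q := triv_of H hc hx hg (hp i) hi hq hqf (hqn i (Ne.symm hj)).1
      exact triv_of H hc hx hg hq h1 (hp k) (hfix k) (hqn k hk).2
    have hall : ∀ k, Triv D x g (p k) := by
      intro k
      by_cases hk : k = i
      · subst hk; exact hi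
      · obtain ⟨j, hj1, hj2⟩ : ∃ j : Fin 5, j ≠ i ∧ k ≠ j := by
          revert i k
          intro i _ _ k _
          have : ∀ i k : Fin 5, ∃ j : Fin 5, j ≠ i ∧ k ≠ j := by decide
          exact this i k
        exact hstep j hj1 k hj2
    apply hpt0
    refine tw_of_triv H hc hx hno ?_ hp0
    intro w hw
    have E := (H.es_card hc hx).1
    have hnQ := H.normal_Q
    apply E.nd _ (mul_mem (hnQ.conj_mem w hw g) (inv_mem hw))
    intro y hy
    have hk : ∀ k, Qc D (p k) ≤ Subgroup.centralizer ({g * w * g⁻¹ * w⁻¹} : Set X) := by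
      intro k u hu
      rw [Subgroup.mem_centralizer_singleton_iff]
      exact (comm_of_triv H hc hx hg (hp k) (hall k) hw u hu).symm.eq
    have h2 : QQ D ≤ Subgroup.centralizer ({g * w * g⁻¹ * w⁻¹} : Set X) := by
      rw [hQ]
      exact sup_le (sup_le (sup_le (sup_le (hk 0) (hk 1)) (hk 2)) (hk 3)) (hk 4)
    exact (show Commute y _ from Subgroup.mem_centralizer_singleton_iff.1 (h2 hy)).symm
  have hw : ∀ i, ∃ w ∈ Qc D (p i), g * w * g⁻¹ * w⁻¹ ∉ zpowers x := by
    intro i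
    have h1 := hnt i
    unfold Triv at h1
    push Not at h1
    exact h1
  choose w hw hwn using hw
  have hcom : ∀ i j, i ≠ j → ∀ g ∈ Qc D (p i), ∀ r ∈ Qc D (p j), Commute g r := fun i j hij g hg r hr =>
    comm_Qc_Qc (hp i) (hpp i j hij) hg hr
  have csup : ∀ {A B C : Subgroup X}, (∀ g ∈ A, ∀ r ∈ C, Commute g r) → (∀ g ∈ B, ∀ r ∈ C, Commute g r) →
      (∀ g ∈ A ⊔ B, ∀ r ∈ C, Commute g r) := by
    intro A B C h1 h2 g hg r hr
    have h3 : A ⊔ B ≤ Subgroup.centralizer ({r} : Set X) := by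
      apply sup_le
      · intro a ha
        rw [Subgroup.mem_centralizer_singleton_iff]
        exact (h1 a ha r hr).eq
      · intro a ha
        rw [Subgroup.mem_centralizer_singleton_iff]
        exact (h2 a ha r hr).eq
    exact Subgroup.mem_centralizer_singleton_iff.1 (h3 hg)
  have hZ : ∀ i, ∀ g ∈ zpowers x, ∀ r ∈ Qc D (p i), Commute g r := fun i => (es_all H (hp i)).cen
  have s0 := Stg.start hx hg
  have s1 := s0.step (es_all H (hp 0)) (hZ 0) (qc_cj H (hp 0) (hfix 0)) (hw 0) (hwn 0)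
  have s2 := s1.step (es_all H (hp 1)) (csup (hZ 1) (hcom 0 1 (by decide))) (qc_cj H (hp 1) (hfix 1)) (hw 1) (hwn 1)
  have s3 := s2.step (es_all H (hp 2)) (csup (csup (hZ 2) (hcom 0 2 (by decide))) (hcom 1 2 (by decide)))
    (qc_cj H (hp 2) (hfix 2)) (hw 2) (hwn 2)
  have s4 := s3.step (es_all H (hp 3)) (csup (csup (csup (hZ 3) (hcom 0 3 (by decide))) (hcom 1 3 (by decide)))
    (hcom 2 3 (by decide))) (qc_cj H (hp 3) (hfix 3)) (hw 3) (hwn 3)
  refine card_of_inf (Q := QQ D) (s4.ple.trans ?_) s4.card (H.es_card hc hx).2 hx s4.fix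
  have hle : ∀ i, Qc D (p i) ≤ QQ D := fun i => Qc_le (hp i)
  exact sup_le (sup_le (sup_le (sup_le ((es_all H (hp 0)).le.trans (hle 0)) (hle 0)) (hle 1)) (hle 2)) (hle 3)

end

end Cfsg.Agent.H597.OreFi
end

-- part: H597/OreFi/RankE
section
/-!
# Elements of the centralizer of `x` acting on `Q` (helper597), part E: the main result

* `rank` : a 3-element `g` commuting with `x` and moving a class: `|C_Q(g)| ≤ 3^7`.
-/

set_option autoImplicit false
set_option linter.unusedSectionVars false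

namespace Cfsg.Agent.H597.OreFi

open Subgroup
open Cfsg.Agent.LThreeFi24.Comp Cfsg.Agent.LThreeFi24.Twin Cfsg.Agent.H841.Ext Cfsg.Agent.Fischer.Hall

/-! ### Counting -/

section
open Finset
open scoped Classical in
theorem count {V : Type*} [Fintype V] {A : V → V → Prop} (hs : ∀ s t, A s t → A t s)
    (hV : Fintype.card V = 165) (hN : ∀ s, (univ.filter fun t => A s t).card = 36)
    (hL : ∀ s q, A s q → (univ.filter fun a => A s a ∧ (a = q ∨ A q a)).card = 4) {F : V → Prop}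
    (hex : ∀ s, ¬ F s → ∀ a, A s a → ∃ q, A s q ∧ (q = a ∨ A a q) ∧ F q)
    (hun : ∀ s, ¬ F s → ∀ a q q', A s a → A s q → (q = a ∨ A a q) → F q → A s q' → (q' = a ∨ A a q') → F q' → q = q')
    (hF : ∀ q a, F q → A q a → ¬ F a) : (univ.filter fun t => F t).card = 33 := by
  -- the fixed neighbours of a moved point
  have h9 : ∀ s, ¬ F s → (univ.filter fun q => A s q ∧ F q).card = 9 := by
    intro s hsF
    have h1 := Finset.sum_card_bipartiteAbove_eq_sum_card_bipartiteBelow (s := univ.filter fun a => A s a)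
      (t := univ.filter fun q => A s q ∧ F q) (fun a q => q = a ∨ A a q)
    have h2 : ∀ a ∈ univ.filter (fun a => A s a), ((univ.filter fun q => A s q ∧ F q).bipartiteAbove
        (fun a q => q = a ∨ A a q) a).card = 1 := by
      intro a ha
      rw [mem_filter] at ha
      obtain ⟨q, h3, h4, h5⟩ := hex s hsF a ha.2
      rw [Finset.card_eq_one]
      refine ⟨q, ?_⟩
      ext q'
      rw [mem_bipartiteAbove, mem_filter, mem_singleton]
      constructor
      · rintro ⟨⟨-, h6, h7⟩, h8⟩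
        exact hun s hsF a q' q ha.2 h6 h8 h7 h3 h4 h5
      · rintro rfl
        exact ⟨⟨mem_univ _, h3, h5⟩, h4⟩
    have h3 : ∀ q ∈ univ.filter (fun q => A s q ∧ F q), ((univ.filter fun a => A s a).bipartiteBelow
        (fun a q => q = a ∨ A a q) q).card = 4 := by
      intro q hq
      rw [mem_filter] at hq
      rw [← hL s q hq.2.1]
      congr 1
      ext a
      rw [mem_bipartiteBelow, mem_filter, mem_filter]
      constructor
      · rintro ⟨⟨-, h4⟩, h5 | h5⟩
        · exact ⟨mem_univ _, h4, Or.inl h5.symm⟩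
        · exact ⟨mem_univ _, h4, Or.inr (hs _ _ h5)⟩
      · rintro ⟨-, h4, h5 | h5⟩
        · exact ⟨⟨mem_univ _, h4⟩, Or.inl h5.symm⟩
        · exact ⟨⟨mem_univ _, h4⟩, Or.inr (hs _ _ h5)⟩
    rw [Finset.sum_congr rfl h2, Finset.sum_congr rfl h3, Finset.sum_const, Finset.sum_const, hN] at h1
    simp only [smul_eq_mul] at h1
    omega
  have h1 := Finset.sum_card_bipartiteAbove_eq_sum_card_bipartiteBelow (s := univ.filter fun t => F t)
    (t := univ.filter fun t => ¬ F t) (fun q s => A q s)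
  have h2 : ∀ q ∈ univ.filter (fun t => F t), ((univ.filter fun t => ¬ F t).bipartiteAbove
      (fun q s => A q s) q).card = 36 := by
    intro q hq
    rw [mem_filter] at hq
    rw [← hN q]
    congr 1
    ext t
    rw [mem_bipartiteAbove, mem_filter, mem_filter]
    exact ⟨fun h => ⟨mem_univ _, h.2⟩, fun h => ⟨⟨mem_univ _, hF q t hq.2 h.2⟩, h.2⟩⟩
  have h3 : ∀ s ∈ univ.filter (fun t => ¬ F t), ((univ.filter fun t => F t).bipartiteBelow
      (fun q s => A q s) s).card = 9 := by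
    intro s hs'
    rw [mem_filter] at hs'
    rw [← h9 s hs'.2]
    congr 1
    ext t
    rw [mem_bipartiteBelow, mem_filter, mem_filter]
    exact ⟨fun h => ⟨mem_univ _, hs _ _ h.2, h.1.2⟩, fun h => ⟨⟨mem_univ _, h.2.2⟩, hs _ _ h.2.1⟩⟩
  rw [Finset.sum_congr rfl h2, Finset.sum_congr rfl h3, Finset.sum_const, Finset.sum_const] at h1
  simp only [smul_eq_mul] at h1
  have h4 : (univ.filter fun t => F t).card + (univ.filter fun t => ¬ F t).card = 165 := by
    rw [← hV, Finset.card_filter_add_card_filter_not]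
    rfl
  omega

end

universe u

variable {X : Type u} [Group X] {D : Set X} {x z : X} {d : Fin 5 → X}

section

variable (H : Dat D x z d)

include H

/-- the classes fixed by `g` -/
def DF (D : Set X) (g : X) : Set X := {e | e ∈ D ∧ Tw D e (g * e * g⁻¹)}

theorem DF_conj {g a e : X} (ha : a ∈ DF D g) (he : e ∈ DF D g) : a * e * a⁻¹ ∈ DF D g := by
  refine ⟨H.ts.cj e he.1 a, ?_⟩
  have h1 := Tw.act H.ts ha.1 (H.ts.cj a ha.1 g) he.1 ha.2
  have h2 := he.2.conj H.ts (g * a * g⁻¹)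
  have e1 : (g * a * g⁻¹) * (g * e * g⁻¹) * (g * a * g⁻¹)⁻¹ = g * (a * e * a⁻¹) * g⁻¹ := by group
  rw [e1] at h2
  exact h1.trans h2

theorem card_class [Finite X] {t : X} (ht : t ∈ D) :
    Nat.card {e : X // e ∈ D ∧ Tw D t e} = Nat.card {e : X // e ∈ D ∧ Tw D (d 0) e} := by
  obtain ⟨k, hk⟩ := tr_all H ht
  refine Nat.card_congr
    { toFun := fun e => ⟨k * e * k⁻¹, H.ts.cj e e.2.1 k, ?_⟩
      invFun := fun e => ⟨k⁻¹ * e * k, ?_, ?_⟩
      left_inv := ?_
      right_inv := ?_ }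
  · rw [← hk]
    exact e.2.2.conj H.ts k
  · have := H.ts.cj e e.2.1 k⁻¹
    rwa [inv_inv] at this
  · have h1 := e.2.2.conj H.ts k⁻¹
    have e1 : k⁻¹ * d 0 * k⁻¹⁻¹ = t := by rw [← hk]; group
    rw [e1, inv_inv] at h1
    exact h1
  · intro e
    apply Subtype.ext
    show k⁻¹ * (k * (e : X) * k⁻¹) * k = e
    group
  · intro e
    apply Subtype.ext
    show k * (k⁻¹ * (e : X) * k) * k⁻¹ = e
    group

/-- if no two members of `DF D g` commute, then their number is a power of three -/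
theorem card_DF [Finite X] {g : X} (hn : ∀ a ∈ DF D g, ∀ e ∈ DF D g, a * e * a = e * a * e) {a0 : X}
    (ha0 : a0 ∈ DF D g) : ∃ n, Nat.card (DF D g) = 3 ^ n := by
  have : Fact (Nat.Prime 3) := ⟨Nat.prime_three⟩
  set K := Subgroup.closure (DF D g) with hK
  have hcj : ∀ k ∈ K, ∀ e ∈ DF D g, k * e * k⁻¹ ∈ DF D g ∧ k⁻¹ * e * k ∈ DF D g := by
    intro k hk
    induction hk using Subgroup.closure_induction with
    | mem a ha =>
      intro e he
      have h1 := DF_conj H ha he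
      have h2 := H.ts.inv_eq ha.1
      refine ⟨h1, ?_⟩
      rw [h2] at h1 ⊢
      exact h1
    | one => intro e he; constructor <;> simpa using he
    | mul a b _ _ iha ihb =>
      intro e he
      constructor
      · have h1 := (iha _ (ihb e he).1).1
        have e1 : a * (b * e * b⁻¹) * a⁻¹ = a * b * e * (a * b)⁻¹ := by group
        rwa [e1] at h1
      · have h1 := (ihb _ (iha e he).2).2
        have e1 : b⁻¹ * (a⁻¹ * e * a) * b = (a * b)⁻¹ * e * (a * b) := by group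
        rwa [e1] at h1
    | inv a _ iha =>
      intro e he
      rw [inv_inv]
      exact ⟨(iha e he).2, (iha e he).1⟩
  let DK : Set K := {k | (k : X) ∈ DF D g}
  have hH : HTSet DK :=
    { sq := fun e he => Subtype.ext (H.ts.sq _ he.1)
      br := fun a ha e he => Subtype.ext (hn _ ha _ he)
      cj := fun k e he => (hcj k k.2 _ he).1 }
  set R : Subgroup K := Subgroup.closure {y : K | ∃ a ∈ DK, ∃ e ∈ DK, y = a * e} with hRd
  have hR : IsPGroup 3 R := isPGroup_closure_products hH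
  let a : K := ⟨a0, Subgroup.subset_closure ha0⟩
  let _ : MulAction R K := MulAction.compHom K ((MulAut.conj (G := K)).comp R.subtype)
  have hsm : ∀ (r : R) (k : K), r • k = (r : K) * k * (r : K)⁻¹ := fun r k => rfl
  obtain ⟨n, hn'⟩ := hR.card_orbit a
  refine ⟨n, ?_⟩
  rw [← hn']
  have horb : ∀ k : K, k ∈ MulAction.orbit R a ↔ k ∈ DK := by
    intro k
    constructor
    · rintro ⟨r, rfl⟩
      show (r • a) ∈ DK
      rw [hsm]
      exact (hcj _ (r : K).2 _ ha0).1
    · intro hk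
      refine ⟨⟨a * k, Subgroup.subset_closure ⟨a, ha0, k, hk, rfl⟩⟩, ?_⟩
      show ((⟨a * k, _⟩ : R) • a : K) = k
      rw [hsm]
      have h1 := hH.br a ha0 k hk
      have h2 : a⁻¹ = a := hH.inv_eq ha0
      have h3 : k⁻¹ = k := hH.inv_eq hk
      have h4 := hH.sq a ha0
      calc (a * k) * a * (a * k)⁻¹ = (a * k * a) * k⁻¹ * a⁻¹ := by group
        _ = (a * k * a) * k * a := by rw [h2, h3]
        _ = a * (k * a * k) * a := by simp only [mul_assoc]
        _ = (a * a) * k * (a * a) := by rw [← h1]; simp only [mul_assoc]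
        _ = k := by rw [h4, one_mul, mul_one]
  refine Nat.card_congr
    { toFun := fun e => ⟨⟨e, Subgroup.subset_closure e.2⟩, (horb _).2 e.2⟩
      invFun := fun k => ⟨(k : K), (horb _).1 k.2⟩
      left_inv := fun e => rfl
      right_inv := fun k => rfl }

/-- **Case C, no two commuting fixed classes**: impossible -/
theorem caseC2 [Finite X] (Gm : Geo D z) {g : X}
    (hC : ∀ p ∈ D, ¬ Tw D p (g * p * g⁻¹) → ∀ b ∈ Nb D p, ∃ a ∈ Nb D p, (a ∈ Nb D b ∨ Tw D b a) ∧ Tw D a (g * a * g⁻¹))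
    (hnn : ∀ e ∈ DF D g, ∀ a ∈ Nb D e, ¬ Tw D a (g * a * g⁻¹)) : False := by
  classical
  have hfin : Fintype ↥(T0 D z) := Fintype.ofFinite _
  have fx_tw : ∀ {a b : X}, Tw D a b → Tw D a (g * a * g⁻¹) → Tw D b (g * b * g⁻¹) := fun {a b} h h1 =>
    (h.symm.trans h1).trans (h.conj H.ts g)
  have hcardset : ∀ (P : ↥(T0 D z) → Prop) (S : Set X), (∀ y : X, y ∈ S ↔ ∃ h : y ∈ T0 D z, P ⟨y, h⟩) →
      (Finset.univ.filter fun t => P t).card = S.ncard := by
    intro P S hS
    rw [← Set.ncard_coe_finset]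
    have : S = Subtype.val '' (((Finset.univ.filter fun t => P t) : Finset ↥(T0 D z)) : Set ↥(T0 D z)) := by
      ext y
      rw [hS]
      constructor
      · rintro ⟨h, hp⟩
        exact ⟨⟨y, h⟩, by simpa only [_root_.Finset.coe_filter, _root_.Finset.mem_univ, _root_.true_and, _root_.Set.mem_ofPred_eq] using hp, rfl⟩
      · rintro ⟨⟨w, h⟩, hp, rfl⟩
        exact ⟨h, by simpa only [_root_.Finset.coe_filter, _root_.Finset.mem_univ, _root_.true_and, _root_.Set.mem_ofPred_eq] using hp⟩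
    rw [this, Set.ncard_image_of_injective _ Subtype.val_injective]
  have h33 : (Finset.univ.filter fun t : ↥(T0 D z) => Tw D (t : X) (g * (t : X) * g⁻¹)).card = 33 := by
    convert count (V := ↥(T0 D z)) (A := fun s t => (t : X) ∈ Nb D (s : X))
      (F := fun t => Tw D (t : X) (g * (t : X) * g⁻¹)) ?_ ?_ ?_ ?_ ?_ ?_ ?_ using 2
    · intro s t h
      exact nb_symm s.2.1 h
    · rw [← Nat.card_eq_fintype_card, Nat.card_coe_set_eq, Gm.cV]
    · intro s
      rw [← Gm.cN s s.2]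
      convert hcardset (fun t => (t : X) ∈ Nb D (s : X)) (Nb D (s : X) ∩ T0 D z) ?_ using 2
      intro y
      exact ⟨fun h => ⟨h.2, h.1⟩, fun ⟨h1, h2⟩ => ⟨h2, h1⟩⟩
    · intro s q hsq
      rw [← Gm.cL s s.2 q ⟨hsq, q.2⟩]
      convert hcardset (fun a => (a : X) ∈ Nb D (s : X) ∧ (a = q ∨ (a : X) ∈ Nb D (q : X)))
        {a | a ∈ Nb D (s : X) ∩ T0 D z ∧ (a = q ∨ a ∈ Nb D (q : X))} ?_ using 4
      intro y
      constructor
      · rintro ⟨⟨h1, h2⟩, h3 | h3⟩
        · exact ⟨h2, h1, Or.inl (Subtype.ext h3)⟩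
        · exact ⟨h2, h1, Or.inr h3⟩
      · rintro ⟨h1, h2, h3 | h3⟩
        · exact ⟨⟨h2, h1⟩, Or.inl (congrArg Subtype.val h3)⟩
        · exact ⟨⟨h2, h1⟩, Or.inr h3⟩
    · intro s hs a hsa
      obtain ⟨q, h1, h2, h3⟩ := hC s s.2.1 hs a hsa
      obtain ⟨t, ht, htz, hqt⟩ := H.tw q h1.1
      refine ⟨⟨t, ht, htz⟩, nb_tw' s.2.1 ht hqt h1, ?_, fx_tw hqt h3⟩
      rcases h2 with h2 | h2
      · right
        exact nb_tw' a.2.1 ht hqt h2
      · left
        apply Subtype.ext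
        exact (un_T0 H a.2 ⟨ht, htz⟩ (h2.trans hqt)).symm
    · intro s hs a q q' hsa hsq haq hq hsq' haq' hq'
      have h1 : (a : X) ∈ Nb D (q : X) ∨ Tw D (q : X) (a : X) := by
        rcases haq with rfl | h
        · exact Or.inr (Tw.refl _)
        · exact Or.inl (nb_symm a.2.1 h)
      have h2 : (q' : X) ∈ Nb D (a : X) ∨ Tw D (a : X) (q' : X) := by
        rcases haq' with rfl | h
        · exact Or.inr (Tw.refl _)
        · exact Or.inl h
      rcases Gm.line s s.2.1 q hsq a hsa q' hsq' h1 h2 with h3 | h3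
      · exact absurd hq' (hnn q ⟨q.2.1, hq⟩ q' h3)
      · exact Subtype.ext (un_T0 H q.2 q'.2 h3)
    · intro q a hq hqa
      exact hnn q ⟨q.2.1, hq⟩ a hqa
  -- a member
  have hne : ∃ t : ↥(T0 D z), Tw D (t : X) (g * (t : X) * g⁻¹) := by
    by_contra hcon
    push Not at hcon
    rw [Finset.filter_false_of_mem (fun t _ => hcon t)] at h33
    simp at h33
  obtain ⟨t0, ht0⟩ := hne
  obtain ⟨n, hn⟩ := card_DF H (g := g) (by
    intro a ha e he
    rcases H.ts.tri a ha.1 e he.1 with h1 | h1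
    · by_cases hae : a = e
      · rw [hae]
      · exact absurd he.2 (hnn a ha e ⟨he.1, fun h => hae h.symm, h1⟩)
    · exact h1) (a0 := t0) ⟨t0.2.1, ht0⟩
  -- the fibres
  have hcard : Nat.card (DF D g) = 33 * Nat.card {e : X // e ∈ D ∧ Tw D (d 0) e} := by
    have h1 : Nat.card (DF D g) = Nat.card (Σ t : {t : ↥(T0 D z) // Tw D (t : X) (g * (t : X) * g⁻¹)},
        {e : X // e ∈ D ∧ Tw D ((t : ↥(T0 D z)) : X) e}) := by
      have hex : ∀ e : DF D g, ∃ t : ↥(T0 D z), Tw D (t : X) (e : X) := by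
        intro e
        obtain ⟨t, ht, htz, het⟩ := H.tw _ e.2.1
        exact ⟨⟨t, ht, htz⟩, het.symm⟩
      choose f hf using hex
      refine Nat.card_congr (Equiv.ofBijective (fun e => ⟨⟨f e, fx_tw (hf e).symm e.2.2⟩, ⟨e, e.2.1, hf e⟩⟩) ⟨?_, ?_⟩)
      · intro e e' h
        have h2 : ((⟨⟨f e, fx_tw (hf e).symm e.2.2⟩, ⟨(e : X), e.2.1, hf e⟩⟩ :
          (Σ t : {t : ↥(T0 D z) // Tw D (t : X) (g * (t : X) * g⁻¹)}, {e : X // e ∈ D ∧ Tw D ((t : ↥(T0 D z)) : X) e})).2 : X) =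
          ((⟨⟨f e', fx_tw (hf e').symm e'.2.2⟩, ⟨(e' : X), e'.2.1, hf e'⟩⟩ :
          (Σ t : {t : ↥(T0 D z) // Tw D (t : X) (g * (t : X) * g⁻¹)}, {e : X // e ∈ D ∧ Tw D ((t : ↥(T0 D z)) : X) e})).2 : X) :=
          congrArg (fun y : (Σ t : {t : ↥(T0 D z) // Tw D (t : X) (g * (t : X) * g⁻¹)},
            {e : X // e ∈ D ∧ Tw D ((t : ↥(T0 D z)) : X) e}) => (y.2 : X)) h
        exact Subtype.ext h2
      · rintro ⟨⟨t, ht⟩, ⟨e, he, hte⟩⟩
        have h2 : f ⟨e, he, fx_tw hte ht⟩ = t := Subtype.ext (un_T0 H (Subtype.coe_prop _) t.2 ((hf ⟨e, he, fx_tw hte ht⟩).trans hte.symm))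
        exact ⟨⟨e, he, fx_tw hte ht⟩, Sigma.subtype_ext (Subtype.ext h2) rfl⟩
    rw [h1, Nat.card_sigma]
    rw [Finset.sum_congr rfl (fun (t : {t : ↥(T0 D z) // Tw D (t : X) (g * (t : X) * g⁻¹)}) _ => card_class H t.1.2.1),
      Finset.sum_const, smul_eq_mul]
    congr 1
    rw [Finset.card_univ, Fintype.card_subtype, ← h33]
  have h11 : 11 ∣ 3 ^ n := by
    rw [← hn, hcard]
    exact ⟨3 * Nat.card {e : X // e ∈ D ∧ Tw D (d 0) e}, by ring⟩
  have h12 := (Nat.Prime.dvd_of_dvd_pow (by norm_num) h11 : 11 ∣ 3)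
  omega

/-- **the main result** -/
theorem rank [Finite X] (Gm : Geo D z) (hc : Nat.card (Qc D (d 0)) = 27) (hx : Nat.card (zpowers x) = 3) {g : X}
    (hg : Commute g x) {n : ℕ} (hn : g ^ 3 ^ n = 1) {p0 : X} (hp0 : p0 ∈ D) (hpt0 : ¬ Tw D p0 (g * p0 * g⁻¹)) :
    Nat.card ↥(centralizer ({g} : Set X) ⊓ QQ D) ≤ 3 ^ 7 := by
  by_cases hA : ∃ p ∈ D, g * p * g⁻¹ ∈ Nb D p
  · obtain ⟨p, hp, h⟩ := hA
    exact caseA H Gm hc hx hg hn hp h
  have hno : NoA D g := fun p hp h => hA ⟨p, hp, h⟩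
  by_cases hB : ∃ p ∈ D, ∃ a ∈ Nb D p, ¬ Tw D p (g * p * g⁻¹) ∧ g * p * g⁻¹ ∈ Nb D a ∧ ¬ Tw D a (g * a * g⁻¹)
  · obtain ⟨p, hp, a, ha, h1, h2, h3⟩ := hB
    exact caseB H Gm hc hx hg hno hp h1 ha h2 h3
  have hB' : ∀ p ∈ D, ∀ a ∈ Nb D p, ¬ Tw D p (g * p * g⁻¹) → g * p * g⁻¹ ∈ Nb D a → Tw D a (g * a * g⁻¹) := by
    intro p hp a ha h1 h2
    by_contra h3
    exact hB ⟨p, hp, a, ha, h1, h2, h3⟩
  by_cases hC : ∃ e ∈ DF D g, ∃ a ∈ Nb D e, Tw D a (g * a * g⁻¹)
  · obtain ⟨e, he, a, ha, hat⟩ := hC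
    exact caseC1 H Gm hc hx hg hn hno hp0 hpt0 he.1 he.2 ha hat
  · exfalso
    refine caseC2 H Gm (g := g) ?_ ?_
    · intro p hp hpt b hb
      exact caseC H Gm hno hB' hp hpt hb
    · intro e he a ha hat
      exact hC ⟨e, he, a, ha, hat⟩

end

end Cfsg.Agent.H597.OreFi
end

private theorem dce_6aa07b3ea87d : _root_.True := by
  try have : _root_.True := by simp only [_root_.Cfsg.Agent.H841.Ext.QQ.eq_1]
  exact _root_.True.intro
end
end
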